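import Mathlib
set_option autoImplicit false
universe v v' u u'
open CategoryTheory Limits

namespace Groth.Agent.Acyclic

variable {𝒜 : Type u} [Category.{v} 𝒜] [Abelian 𝒜] [EnoughInjectives 𝒜]
  {ℬ : Type u'} [Category.{v'} ℬ] [Abelian ℬ]
  (G : 𝒜 ⥤ ℬ) [G.Additive] [PreservesFiniteLimits G]
  (P : ObjectProperty 𝒜)

/-- data of the induction: a subobject `Z ↪ X` which is a kernel of `d : X ⟶ Y`, with `Z ∈ P`. -/
structure KerData {X Y : 𝒜} (d : X ⟶ Y) where
  Z : 𝒜
  i : Z ⟶ X
  zero : i ≫ d = 0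
  mono : Mono i
  exact : (ShortComplex.mk i d zero).Exact
  mem : P Z

variable {G P}

/-- the induction step. -/
theorem step (hP_inj : ∀ I : 𝒜, Injective I → P I)
    (hP_coker : ∀ S : ShortComplex 𝒜, S.ShortExact → P S.X₁ → P S.X₂ → P S.X₃)
    (hP_epi : ∀ S : ShortComplex 𝒜, S.ShortExact → P S.X₁ → Epi (G.map S.g))
    {X Y W : 𝒜} [Injective X] (d : X ⟶ Y) (d' : Y ⟶ W) (hdd : d ≫ d' = 0)
    (hex : (ShortComplex.mk d d' hdd).Exact) (k : KerData P d) :
    Nonempty (KerData P d') ∧
      (ShortComplex.mk (G.map d) (G.map d') (by rw [← G.map_comp, hdd, G.map_zero])).Exact := by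
  have := k.mono
  -- the short exact sequence `0 → Z → X → coker → 0`
  let S : ShortComplex 𝒜 := ShortComplex.mk k.i (cokernel.π k.i) (cokernel.condition _)
  have hS : S.ShortExact := by
    have : Mono S.f := k.mono
    have : Epi S.g := by dsimp [S]; infer_instance
    exact ShortComplex.ShortExact.mk (ShortComplex.exact_cokernel _)
  let j : cokernel k.i ⟶ Y := cokernel.desc k.i d k.zero
  have hj : Mono j := (ShortComplex.exact_iff_mono_cokernel_desc _).1 k.exact
  have hπj : cokernel.π k.i ≫ j = d := cokernel.π_desc _ _ _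
  have hjd' : j ≫ d' = 0 := by
    rw [← cancel_epi (cokernel.π k.i), ← Category.assoc, hπj, hdd, comp_zero]
  -- morphism of short complexes `(d, d') ⟶ (j, d')`
  let φ : ShortComplex.mk d d' hdd ⟶ ShortComplex.mk j d' hjd' :=
    { τ₁ := cokernel.π k.i
      τ₂ := 𝟙 _
      τ₃ := 𝟙 _
      comm₁₂ := by dsimp; rw [hπj, Category.comp_id]
      comm₂₃ := by dsimp; rw [Category.comp_id, Category.id_comp] }
  have : Epi φ.τ₁ := by dsimp [φ]; infer_instance
  have : IsIso φ.τ₂ := by dsimp [φ]; infer_instance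
  have : Mono φ.τ₃ := by dsimp [φ]; infer_instance
  have hex' : (ShortComplex.mk j d' hjd').Exact :=
    (ShortComplex.exact_iff_of_epi_of_isIso_of_mono φ).1 hex
  have hmem : P (cokernel k.i) := hP_coker S hS k.mem (hP_inj _ inferInstance)
  refine ⟨⟨⟨cokernel k.i, j, hjd', hj, hex', hmem⟩⟩, ?_⟩
  -- exactness after applying `G`
  have h31 := (Functor.preservesFiniteLimits_tfae G).out 3 1
  have hG := h31.mp ‹PreservesFiniteLimits G› (ShortComplex.mk j d' hjd') ⟨hex', hj⟩
  have hepi : Epi (G.map (cokernel.π k.i)) := hP_epi S hS k.mem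
  let ψ : ShortComplex.mk (G.map d) (G.map d') (by rw [← G.map_comp, hdd, G.map_zero]) ⟶
      (ShortComplex.mk j d' hjd').map G :=
    { τ₁ := G.map (cokernel.π k.i)
      τ₂ := 𝟙 _
      τ₃ := 𝟙 _
      comm₁₂ := by
        show G.map (cokernel.π k.i) ≫ G.map j = G.map d ≫ 𝟙 _
        rw [← G.map_comp, hπj, Category.comp_id]
      comm₂₃ := by
        show 𝟙 _ ≫ G.map d' = G.map d' ≫ 𝟙 _
        rw [Category.comp_id, Category.id_comp] }
  have : Epi ψ.τ₁ := hepi
  have : IsIso ψ.τ₂ := IsIso.id _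
  have : Mono ψ.τ₃ := (inferInstance : Mono (𝟙 (G.obj W)))
  exact (ShortComplex.exact_iff_of_epi_of_isIso_of_mono ψ).2 hG.1

/-- **Acyclic objects for right derived functors.**  Let `G` be a left exact additive functor and
`P` a class of objects containing the injectives, closed under cokernels of monomorphisms and such
that `G` sends epimorphisms with kernel in `P` to epimorphisms.  Then `R^{n+1} G` vanishes on `P`. -/
theorem isZero_rightDerived_succ (hP_inj : ∀ I : 𝒜, Injective I → P I)
    (hP_coker : ∀ S : ShortComplex 𝒜, S.ShortExact → P S.X₁ → P S.X₂ → P S.X₃)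
    (hP_epi : ∀ S : ShortComplex 𝒜, S.ShortExact → P S.X₁ → Epi (G.map S.g))
    (F : 𝒜) (hF : P F) (n : ℕ) : IsZero ((G.rightDerived (n + 1)).obj F) := by
  let I := InjectiveResolution.of F
  have key : ∀ n, Nonempty (KerData P (I.cocomplex.d n (n + 1))) := by
    intro n
    induction n with
    | zero =>
      exact ⟨⟨F, I.ι.f 0, I.ι_f_zero_comp_complex_d, mono_of_isLimit_fork I.isLimitKernelFork,
        I.exact₀, hF⟩⟩
    | succ n ih =>
      obtain ⟨k⟩ := ih
      exact (step hP_inj hP_coker hP_epi _ _ (I.complex_d_comp n) (I.exact_succ n) k).1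
  obtain ⟨k⟩ := key n
  have hex := (step hP_inj hP_coker hP_epi _ _ (I.complex_d_comp n) (I.exact_succ n) k).2
  have hE : ((G.mapHomologicalComplex _).obj I.cocomplex).ExactAt (n + 1) := by
    rw [HomologicalComplex.exactAt_iff' _ n (n + 1) (n + 2) (by simp)
      (by simp only [CochainComplex.next]; rfl)]
    exact hex
  exact IsZero.of_iso hE.isZero_homology (I.isoRightDerivedObj G (n + 1))

end Groth.Agent.Acyclic
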