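import Mathlib

/-! Ext groups computed from injective resolutions: comparison lemma. -/

set_option autoImplicit false
universe w v u w' v' u'
open CategoryTheory Abelian CochainComplex HomComplex Limits

namespace Groth.Agent.ExtRes

section
variable {C : Type u} [Category.{v} C] [Abelian C] [HasExt.{w} C] {X Y : C}
  (R : InjectiveResolution Y)

lemma extMk_zero_eq_zero_iff (f : X ⟶ R.cocomplex.X 0) (hf : f ≫ R.cocomplex.d 0 1 = 0) :
    R.extMk f 1 rfl hf = 0 ↔ f = 0 := by
  simp only [← R.extEquivCohomologyClass.apply_eq_iff_eq,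
    InjectiveResolution.extEquivCohomologyClass_extMk,
    InjectiveResolution.extEquivCohomologyClass_zero,
    CohomologyClass.mk_eq_zero_iff]
  rw [Cocycle.fromSingleMk_mem_coboundaries_iff _ _ _ _ _ (-1) (by lia)]
  constructor
  · rintro ⟨g, hg⟩
    have hz : IsZero (R.cochainComplex.X (-1)) := isZero_of_isStrictlyGE R.cochainComplex 0 (-1)
    have hg0 : g = 0 := hz.eq_of_tgt _ _
    rw [hg0, zero_comp] at hg
    have := congrArg (· ≫ (R.cochainComplexXIso 0 0 rfl).hom) hg
    simpa using this.symm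
  · rintro rfl
    exact ⟨0, by simp⟩

/-- the group of degree `n` cocycles `X ⟶ Iⁿ`. -/
def Z (X : C) (n : ℕ) : AddSubgroup (X ⟶ R.cocomplex.X n) :=
  AddMonoidHom.ker (Preadditive.rightComp X (R.cocomplex.d n (n + 1)))

omit [HasExt.{w} C] in
lemma mem_Z (n : ℕ) (f : X ⟶ R.cocomplex.X n) : f ∈ Z R X n ↔ f ≫ R.cocomplex.d n (n + 1) = 0 :=
  Iff.rfl

/-- the class of a cocycle. -/
noncomputable def mk (n : ℕ) : Z R X n →+ Ext X Y n where
  toFun f := R.extMk f.1 (n + 1) rfl f.2
  map_zero' := R.extMk_zero _ rfl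
  map_add' f g := (R.add_extMk f.1 g.1 (n + 1) rfl f.2 g.2).symm

lemma mk_surjective (n : ℕ) : Function.Surjective (mk R (X := X) n) := by
  intro α
  obtain ⟨f, hf, rfl⟩ := R.extMk_surjective α (n + 1) rfl
  exact ⟨⟨f, hf⟩, rfl⟩

lemma mk_eq_zero_iff_succ (n : ℕ) (f : Z R X (n + 1)) :
    mk R (n + 1) f = 0 ↔ ∃ g : X ⟶ R.cocomplex.X n, g ≫ R.cocomplex.d n (n + 1) = f.1 :=
  R.extMk_eq_zero_iff f.1 (n + 1 + 1) rfl f.2 n rfl

lemma mk_eq_zero_iff_zero (f : Z R X 0) : mk R 0 f = 0 ↔ f.1 = 0 :=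
  extMk_zero_eq_zero_iff R f.1 f.2

/-- `Ext X Y (n+1)` is the quotient of the cocycles by the coboundaries: any surjection from the
cocycles with kernel the coboundaries identifies its target with `Ext`. -/
theorem nonempty_addEquiv_of_surjective {G : Type*} [AddCommGroup G] (n : ℕ)
    (φ : Z R X (n + 1) →+ G) (hφ : Function.Surjective φ)
    (hker : ∀ f : Z R X (n + 1),
      φ f = 0 ↔ ∃ g : X ⟶ R.cocomplex.X n, g ≫ R.cocomplex.d n (n + 1) = f.1) :
    Nonempty (Ext X Y (n + 1) ≃+ G) := by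
  have hk : (mk R (X := X) (n + 1)).ker = φ.ker := by
    ext f
    simp only [AddMonoidHom.mem_ker]
    rw [mk_eq_zero_iff_succ, hker]
  exact ⟨(QuotientAddGroup.quotientKerEquivOfSurjective _ (mk_surjective R (n + 1))).symm.trans
    ((QuotientAddGroup.quotientAddEquivOfEq hk).trans
      (QuotientAddGroup.quotientKerEquivOfSurjective φ hφ))⟩

end

section
variable {C : Type u} [Category.{v} C] [Abelian C] [HasExt.{w} C]
  {D : Type u'} [Category.{v'} D] [Abelian D] [HasExt.{w'} D]
  {A Y : C} {B Y' : D} (R : InjectiveResolution Y) (R' : InjectiveResolution Y')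
  (e : ∀ n : ℕ, (A ⟶ R.cocomplex.X n) ≃+ (B ⟶ R'.cocomplex.X n))
  (he : ∀ (n : ℕ) (g : A ⟶ R.cocomplex.X n),
    e (n + 1) (g ≫ R.cocomplex.d n (n + 1)) = e n g ≫ R'.cocomplex.d n (n + 1))

omit [HasExt.{w} C] [HasExt.{w'} D] in
include he in
lemma he_symm (n : ℕ) (g : B ⟶ R'.cocomplex.X n) :
    (e (n + 1)).symm (g ≫ R'.cocomplex.d n (n + 1)) = (e n).symm g ≫ R.cocomplex.d n (n + 1) := by
  apply (e (n + 1)).injective
  rw [AddEquiv.apply_symm_apply, he, AddEquiv.apply_symm_apply]

/-- transport of cocycles. -/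
noncomputable def mapZ (n : ℕ) : Z R A n →+ Z R' B n where
  toFun f := ⟨e n f.1, by
    rw [mem_Z, ← he, (mem_Z R n f.1).mp f.2, map_zero]⟩
  map_zero' := by ext; simp
  map_add' f g := by ext; simp

include he in
lemma mapZ_surjective (n : ℕ) : Function.Surjective (mapZ R R' e he n) := by
  intro f
  refine ⟨⟨(e n).symm f.1, ?_⟩, ?_⟩
  · rw [mem_Z, ← he_symm R R' e he, (mem_Z R' n f.1).mp f.2, map_zero]
  · ext
    simp [mapZ]

include R R' e he in
/-- Ext groups computed by injective resolutions related by compatible additive bijections on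
Hom groups are isomorphic. -/
theorem nonempty_extAddEquiv (n : ℕ) : Nonempty (Ext A Y n ≃+ Ext B Y' n) := by
  let φ : Z R A n →+ Ext B Y' n := (mk R' n).comp (mapZ R R' e he n)
  have hφ : Function.Surjective φ := (mk_surjective R' n).comp (mapZ_surjective R R' e he n)
  have hker : (mk R (X := A) n).ker = φ.ker := by
    ext f
    simp only [AddMonoidHom.mem_ker, φ, AddMonoidHom.comp_apply]
    cases n with
    | zero =>
      rw [mk_eq_zero_iff_zero, mk_eq_zero_iff_zero]
      simp [mapZ]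
    | succ n =>
      rw [mk_eq_zero_iff_succ, mk_eq_zero_iff_succ]
      constructor
      · rintro ⟨g, hg⟩
        exact ⟨e n g, by rw [← he, hg]; rfl⟩
      · rintro ⟨g, hg⟩
        refine ⟨(e n).symm g, ?_⟩
        rw [← he_symm R R' e he, hg]
        simp [mapZ]
  exact ⟨(QuotientAddGroup.quotientKerEquivOfSurjective _ (mk_surjective R n)).symm.trans
    ((QuotientAddGroup.quotientAddEquivOfEq hker).trans
      (QuotientAddGroup.quotientKerEquivOfSurjective φ hφ))⟩

end

end Groth.Agent.ExtRes
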