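import Groth.Agent.Lib.ExtCompare
import Groth.Agent.Lib.ExtRes

/-! `Hom(B, -)`-acyclic objects and complexes with acyclic terms and acyclic cohomology. -/

set_option autoImplicit false
universe w v u w' v' u'
open CategoryTheory Limits Abelian

namespace Groth.Agent.AcyclicCx

variable {D : Type u} [Category.{v} D] [Abelian D] [HasExt.{w} D] (B : D)

/-- `M` is acyclic for `Hom(B, -)`. -/
def IsAcyclic (M : D) : Prop := ∀ (m : ℕ) (x : Ext B M (m + 1)), x = 0

lemma isAcyclic_of_injective (M : D) [Injective M] : IsAcyclic B M :=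
  fun _ x => Ext.eq_zero_of_injective x

variable {B}

lemma isAcyclic_of_iso {M M' : D} (e : M ≅ M') (h : IsAcyclic B M) : IsAcyclic B M' := by
  intro m x
  have : x = (x.comp (Ext.mk₀ e.inv) (add_zero _)).comp (Ext.mk₀ e.hom) (add_zero _) := by
    rw [Ext.comp_assoc_of_third_deg_zero, Ext.mk₀_comp_mk₀, e.inv_hom_id, Ext.comp_mk₀_id]
  rw [this, h m (x.comp (Ext.mk₀ e.inv) (add_zero _)), Ext.zero_comp]

lemma isAcyclic_X₃ {S : ShortComplex D} (hS : S.ShortExact) (h₁ : IsAcyclic B S.X₁)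
    (h₂ : IsAcyclic B S.X₂) : IsAcyclic B S.X₃ := by
  intro m x
  obtain ⟨y, rfl⟩ := Ext.covariant_sequence_exact₃ B hS x rfl (h₁ (m + 1) _)
  rw [h₂ m y, Ext.zero_comp]

lemma isAcyclic_X₂ {S : ShortComplex D} (hS : S.ShortExact) (h₁ : IsAcyclic B S.X₁)
    (h₃ : IsAcyclic B S.X₃) : IsAcyclic B S.X₂ := by
  intro m x
  obtain ⟨y, rfl⟩ := Ext.covariant_sequence_exact₂ B hS x (h₃ m _)
  rw [h₁ m y, Ext.zero_comp]

lemma exists_lift {S : ShortComplex D} (hS : S.ShortExact) (h₁ : IsAcyclic B S.X₁)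
    (φ : B ⟶ S.X₃) : ∃ ψ : B ⟶ S.X₂, ψ ≫ S.g = φ :=
  (Groth.Agent.ExtCompare.δ_ker hS B φ).mp (h₁ 0 _)


section Complex

variable (K : CochainComplex D ℕ)

/-- cocycle object `W q = ker(d : K^q → K^{q+1})`. -/
noncomputable abbrev W (q : ℕ) : D := kernel (K.d q (q + 1))

/-- the map `K^q → W (q+1)` induced by the differential. -/
noncomputable def toW (q : ℕ) : K.X q ⟶ W K (q + 1) :=
  kernel.lift _ (K.d q (q + 1)) (K.d_comp_d _ _ _)

omit [HasExt.{w} D] in
@[reassoc (attr := simp)]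
lemma toW_ι (q : ℕ) : toW K q ≫ kernel.ι (K.d (q + 1) (q + 1 + 1)) = K.d q (q + 1) :=
  kernel.lift_ι _ _ _

omit [HasExt.{w} D] in
@[reassoc (attr := simp)]
lemma ι_toW (q : ℕ) : kernel.ι (K.d q (q + 1)) ≫ toW K q = 0 := by
  rw [← cancel_mono (kernel.ι (K.d (q + 1) (q + 1 + 1))), Category.assoc, toW_ι,
    kernel.condition, zero_comp]

/-- `0 → W q → K^q → im(toW q) → 0`. -/
noncomputable def sc2 (q : ℕ) : ShortComplex D :=
  ShortComplex.mk (kernel.ι (K.d q (q + 1))) (Abelian.factorThruImage (toW K q)) (by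
    rw [← cancel_mono (Abelian.image.ι (toW K q)), Category.assoc, Abelian.image.fac, ι_toW,
      zero_comp])

omit [HasExt.{w} D] in
lemma sc2_shortExact (q : ℕ) : (sc2 K q).ShortExact := by
  have : Mono (sc2 K q).f := by dsimp [sc2]; infer_instance
  have : Epi (sc2 K q).g := by dsimp [sc2]; infer_instance
  refine ShortComplex.ShortExact.mk (ShortComplex.exact_of_f_is_kernel _ ?_)
  exact isKernelOfComp (f := Abelian.factorThruImage (toW K q))
    (Abelian.image.ι (toW K q) ≫ kernel.ι (K.d (q + 1) (q + 1 + 1))) (K.d q (q + 1))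
    (kernelIsKernel (K.d q (q + 1))) (sc2 K q).zero (by simp)

/-- `0 → im(toW q) → W (q+1) → coker(toW q) → 0`. -/
noncomputable def sc1 (q : ℕ) : ShortComplex D :=
  ShortComplex.mk (Abelian.image.ι (toW K q)) (cokernel.π (toW K q)) (kernel.condition _)

omit [HasExt.{w} D] in
lemma sc1_shortExact (q : ℕ) : (sc1 K q).ShortExact := by
  have : Mono (sc1 K q).f := by dsimp [sc1]; infer_instance
  have : Epi (sc1 K q).g := by dsimp [sc1]; infer_instance
  exact ShortComplex.ShortExact.mk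
    (ShortComplex.exact_of_f_is_kernel _ (kernelIsKernel (cokernel.π (toW K q))))

variable {K}
variable (hK : ∀ n, IsAcyclic B (K.X n)) (hW0 : IsAcyclic B (W K 0))
  (hH : ∀ q, IsAcyclic B (cokernel (toW K q)))

include hK hW0 hH in
lemma isAcyclic_W : ∀ q, IsAcyclic B (W K q)
  | 0 => hW0
  | q + 1 => isAcyclic_X₂ (sc1_shortExact K q)
      (isAcyclic_X₃ (sc2_shortExact K q) (isAcyclic_W q) (hK q)) (hH q)

include hK hW0 hH in
lemma isAcyclic_image (q : ℕ) : IsAcyclic B (Abelian.image (toW K q)) :=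
  isAcyclic_X₃ (sc2_shortExact K q) (isAcyclic_W hK hW0 hH q) (hK q)

variable (B K)

/-- the group of cocycles `B ⟶ K^q`. -/
def Zgrp (q : ℕ) : AddSubgroup (B ⟶ K.X q) :=
  AddMonoidHom.ker (Preadditive.rightComp B (K.d q (q + 1)))

variable {B K}

omit [HasExt.{w} D] in
lemma mem_Zgrp (q : ℕ) (g : B ⟶ K.X q) : g ∈ Zgrp B K q ↔ g ≫ K.d q (q + 1) = 0 := Iff.rfl

variable (B K)

/-- cocycles map to `Hom(B, H^{q+1})`. -/
noncomputable def toH (q : ℕ) : Zgrp B K (q + 1) →+ (B ⟶ cokernel (toW K q)) where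
  toFun g := kernel.lift _ g.1 g.2 ≫ cokernel.π _
  map_zero' := by
    have : kernel.lift (K.d (q + 1) (q + 1 + 1)) (0 : B ⟶ K.X (q + 1)) (by simp) = 0 := by
      rw [← cancel_mono (kernel.ι _)]; simp
    show kernel.lift _ (0 : B ⟶ K.X (q + 1)) _ ≫ _ = 0
    rw [this, zero_comp]
  map_add' g g' := by
    show kernel.lift _ (g.1 + g'.1) _ ≫ _ = kernel.lift _ g.1 g.2 ≫ _ + kernel.lift _ g'.1 g'.2 ≫ _
    rw [← Preadditive.add_comp]
    congr 1
    rw [← cancel_mono (kernel.ι _)]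
    simp

variable {B K}

lemma toH_apply (q : ℕ) (g : Zgrp B K (q + 1)) :
    toH B K q g = kernel.lift _ g.1 g.2 ≫ cokernel.π _ := rfl

lemma toH_of_coboundary (q : ℕ) (g : Zgrp B K (q + 1))
    (h : ∃ g' : B ⟶ K.X q, g' ≫ K.d q (q + 1) = g.1) : toH B K q g = 0 := by
  obtain ⟨g', hg'⟩ := h
  rw [toH_apply]
  have : kernel.lift _ g.1 g.2 = g' ≫ toW K q := by
    rw [← cancel_mono (kernel.ι _)]; simp [hg']
  rw [this, Category.assoc, cokernel.condition, comp_zero]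

lemma toH_precomp {B' : D} (h : B' ⟶ B) (q : ℕ) (g : Zgrp B K (q + 1)) :
    toH B' K q ⟨h ≫ g.1, by
      rw [mem_Zgrp, Category.assoc, (mem_Zgrp (q + 1) g.1).mp g.2, comp_zero]⟩ =
      h ≫ toH B K q g := by
  show kernel.lift _ (h ≫ g.1) _ ≫ cokernel.π _ = h ≫ kernel.lift _ g.1 g.2 ≫ cokernel.π _
  have : kernel.lift (K.d (q + 1) (q + 1 + 1)) (h ≫ g.1) (by
      rw [Category.assoc, (mem_Zgrp (q + 1) g.1).mp g.2, comp_zero]) =
      h ≫ kernel.lift _ g.1 g.2 := by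
    rw [← cancel_mono (kernel.ι _)]; simp
  rw [this, Category.assoc]

lemma exists_of_toH_eq_zero (q : ℕ) (g : Zgrp B K (q + 1)) (h : toH B K q g = 0) :
    ∃ χ : B ⟶ Abelian.image (toW K q),
      χ ≫ Abelian.image.ι (toW K q) ≫ kernel.ι (K.d (q + 1) (q + 1 + 1)) = g.1 := by
  refine ⟨kernel.lift (cokernel.π (toW K q)) _ h, ?_⟩
  have h3 : kernel.lift (cokernel.π (toW K q)) _ h ≫ Abelian.image.ι (toW K q) =
      kernel.lift _ g.1 g.2 := kernel.lift_ι _ _ _
  rw [reassoc_of% h3, kernel.lift_ι]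

lemma toH_lift_ι (q : ℕ) (w : B ⟶ W K (q + 1)) :
    toH B K q ⟨w ≫ kernel.ι _, by rw [mem_Zgrp, Category.assoc, kernel.condition, comp_zero]⟩ =
      w ≫ cokernel.π _ := by
  show kernel.lift _ (w ≫ kernel.ι _) _ ≫ _ = _
  have : kernel.lift (K.d (q + 1) (q + 1 + 1)) (w ≫ kernel.ι _)
      (by rw [Category.assoc, kernel.condition, comp_zero]) = w := by
    rw [← cancel_mono (kernel.ι _)]; simp
  rw [this]

include hK hW0 hH in
lemma toH_surjective (q : ℕ) : Function.Surjective (toH B K q) := by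
  intro φ
  obtain ⟨ψ, hψ⟩ : ∃ ψ : B ⟶ W K (q + 1), ψ ≫ cokernel.π (toW K q) = φ :=
    exists_lift (sc1_shortExact K q) (isAcyclic_image hK hW0 hH q) φ
  refine ⟨⟨ψ ≫ kernel.ι _, by rw [mem_Zgrp, Category.assoc, kernel.condition, comp_zero]⟩, ?_⟩
  show kernel.lift _ (ψ ≫ kernel.ι _) _ ≫ _ = φ
  have : kernel.lift (K.d (q + 1) (q + 1 + 1)) (ψ ≫ kernel.ι _)
      (by rw [Category.assoc, kernel.condition, comp_zero]) = ψ := by
    rw [← cancel_mono (kernel.ι _)]; simp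
  rw [this]
  exact hψ

include hK hW0 hH in
lemma toH_eq_zero_iff (q : ℕ) (g : Zgrp B K (q + 1)) :
    toH B K q g = 0 ↔ ∃ g' : B ⟶ K.X q, g' ≫ K.d q (q + 1) = g.1 := by
  constructor
  · intro h
    -- factor through the image
    let χ : B ⟶ Abelian.image (toW K q) := kernel.lift (cokernel.π (toW K q)) _ h
    obtain ⟨g', hg'⟩ : ∃ g' : B ⟶ K.X q, g' ≫ Abelian.factorThruImage (toW K q) = χ :=
      exists_lift (sc2_shortExact K q) (isAcyclic_W hK hW0 hH q) χ
    refine ⟨g', ?_⟩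
    have h1 : g' ≫ K.d q (q + 1) =
        (g' ≫ Abelian.factorThruImage (toW K q)) ≫ Abelian.image.ι (toW K q) ≫ kernel.ι _ := by
      simp
    rw [h1]
    have h2 : g' ≫ Abelian.factorThruImage (toW K q) = χ := hg'
    rw [h2]
    have h3 : χ ≫ Abelian.image.ι (toW K q) = kernel.lift _ g.1 g.2 := kernel.lift_ι _ _ _
    rw [reassoc_of% h3, kernel.lift_ι]
  · rintro ⟨g', hg'⟩
    show kernel.lift _ g.1 g.2 ≫ cokernel.π _ = 0
    have : kernel.lift _ g.1 g.2 = g' ≫ toW K q := by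
      rw [← cancel_mono (kernel.ι _)]; simp [hg']
    rw [this, Category.assoc, cokernel.condition, comp_zero]

end Complex

section Compare

variable {C : Type u'} [Category.{v'} C] [Abelian C] [HasExt.{w'} C] {A Y : C}
  (R : InjectiveResolution Y) (K : CochainComplex D ℕ)
  (e : ∀ n : ℕ, (A ⟶ R.cocomplex.X n) ≃+ (B ⟶ K.X n))
  (he : ∀ (n : ℕ) (g : A ⟶ R.cocomplex.X n),
    e (n + 1) (g ≫ R.cocomplex.d n (n + 1)) = e n g ≫ K.d n (n + 1))
  (hK : ∀ n, IsAcyclic B (K.X n)) (hW0 : IsAcyclic B (W K 0))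
  (hH : ∀ q, IsAcyclic B (cokernel (toW K q)))

/-- transport of cocycles. -/
noncomputable def mapZ (n : ℕ) : Groth.Agent.ExtRes.Z R A n →+ Zgrp B K n where
  toFun f := ⟨e n f.1, by
    rw [mem_Zgrp, ← he, (Groth.Agent.ExtRes.mem_Z R n f.1).mp f.2, map_zero]⟩
  map_zero' := by ext; simp
  map_add' f g := by ext; simp

include he in
omit [HasExt.{w} D] [HasExt.{w'} C] in
lemma he_symm (n : ℕ) (g : B ⟶ K.X n) :
    (e (n + 1)).symm (g ≫ K.d n (n + 1)) = (e n).symm g ≫ R.cocomplex.d n (n + 1) := by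
  apply (e (n + 1)).injective
  rw [AddEquiv.apply_symm_apply, he, AddEquiv.apply_symm_apply]

include he in
omit [HasExt.{w} D] in
lemma mapZ_surjective (n : ℕ) : Function.Surjective (mapZ R K e he n) := by
  intro f
  refine ⟨⟨(e n).symm f.1, ?_⟩, ?_⟩
  · rw [Groth.Agent.ExtRes.mem_Z, ← he_symm R K e he, (mem_Zgrp n f.1).mp f.2, map_zero]
  · ext
    simp [mapZ]

include R K e he hK hW0 hH in
/-- If `Hom(A, R•) ≃ Hom(B, K•)` for an injective resolution `R` of `Y` and a complex `K` with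
`B`-acyclic terms, cocycles and cohomology, then `Ext^{q+1}(A, Y) ≃ Hom(B, H^{q+1}(K))`. -/
theorem nonempty_ext_addEquiv (q : ℕ) :
    Nonempty (Ext A Y (q + 1) ≃+ (B ⟶ cokernel (toW K q))) := by
  refine Groth.Agent.ExtRes.nonempty_addEquiv_of_surjective R q
    ((toH B K q).comp (mapZ R K e he (q + 1)))
    ((toH_surjective hK hW0 hH q).comp (mapZ_surjective R K e he (q + 1))) ?_
  intro f
  rw [AddMonoidHom.comp_apply, toH_eq_zero_iff hK hW0 hH]
  constructor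
  · rintro ⟨g', hg'⟩
    refine ⟨(e q).symm g', ?_⟩
    rw [← he_symm R K e he, hg']
    simp [mapZ]
  · rintro ⟨g, hg⟩
    exact ⟨e q g, by rw [← he, hg]; rfl⟩

end Compare

end Groth.Agent.AcyclicCx
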