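import Mathlib
import Mathlib.AlgebraicGeometry.Morphisms.LocalFlatDescent
import Groth.Agent.S13711

/-! fpqc descent for quasi-compact, quasi-separated, affine morphisms. -/

open CategoryTheory CategoryTheory.Limits AlgebraicGeometry MorphismProperty

universe u

namespace Groth.Agent.Lib.AffineDescentFpqc

theorem quasiCompact_of_comp_surjective {X Y Z : Scheme.{u}} (p : X ⟶ Y) (g : Y ⟶ Z)
    [Surjective p] [QuasiCompact (p ≫ g)] : QuasiCompact g := by
  constructor
  intro U hU hUc
  have h1 := QuasiCompact.isCompact_preimage (f := p ≫ g) U hU hUc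
  have h2 : g ⁻¹' U = p '' ((p ≫ g) ⁻¹' U) := by
    ext y
    constructor
    · intro hy
      obtain ⟨x, rfl⟩ := p.surjective y
      exact ⟨x, by simpa using hy, rfl⟩
    · rintro ⟨x, hx, rfl⟩
      simpa using hx
  rw [h2]
  exact h1.image p.continuous

instance descendsAlong_quasiCompact :
    DescendsAlong @QuasiCompact
      (@Surjective ⊓ @Flat ⊓ @QuasiCompact : MorphismProperty Scheme.{u}) := by
  apply DescendsAlong.mk'
  intro X Y Z f g _ hf hfst
  have : Surjective f := hf.1.1
  have : QuasiCompact f := hf.2
  have : QuasiCompact (pullback.fst f g) := hfst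
  have : QuasiCompact (pullback.snd f g ≫ g) := by
    rw [← pullback.condition]; infer_instance
  exact quasiCompact_of_comp_surjective (pullback.snd f g) g

instance descendsAlong_quasiSeparated :
    DescendsAlong @QuasiSeparated
      (@Surjective ⊓ @Flat ⊓ @QuasiCompact : MorphismProperty Scheme.{u}) := by
  rw [quasiSeparated_eq_diagonal_is_quasiCompact]
  infer_instance

instance descendsAlong_isAffineHom :
    DescendsAlong @IsAffineHom
      (@Surjective ⊓ @Flat ⊓ @QuasiCompact : MorphismProperty Scheme.{u}) := by
  apply DescendsAlong.mk'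
  intro X Y Z f g _ hf hfst
  have : Surjective f := hf.1.1
  have : Flat f := hf.1.2
  have hfst' : IsAffineHom (pullback.fst f g) := hfst
  rw [Groth.Agent.S13711.result g f]
  refine ⟨?_, ?_, ?_⟩
  · exact MorphismProperty.of_pullback_fst_of_descendsAlong (P := @QuasiCompact) hf
      (inferInstanceAs (QuasiCompact (pullback.fst f g)))
  · exact MorphismProperty.of_pullback_fst_of_descendsAlong (P := @QuasiSeparated) hf
      (inferInstanceAs (QuasiSeparated (pullback.fst f g)))
  · have : pullback.snd g f = (pullbackSymmetry g f).hom ≫ pullback.fst f g := by simp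
    rw [this]
    infer_instance

set_option backward.isDefEq.respectTransparency.types false in
/-- fpqc descent for properties of the form `affineAnd Q` with `Q` codescending along
faithfully flat ring maps. -/
theorem descendsAlong_fpqc_of_affineAnd {P : MorphismProperty Scheme.{u}}
    [P.IsStableUnderBaseChange] [IsZariskiLocalAtTarget P]
    {Q : ∀ {R S : Type u} [CommRing R] [CommRing S], (R →+* S) → Prop}
    (hP : HasAffineProperty P (affineAnd Q)) (hQ : RingHom.RespectsIso Q)
    (hQQ' : RingHom.CodescendsAlong Q RingHom.FaithfullyFlat) :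
    P.DescendsAlong (@Surjective ⊓ @Flat ⊓ @QuasiCompact : MorphismProperty Scheme.{u}) := by
  apply IsZariskiLocalAtTarget.descendsAlong
  intro R X Y f g hf h
  wlog hX : ∃ T, X = Spec T generalizing X
  · have _ : CompactSpace X := by simpa [← quasiCompact_iff_compactSpace f] using hf.2
    obtain ⟨Y', p, hsurj, hP', hY⟩ := X.exists_hom_isAffine_of_isZariskiLocalAtSource @IsLocalIso
    refine this (f := (Y'.isoSpec.inv ≫ p) ≫ f) ?_ ?_ ⟨_, rfl⟩
    · have : Surjective f := hf.1.1
      have : Flat f := hf.1.2
      have : Flat p := IsLocalIso.le_of_isZariskiLocalAtSource @Flat _ _ p hP'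
      refine ⟨⟨?_, ?_⟩, ?_⟩
      · infer_instance
      · infer_instance
      · infer_instance
    · rw [← pullbackRightPullbackFstIso_inv_fst f g _, P.cancel_left_of_respectsIso]
      exact P.pullback_fst _ _ h
  obtain ⟨T, rfl⟩ := hX
  obtain ⟨φ, rfl⟩ := Spec.map_surjective f
  have : IsAffine Y := by
    convert! isAffine_of_isAffineHom g
    exact MorphismProperty.of_pullback_fst_of_descendsAlong hf <|
      AlgebraicGeometry.HasAffineProperty.affineAnd_le_isAffineHom P hP _ h
  wlog hY : ∃ S, Y = Spec S generalizing Y
  · rw [← P.cancel_left_of_respectsIso Y.isoSpec.inv]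
    have heq : pullback.fst (Spec.map φ) (Y.isoSpec.inv ≫ g) =
        pullback.map _ _ _ _ (𝟙 _) (Y.isoSpec.inv) (𝟙 _) (by simp) (by simp) ≫
          pullback.fst (Spec.map φ) g := (pullback.lift_fst _ _ _).symm
    refine this _ ?_ inferInstance ⟨_, rfl⟩
    rwa [heq, P.cancel_left_of_respectsIso]
  obtain ⟨Y, rfl⟩ := hY
  refine of_pullback_fst_Spec_of_codescendsAlong (P := P)
    (P' := (@Surjective ⊓ @Flat ⊓ @QuasiCompact : MorphismProperty Scheme.{u})) hQQ' ?_ ?_ hf h
  · intro R S f hf
    rw [RingHom.FaithfullyFlat.iff_flat_and_comap_surjective]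
    have : Surjective (Spec.map f) := hf.1.1
    refine ⟨?_, (Spec.map f).surjective⟩
    have h2 : Flat (Spec.map f) := hf.1.2
    rwa [HasRingHomProperty.Spec_iff (P := @Flat)] at h2
  · intro R S f
    have := hP
    simp [HasAffineProperty.SpecMap_iff_of_affineAnd _ hQ]

open TensorProduct in
theorem isIntegral_codescendsAlong_faithfullyFlat :
    RingHom.CodescendsAlong RingHom.IsIntegral RingHom.FaithfullyFlat := by
  refine .mk _ RingHom.isIntegral_respectsIso fun R S T _ _ _ _ _ h h' ↦ ?_
  rw [RingHom.faithfullyFlat_algebraMap_iff] at h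
  intro t
  let T' := Algebra.adjoin R {t}
  have hft : Algebra.FiniteType R T' := .adjoin_of_finite (Set.finite_singleton t)
  let j : S ⊗[R] T' →ₐ[S] S ⊗[R] T := Algebra.TensorProduct.map (AlgHom.id S S) T'.val
  have hj : Function.Injective j := by
    have := Module.Flat.lTensor_preserves_injective_linearMap (M := S) T'.val.toLinearMap
      Subtype.val_injective
    convert this using 1
    ext z
    induction z with
    | zero => simp
    | tmul a b => simp [j]
    | add a b ha hb => simp [ha, hb]
  have hint : Algebra.IsIntegral S (S ⊗[R] T') := ⟨fun z => by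
      have := h' (j z)
      exact (isIntegral_algHom_iff j hj).mp this⟩
  have : Module.Finite S (S ⊗[R] T') := Algebra.IsIntegral.finite
  have : Module.Finite R T' := .of_finite_tensorProduct_of_faithfullyFlat S
  have ht : _root_.IsIntegral R (⟨t, Algebra.self_mem_adjoin_singleton R t⟩ : T') := _root_.IsIntegral.of_finite R _
  exact ht.map T'.val

instance descendsAlong_isIntegralHom :
    DescendsAlong @IsIntegralHom
      (@Surjective ⊓ @Flat ⊓ @QuasiCompact : MorphismProperty Scheme.{u}) :=
  descendsAlong_fpqc_of_affineAnd (Q := RingHom.IsIntegral) IsIntegralHom.hasAffineProperty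
    RingHom.isIntegral_respectsIso isIntegral_codescendsAlong_faithfullyFlat

end Groth.Agent.Lib.AffineDescentFpqc
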