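import Groth.Prelude.Def_AnCl

set_option autoImplicit false
universe u
open CategoryTheory TopologicalSpace Topology Opposite

namespace Groth.Agent.AnClDense
open An

variable (T : Type u) [TopologicalSpace T]

instance : (opensToCl T).Faithful where
  map_injective := fun _ => Subsingleton.elim _ _

lemma le_of_hom {U V : Opens T} (f : (opensToCl T).obj U ⟶ (opensToCl T).obj V) : U ≤ V := by
  intro x hx
  have h := f.over ⟨x, hx⟩
  let y : V := f.toFun ⟨x, hx⟩
  have h' : (y : T) = x := h
  rw [← h']
  exact y.2

instance : (opensToCl T).Full where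
  map_surjective := fun {U V} f => by
    refine ⟨homOfLE (le_of_hom T f), ?_⟩
    apply Cl.hom_ext
    funext a
    apply Subtype.ext
    have h := f.over a
    exact h.symm

instance isCoverDense : (opensToCl T).IsCoverDense (Cl.topology T) where
  is_cover A := by
    intro a
    obtain ⟨e, hae, hpe⟩ := A.lh a
    let U : Opens T := ⟨e.target, e.open_target⟩
    have hemb : IsOpenEmbedding (e.symm.source.domRestrict e.symm) := e.symm.isOpenEmbedding_restrict
    let g : (opensToCl T).obj U ⟶ A :=
      ⟨fun u => e.symm u.1, by
        have : Continuous (e.symm.source.domRestrict e.symm) := hemb.continuous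
        exact this, fun u => by
        change A.p (e.symm u.1) = u.1
        rw [hpe]
        exact e.right_inv u.2⟩
    refine ⟨(opensToCl T).obj U, g, ?_, hemb, ?_⟩
    · exact ⟨⟨U, 𝟙 _, g, Category.id_comp _⟩⟩
    · refine ⟨⟨e a, e.map_source hae⟩, ?_⟩
      change e.symm (e a) = a
      exact e.left_inv hae

instance isDenseSubsite :
    (opensToCl T).IsDenseSubsite (Opens.grothendieckTopology T) (Cl.topology T) where
  functorPushforward_mem_iff := by
    intro X S
    constructor
    · intro h x hx
      obtain ⟨B, g, hg, -, b, hb⟩ := h ⟨x, hx⟩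
      obtain ⟨Y, s, k, hs, hfac⟩ := hg
      refine ⟨Y, s, hs, ?_⟩
      have h1 : g.toFun b = ((opensToCl T).map s).toFun (k.toFun b) := by
        rw [hfac]; rfl
      let y : X := g.toFun b
      have h2 : (y : T) = x := by
        have : y = ⟨x, hx⟩ := hb
        rw [this]
      let z : Y := k.toFun b
      have h3 : (y : T) = (z : T) := by
        have : y = ((opensToCl T).map s).toFun z := h1
        rw [this]; rfl
      rw [← h2, h3]
      exact z.2
    · intro h a
      obtain ⟨U, f, hf, hxU⟩ := h a.1 a.2
      refine ⟨(opensToCl T).obj U, (opensToCl T).map f, Sieve.image_mem_functorPushforward _ _ hf,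
        Opens.isOpenEmbedding_of_le f.le, ⟨⟨a.1, hxU⟩, ?_⟩⟩
      apply Subtype.ext
      rfl

theorem opCont : An.OpCont T := inferInstance

theorem resOpens_isEquivalence [An.OpCont T] : (An.resOpens T).IsEquivalence := by
  unfold An.resOpens
  infer_instance

end Groth.Agent.AnClDense
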