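import Mathlib

set_option autoImplicit false
universe v u
open CategoryTheory Limits Opposite

namespace Groth.Agent.QisoSingle

variable {A : Type u} [Category.{v} A] [Abelian A]

lemma w {K : ChainComplex A ℕ} {Z : A} (φ : K ⟶ (ChainComplex.single₀ A).obj Z) :
    K.d 1 0 ≫ φ.f 0 = 0 := by
  rw [← φ.comm 1 0]
  simp
  exact comp_zero

lemma quasiIso_iff {K : ChainComplex A ℕ} {Z : A} (φ : K ⟶ (ChainComplex.single₀ A).obj Z) :
    QuasiIso φ ↔ (∀ n : ℕ, K.ExactAt (n + 1)) ∧
      (ShortComplex.mk (K.d 1 0) (φ.f 0) (w φ)).Exact ∧ Epi (φ.f 0) := by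
  rw [_root_.quasiIso_iff]
  constructor
  · intro h
    refine ⟨fun n => ?_, ?_⟩
    · have := h (n + 1)
      rwa [quasiIsoAt_iff_exactAt' _ _ (ChainComplex.exactAt_succ_single_obj _ _)] at this
    · have := h 0
      rw [ChainComplex.quasiIsoAt₀_iff, ShortComplex.quasiIso_iff_of_zeros'] at this
      · exact this
      · simp
        rfl
      · rfl
      · rfl
  · rintro ⟨h1, h2⟩ n
    cases n with
    | zero =>
      rw [ChainComplex.quasiIsoAt₀_iff, ShortComplex.quasiIso_iff_of_zeros']
      · exact h2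
      · simp
        rfl
      · rfl
      · rfl
    | succ n =>
      rw [quasiIsoAt_iff_exactAt' _ _ (ChainComplex.exactAt_succ_single_obj _ _)]
      exact h1 n

end Groth.Agent.QisoSingle
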