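import Mathlib
import Groth.Agent.Lib.QisoSingle

set_option autoImplicit false
universe v v' u u'
open CategoryTheory Limits Opposite Simplicial AlgebraicTopology

namespace Groth.Agent.AugRes

variable {A : Type u} [Category.{v} A] [Abelian A]

lemma d_comp_aug (X : SimplicialObject.Augmented A) :
    (AlternatingFaceMapComplex.obj X.left).d 1 0 ≫ X.hom.app (op ⦋0⦌) = 0 := by
  have := QisoSingle.w (AlternatingFaceMapComplex.ε.app X)
  rwa [AlternatingFaceMapComplex.ε_app_f_zero] at this

/-- the short complex `X_1 → X_0 → X_{-1}`. -/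
noncomputable def sc₀ (X : SimplicialObject.Augmented A) : ShortComplex A :=
  ShortComplex.mk ((AlternatingFaceMapComplex.obj X.left).d 1 0) (X.hom.app (op ⦋0⦌)) (d_comp_aug X)

/-- "the augmented complex is exact except possibly at the augmentation" -/
def Res (X : SimplicialObject.Augmented A) : Prop :=
  (∀ n : ℕ, (AlternatingFaceMapComplex.obj X.left).ExactAt (n + 1)) ∧ (sc₀ X).Exact

lemma quasiIso_iff (X : SimplicialObject.Augmented A) :
    QuasiIso (AlternatingFaceMapComplex.ε.app X) ↔ Res X ∧ Epi (X.hom.app (op ⦋0⦌)) := by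
  rw [QisoSingle.quasiIso_iff]
  have h := AlternatingFaceMapComplex.ε_app_f_zero X
  constructor
  · rintro ⟨h1, h2, h3⟩
    refine ⟨⟨h1, ?_⟩, ?_⟩
    · refine (ShortComplex.exact_iff_of_iso ?_).1 h2
      exact ShortComplex.isoMk (Iso.refl _) (Iso.refl _) (Iso.refl _)
        ((Category.id_comp _).trans (Category.comp_id _).symm) (by
        dsimp [sc₀]
        rw [h]
        simp)
    · rw [← h]
      exact h3
  · rintro ⟨⟨h1, h2⟩, h3⟩
    refine ⟨h1, ?_, ?_⟩
    · refine (ShortComplex.exact_iff_of_iso ?_).2 h2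
      exact ShortComplex.isoMk (Iso.refl _) (Iso.refl _) (Iso.refl _)
        ((Category.id_comp _).trans (Category.comp_id _).symm) (by
        dsimp [sc₀]
        rw [h]
        simp)
    · rw [h]
      exact h3

section functor

variable {B : Type u'} [Category.{v'} B] [Abelian B] (Φ : A ⥤ B) [Φ.Additive]

lemma altObj_whisker (X : SimplicialObject A) :
    AlternatingFaceMapComplex.obj (((SimplicialObject.whiskering A B).obj Φ).obj X) =
      (Φ.mapHomologicalComplex _).obj (AlternatingFaceMapComplex.obj X) :=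
  (Functor.congr_obj (map_alternatingFaceMapComplex Φ) X).symm

lemma exactAt_whisker_iff (X : SimplicialObject A) (k : ℕ) :
    (AlternatingFaceMapComplex.obj (((SimplicialObject.whiskering A B).obj Φ).obj X)).ExactAt k ↔
      (((AlternatingFaceMapComplex.obj X).sc k).map Φ).Exact := by
  rw [altObj_whisker]
  rfl

lemma d_whisker (X : SimplicialObject A) :
    (AlternatingFaceMapComplex.obj (((SimplicialObject.whiskering A B).obj Φ).obj X)).d 1 0 =
      Φ.map ((AlternatingFaceMapComplex.obj X).d 1 0) := by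
  rw [AlternatingFaceMapComplex.obj_d_eq, AlternatingFaceMapComplex.obj_d_eq, Functor.map_sum]
  refine Finset.sum_congr rfl fun i _ => ?_
  rw [Functor.map_zsmul]
  rfl

/-- compat of `sc₀` with functors. -/
noncomputable def sc₀Iso (X : SimplicialObject.Augmented A) :
    sc₀ (((SimplicialObject.Augmented.whiskering A B).obj Φ).obj X) ≅ (sc₀ X).map Φ :=
  ShortComplex.isoMk (Iso.refl _) (Iso.refl _) (Iso.refl _)
    ((Category.id_comp _).trans ((d_whisker Φ X.left).symm.trans (Category.comp_id _).symm))
    ((Category.id_comp _).trans ((Category.comp_id (Φ.map (X.hom.app (op ⦋0⦌)))).symm.trans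
      (Category.comp_id _).symm))

lemma res_whisker_iff (X : SimplicialObject.Augmented A) :
    Res (((SimplicialObject.Augmented.whiskering A B).obj Φ).obj X) ↔
      (∀ n : ℕ, (((AlternatingFaceMapComplex.obj X.left).sc (n + 1)).map Φ).Exact) ∧
        ((sc₀ X).map Φ).Exact := by
  unfold Res
  rw [ShortComplex.exact_iff_of_iso (sc₀Iso Φ X)]
  refine and_congr (forall_congr' fun n => ?_) Iff.rfl
  exact exactAt_whisker_iff Φ X.left (n + 1)

lemma res_whisker [Φ.PreservesHomology] (X : SimplicialObject.Augmented A) (h : Res X) :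
    Res (((SimplicialObject.Augmented.whiskering A B).obj Φ).obj X) := by
  rw [res_whisker_iff]
  exact ⟨fun n => (h.1 n).map Φ, h.2.map Φ⟩

end functor

section jointly

variable {B : Type u'} [Category.{v'} B] [Abelian B] {I : Type*} (F : I → (A ⥤ B))
  [∀ i, (F i).Additive] [∀ i, (F i).PreservesHomology]

lemma res_of_jointly (hF : JointlyReflectIsomorphisms F) (X : SimplicialObject.Augmented A)
    (h : ∀ i, Res (((SimplicialObject.Augmented.whiskering A B).obj (F i)).obj X)) : Res X := by
  simp only [res_whisker_iff] at h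
  exact ⟨fun n => (hF.exact_iff _).2 fun i => (h i).1 n, (hF.exact_iff _).2 fun i => (h i).2⟩

end jointly

section map

variable {X Y : SimplicialObject.Augmented A} (φ : X ⟶ Y)

/-- functoriality of `sc₀` -/
noncomputable def sc₀Map : sc₀ X ⟶ sc₀ Y where
  τ₁ := φ.left.app (op ⦋1⦌)
  τ₂ := φ.left.app (op ⦋0⦌)
  τ₃ := φ.right
  comm₁₂ := ((AlternatingFaceMapComplex.map φ.left).comm 1 0)
  comm₂₃ := SimplicialObject.Augmented.w₀ φ

lemma res_of_map (h1 : IsIso φ.left) (h2 : Mono φ.right) (h : Res X) : Res Y := by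
  refine ⟨fun n => ?_, ?_⟩
  · exact (h.1 n).of_iso ((alternatingFaceMapComplex A).mapIso (asIso φ.left))
  · have : IsIso (sc₀Map φ).τ₂ :=
      @NatIso.isIso_app_of_isIso _ _ _ _ X.left Y.left φ.left h1 (op ⦋0⦌)
    have : IsIso (sc₀Map φ).τ₁ :=
      @NatIso.isIso_app_of_isIso _ _ _ _ X.left Y.left φ.left h1 (op ⦋1⦌)
    have : Mono (sc₀Map φ).τ₃ := h2
    exact (ShortComplex.exact_iff_of_epi_of_isIso_of_mono (sc₀Map φ)).1 h.2

lemma res_of_iso (e : X ≅ Y) (h : Res X) : Res Y := by
  have h1 : IsIso e.hom.left := (inferInstance : IsIso (SimplicialObject.Augmented.drop.map e.hom))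
  have h2 : IsIso e.hom.right := (inferInstance : IsIso (SimplicialObject.Augmented.point.map e.hom))
  exact res_of_map e.hom h1 (@IsIso.mono_of_iso _ _ _ _ _ h2) h

end map

end Groth.Agent.AugRes
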