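import Mathlib
set_option autoImplicit false
universe w v u
open CategoryTheory Limits Opposite Simplicial

namespace Groth.Agent.Cech

variable {D : Type u} [Category.{v} D] [HasFiniteProducts D] {ι : Type w} (U : ι → D)
  (P : Dᵒᵖ ⥤ AddCommGrpCat.{w})

lemma hom_sum_apply {M N : AddCommGrpCat.{w}} {κ : Type*} (s : Finset κ) (f : κ → (M ⟶ N)) (x : M) :
    (∑ k ∈ s, f k).hom x = ∑ k ∈ s, (f k).hom x := by
  classical
  induction s using Finset.induction_on with
  | empty => simp
  | insert a s ha ih =>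
    rw [Finset.sum_insert ha, Finset.sum_insert ha, AddCommGrpCat.hom_add, AddMonoidHom.add_apply, ih]

/-- the Čech complex. -/
noncomputable abbrev cx : CochainComplex AddCommGrpCat.{w} ℕ := (cechComplexFunctor U).obj P

/-- the Čech cosimplicial object. -/
noncomputable abbrev cosimp : CosimplicialObject AddCommGrpCat.{w} :=
  (FormalCoproduct.cosimplicialObjectFunctor (FormalCoproduct.mk _ U).cech).obj P

/-- the coface maps of the Čech complex. -/
noncomputable def δm {n : ℕ} (k : Fin (n + 2)) : (cx U P).X n ⟶ (cx U P).X (n + 1) :=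
  (cosimp U P).δ k

lemma cx_d (n : ℕ) : (cx U P).d n (n + 1) =
    ∑ k : Fin (n + 2), (-1 : ℤ) ^ (k : ℕ) • δm U P k :=
  CochainComplex.of_d (fun n => (cosimp U P).obj ⦋n⦌)
    (AlgebraicTopology.AlternatingCofaceMapComplex.objD (cosimp U P)) n

/-- the product of the members indexed by a tuple. -/
noncomputable abbrev prodObj {n : ℕ} (i : Fin (n + 1) → ι) : D := ∏ᶜ (U ∘ i)

/-- the face map. -/
noncomputable abbrev face {n : ℕ} (k : Fin (n + 2)) (i : Fin (n + 2) → ι) :
    prodObj U i ⟶ prodObj U (i ∘ k.succAbove) :=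
  Pi.lift (fun b => Pi.π (U ∘ i) (k.succAbove b))

/-- the family of values. -/
noncomputable abbrev fam (n : ℕ) : (Fin (n + 1) → ι) → AddCommGrpCat.{w} :=
  fun i => P.obj (op (prodObj U i))

lemma cx_X (n : ℕ) : (cx U P).X n = ∏ᶜ (fam U P n) := rfl

variable {U P}

/-- the projections of the Čech complex. -/
noncomputable def proj {n : ℕ} (i : Fin (n + 1) → ι) : (cx U P).X n ⟶ P.obj (op (prodObj U i)) :=
  Pi.π (fam U P n) i

lemma δm_proj {n : ℕ} (k : Fin (n + 2)) (i : Fin (n + 2) → ι) :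
    δm U P k ≫ proj i = proj (i ∘ k.succAbove) ≫ P.map (face U k i).op :=
  Pi.lift_π _ _

lemma d_proj {n : ℕ} (i : Fin (n + 2) → ι) :
    (cx U P).d n (n + 1) ≫ proj i =
      ∑ k : Fin (n + 2), (-1 : ℤ) ^ (k : ℕ) • (proj (i ∘ k.succAbove) ≫ P.map (face U k i).op) := by
  rw [cx_d, Preadditive.sum_comp]
  refine Finset.sum_congr rfl fun k _ => ?_
  rw [Preadditive.zsmul_comp, δm_proj]

lemma hom_ext' {n : ℕ} {A : AddCommGrpCat.{w}} {f g : A ⟶ (cx U P).X n}
    (h : ∀ i, f ≫ proj i = g ≫ proj i) : f = g :=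
  Pi.hom_ext _ _ h

/-- lift to the Čech complex. -/
noncomputable def lift {n : ℕ} {A : AddCommGrpCat.{w}} (f : ∀ i : Fin (n + 1) → ι, A ⟶ P.obj (op (prodObj U i))) :
    A ⟶ (cx U P).X n :=
  Pi.lift f

@[reassoc (attr := simp)]
lemma lift_proj {n : ℕ} {A : AddCommGrpCat.{w}} (f : ∀ i : Fin (n + 1) → ι, A ⟶ P.obj (op (prodObj U i))) (i) :
    lift f ≫ proj i = f i :=
  Pi.lift_π _ _

/-- component of a cochain. -/
noncomputable def comp {n : ℕ} (x : (cx U P).X n) (i : Fin (n + 1) → ι) : P.obj (op (prodObj U i)) :=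
  (proj i).hom x

@[ext]
lemma cochain_ext {n : ℕ} {x y : (cx U P).X n} (h : ∀ i, comp x i = comp y i) : x = y := by
  apply (Concrete.productEquiv (fam U P n)).injective
  funext i
  rw [Concrete.productEquiv_apply_apply, Concrete.productEquiv_apply_apply]
  exact h i

/-- build a cochain from components. -/
noncomputable def mk {n : ℕ} (f : ∀ i : Fin (n + 1) → ι, P.obj (op (prodObj U i))) : (cx U P).X n :=
  (Concrete.productEquiv (fam U P n)).symm f

@[simp]
lemma comp_mk {n : ℕ} (f : ∀ i : Fin (n + 1) → ι, P.obj (op (prodObj U i))) (i) :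
    comp (mk f) i = f i :=
  Concrete.productEquiv_symm_apply_π (fam U P n) f i

@[simp] lemma comp_zero {n : ℕ} (i : Fin (n + 1) → ι) : comp (0 : (cx U P).X n) i = 0 := map_zero _
@[simp] lemma comp_add {n : ℕ} (x y : (cx U P).X n) (i : Fin (n + 1) → ι) :
    comp (x + y) i = comp x i + comp y i := map_add _ _ _
@[simp] lemma comp_neg {n : ℕ} (x : (cx U P).X n) (i : Fin (n + 1) → ι) :
    comp (-x) i = - comp x i := map_neg _ _
@[simp] lemma comp_sub {n : ℕ} (x y : (cx U P).X n) (i : Fin (n + 1) → ι) :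
    comp (x - y) i = comp x i - comp y i := map_sub _ _ _

lemma comp_δ {n : ℕ} (k : Fin (n + 2)) (x : (cx U P).X n) (i : Fin (n + 2) → ι) :
    comp ((δm U P k).hom x) i =
      (P.map (face U k i).op).hom (comp x (i ∘ k.succAbove)) :=
  ConcreteCategory.congr_hom (δm_proj k i) x

lemma comp_d {n : ℕ} (x : (cx U P).X n) (i : Fin (n + 2) → ι) :
    comp (((cx U P).d n (n + 1)).hom x) i =
      ∑ k : Fin (n + 2), (-1 : ℤ) ^ (k : ℕ) • (P.map (face U k i).op).hom (comp x (i ∘ k.succAbove)) := by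
  have := ConcreteCategory.congr_hom (d_proj (U := U) (P := P) i) x
  refine this.trans ?_
  show (∑ k : Fin (n + 2), (-1 : ℤ) ^ (k : ℕ) • (proj (i ∘ k.succAbove) ≫ P.map (face U k i).op)).hom x = _
  rw [hom_sum_apply]
  rfl

end Groth.Agent.Cech

namespace Groth.Agent.Cech

variable {D : Type u} [Category.{v} D] [HasFiniteProducts D] {ι : Type w} (U : ι → D)
  {P Q : Dᵒᵖ ⥤ AddCommGrpCat.{w}}

lemma map_f (φ : P ⟶ Q) (n : ℕ) : ((cechComplexFunctor U).map φ).f n =
    Limits.Pi.map (fun i : Fin (n + 1) → ι => φ.app (op (prodObj U i))) := rfl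

lemma map_proj (φ : P ⟶ Q) {n : ℕ} (i : Fin (n + 1) → ι) :
    ((cechComplexFunctor U).map φ).f n ≫ proj (U := U) (P := Q) i =
      proj (U := U) (P := P) i ≫ φ.app (op (prodObj U i)) := by
  rw [map_f]
  exact Pi.map_π (fun i : Fin (n + 1) → ι => φ.app (op (prodObj U i))) i

lemma comp_map (φ : P ⟶ Q) {n : ℕ} (x : (cx U P).X n) (i : Fin (n + 1) → ι) :
    comp ((((cechComplexFunctor U).map φ).f n).hom x) i = (φ.app (op (prodObj U i))).hom (comp x i) :=
  ConcreteCategory.congr_hom (map_proj U φ i) x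

/-- exactness criterion in positive degrees. -/
lemma isZero_homology_succ_iff (P : Dᵒᵖ ⥤ AddCommGrpCat.{w}) (n : ℕ) :
    IsZero ((cx U P).homology (n + 1)) ↔
      ∀ x : (cx U P).X (n + 1), ((cx U P).d (n + 1) (n + 2)).hom x = 0 →
        ∃ y : (cx U P).X n, ((cx U P).d n (n + 1)).hom y = x := by
  rw [← HomologicalComplex.exactAt_iff_isZero_homology,
    HomologicalComplex.exactAt_iff' _ n (n + 1) (n + 2) (by simp) (by simp),
    ShortComplex.ab_exact_iff]
  rfl

end Groth.Agent.Cech
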