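import Mathlib

set_option autoImplicit false
universe u
open CategoryTheory Limits Opposite

namespace Groth.Agent.OverShriek

variable {C : Type u} [SmallCategory C] (U : C)

section Presheaf

variable (P : (Over U)ᵒᵖ ⥤ AddCommGrpCat.{u})

/-- the summands of the extension by zero. -/
abbrev summand (V : C) (φ : V ⟶ U) : AddCommGrpCat.{u} := P.obj (op (Over.mk φ))

/-- restriction maps between summands. -/
def res {V V' : C} (h : V' ⟶ V) (φ : V ⟶ U) (φ' : V' ⟶ U) (e : h ≫ φ = φ') :
    P.obj (op (Over.mk φ)) ⟶ P.obj (op (Over.mk φ')) :=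
  P.map (Over.homMk h e : Over.mk φ' ⟶ Over.mk φ).op

lemma res_ι {V V' : C} (h : V' ⟶ V) (φ : V ⟶ U) (φ' : V' ⟶ U) (e : h ≫ φ = φ') :
    res U P h φ φ' e ≫ Sigma.ι (summand U P V') φ' =
      res U P h φ (h ≫ φ) rfl ≫ Sigma.ι (summand U P V') (h ≫ φ) := by
  subst e; rfl

lemma res_id {V : C} (φ : V ⟶ U) : res U P (𝟙 V) φ φ (Category.id_comp φ) = 𝟙 _ := by
  have : (Over.homMk (𝟙 V) (Category.id_comp φ) : Over.mk φ ⟶ Over.mk φ) = 𝟙 _ := by
    ext; rfl
  simp only [res, this, op_id, P.map_id]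

lemma res_comp {V V' V'' : C} (h : V' ⟶ V) (h' : V'' ⟶ V') (φ : V ⟶ U) (φ' : V' ⟶ U)
    (φ'' : V'' ⟶ U) (e : h ≫ φ = φ') (e' : h' ≫ φ' = φ'') :
    res U P h φ φ' e ≫ res U P h' φ' φ'' e' =
      res U P (h' ≫ h) φ φ'' (by rw [Category.assoc, e, e']) := by
  have : (Over.homMk (h' ≫ h) (by simp [e, e']) : Over.mk φ'' ⟶ Over.mk φ) =
      (Over.homMk h' e' : Over.mk φ'' ⟶ Over.mk φ') ≫ (Over.homMk h e : Over.mk φ' ⟶ Over.mk φ) := by
    ext; rfl
  simp only [res, this, op_comp, P.map_comp]

lemma res_eq_map {W W' : Over U} (g : W' ⟶ W) :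
    res U P g.left W.hom W'.hom (Over.w g) = P.map g.op := by
  have : (Over.homMk g.left (Over.w g) : Over.mk W'.hom ⟶ Over.mk W.hom) = g := by ext; rfl
  simp only [res, this]

/-- the transition maps of the extension by zero. -/
noncomputable def extMap {V V' : C} (h : V' ⟶ V) : ∐ (summand U P V) ⟶ ∐ (summand U P V') :=
  Sigma.desc (fun φ => res U P h φ (h ≫ φ) rfl ≫ Sigma.ι (summand U P V') (h ≫ φ))

@[reassoc]
lemma ι_extMap {V V' : C} (h : V' ⟶ V) (φ : V ⟶ U) (φ' : V' ⟶ U) (e : h ≫ φ = φ') :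
    Sigma.ι (summand U P V) φ ≫ extMap U P h = res U P h φ φ' e ≫ Sigma.ι (summand U P V') φ' := by
  rw [extMap, Sigma.ι_desc, ← res_ι]

/-- extension by zero of an abelian presheaf on `Over U`. -/
noncomputable def ext : Cᵒᵖ ⥤ AddCommGrpCat.{u} where
  obj V := ∐ (summand U P V.unop)
  map h := extMap U P h.unop
  map_id V := by
    apply Sigma.hom_ext
    intro φ
    rw [unop_id, ι_extMap U P (𝟙 _) φ φ (Category.id_comp φ), res_id, Category.id_comp,
      Category.comp_id]
  map_comp {V V' V''} h h' := by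
    apply Sigma.hom_ext
    intro φ
    rw [unop_comp, ι_extMap U P (h'.unop ≫ h.unop) φ _ rfl,
      ι_extMap_assoc U P h.unop φ _ rfl, ι_extMap U P h'.unop _ _ rfl, ← Category.assoc, res_comp,
      res_ι U P _ _ _ (Category.assoc _ _ _)]

/-- the inclusion of a summand. -/
noncomputable def ιE (V : C) (φ : V ⟶ U) : P.obj (op (Over.mk φ)) ⟶ (ext U P).obj (op V) :=
  Sigma.ι (summand U P V) φ

@[reassoc]
lemma ιE_map {V V' : C} (h : V' ⟶ V) (φ : V ⟶ U) (φ' : V' ⟶ U) (e : h ≫ φ = φ') :
    ιE U P V φ ≫ (ext U P).map h.op = res U P h φ φ' e ≫ ιE U P V' φ' :=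
  ι_extMap U P h φ φ' e

variable {U P} in
lemma hom_ext {V : C} {X : AddCommGrpCat.{u}} (f g : (ext U P).obj (op V) ⟶ X)
    (h : ∀ φ : V ⟶ U, ιE U P V φ ≫ f = ιE U P V φ ≫ g) : f = g :=
  Sigma.hom_ext _ _ h

/-- maps out of the extension by zero. -/
noncomputable def descE (V : C) {X : AddCommGrpCat.{u}}
    (f : ∀ φ : V ⟶ U, P.obj (op (Over.mk φ)) ⟶ X) : (ext U P).obj (op V) ⟶ X :=
  Sigma.desc f

@[reassoc (attr := simp)]
lemma ιE_descE (V : C) {X : AddCommGrpCat.{u}}
    (f : ∀ φ : V ⟶ U, P.obj (op (Over.mk φ)) ⟶ X) (φ : V ⟶ U) :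
    ιE U P V φ ≫ descE U P V f = f φ :=
  Sigma.ι_desc _ _

end Presheaf

section Functoriality

variable {U}
variable {P P' P'' : (Over U)ᵒᵖ ⥤ AddCommGrpCat.{u}}

lemma res_naturality (τ : P ⟶ P') {V V' : C} (h : V' ⟶ V) (φ : V ⟶ U) (φ' : V' ⟶ U)
    (e : h ≫ φ = φ') :
    res U P h φ φ' e ≫ τ.app (op (Over.mk φ')) = τ.app (op (Over.mk φ)) ≫ res U P' h φ φ' e :=
  τ.naturality _

lemma extHom_aux (τ : P ⟶ P') {V V' : C} (g : V' ⟶ V) :
    (ext U P).map g.op ≫ descE U P V' (fun φ => τ.app (op (Over.mk φ)) ≫ ιE U P' V' φ) =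
      descE U P V (fun φ => τ.app (op (Over.mk φ)) ≫ ιE U P' V φ) ≫ (ext U P').map g.op := by
  apply hom_ext
  intro φ
  rw [ιE_map_assoc U P g φ _ rfl, ιE_descE, ιE_descE_assoc, Category.assoc,
    ιE_map U P' g φ _ rfl, reassoc_of% (res_naturality τ g φ _ rfl)]

/-- functoriality of the extension by zero. -/
noncomputable def extHom (τ : P ⟶ P') : ext U P ⟶ ext U P' where
  app V := descE U P V.unop (fun φ => τ.app (op (Over.mk φ)) ≫ ιE U P' V.unop φ)
  naturality _ _ h := extHom_aux τ h.unop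

@[reassoc (attr := simp)]
lemma ιE_extHom_app (τ : P ⟶ P') (V : C) (φ : V ⟶ U) :
    ιE U P V φ ≫ (extHom τ).app (op V) = τ.app (op (Over.mk φ)) ≫ ιE U P' V φ :=
  ιE_descE U P V _ φ

variable (U)

/-- extension by zero as a functor on abelian presheaves. -/
noncomputable def extFunctor : ((Over U)ᵒᵖ ⥤ AddCommGrpCat.{u}) ⥤ (Cᵒᵖ ⥤ AddCommGrpCat.{u}) where
  obj P := ext U P
  map τ := extHom τ
  map_id P := by
    apply NatTrans.ext
    funext V
    induction V using Opposite.rec with | _ V => ?_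
    apply hom_ext
    intro φ
    rw [ιE_extHom_app, NatTrans.id_app, NatTrans.id_app, Category.id_comp, Category.comp_id]
  map_comp τ τ' := by
    apply NatTrans.ext
    funext V
    induction V using Opposite.rec with | _ V => ?_
    apply hom_ext
    intro φ
    rw [ιE_extHom_app, NatTrans.comp_app, NatTrans.comp_app, ιE_extHom_app_assoc, ιE_extHom_app,
      Category.assoc]

end Functoriality

section Adjunction

variable {U}
variable {P P' : (Over U)ᵒᵖ ⥤ AddCommGrpCat.{u}} {Q Q' : Cᵒᵖ ⥤ AddCommGrpCat.{u}}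

lemma toRestr_aux (α : ext U P ⟶ Q) {W W' : Over U} (g : W' ⟶ W) :
    P.map g.op ≫ ιE U P W'.left W'.hom ≫ α.app (op W'.left) =
      (ιE U P W.left W.hom ≫ α.app (op W.left)) ≫ Q.map g.left.op := by
  have hα := α.naturality g.left.op
  rw [Category.assoc, ← hα, ιE_map_assoc U P g.left W.hom W'.hom (Over.w g), res_eq_map]

/-- one direction of the adjunction bijection. -/
noncomputable def toRestr (α : ext U P ⟶ Q) : P ⟶ (Over.forget U).op ⋙ Q where
  app W := ιE U P W.unop.left W.unop.hom ≫ α.app (op W.unop.left)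
  naturality _ _ g := toRestr_aux α g.unop

lemma ofRestr_aux (β : P ⟶ (Over.forget U).op ⋙ Q) {V V' : C} (g : V' ⟶ V) :
    (ext U P).map g.op ≫ descE U P V' (fun φ => β.app (op (Over.mk φ))) =
      descE U P V (fun φ => β.app (op (Over.mk φ))) ≫ Q.map g.op := by
  apply hom_ext
  intro φ
  have hβ := β.naturality (Over.homMk g rfl : Over.mk (g ≫ φ) ⟶ Over.mk φ).op
  rw [ιE_map_assoc U P g φ _ rfl, ιE_descE, ιE_descE_assoc]
  exact hβ

/-- the other direction of the adjunction bijection. -/
noncomputable def ofRestr (β : P ⟶ (Over.forget U).op ⋙ Q) : ext U P ⟶ Q where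
  app V := descE U P V.unop (fun φ => β.app (op (Over.mk φ)))
  naturality _ _ h := ofRestr_aux β h.unop

@[reassoc (attr := simp)]
lemma ιE_ofRestr_app (β : P ⟶ (Over.forget U).op ⋙ Q) (V : C) (φ : V ⟶ U) :
    ιE U P V φ ≫ (ofRestr β).app (op V) = β.app (op (Over.mk φ)) :=
  ιE_descE U P V _ φ

lemma toRestr_app (α : ext U P ⟶ Q) (W : Over U) :
    (toRestr α).app (op W) = ιE U P W.left W.hom ≫ α.app (op W.left) :=
  rfl

/-- the adjunction bijection. -/
noncomputable def homEquiv (P : (Over U)ᵒᵖ ⥤ AddCommGrpCat.{u}) (Q : Cᵒᵖ ⥤ AddCommGrpCat.{u}) :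
    (ext U P ⟶ Q) ≃ (P ⟶ (Over.forget U).op ⋙ Q) where
  toFun := toRestr
  invFun := ofRestr
  left_inv α := by
    apply NatTrans.ext
    funext V
    induction V using Opposite.rec with | _ V => ?_
    apply hom_ext
    intro φ
    rw [ιE_ofRestr_app]
    rfl
  right_inv β := by
    apply NatTrans.ext
    funext W
    induction W using Opposite.rec with | _ W => ?_
    rw [toRestr_app, ιE_ofRestr_app]
    rfl

variable (U)

/-- extension by zero is left adjoint to restriction, on presheaves. -/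
noncomputable def adj :
    extFunctor U ⊣ (Functor.whiskeringLeft _ _ AddCommGrpCat.{u}).obj (Over.forget U).op :=
  Adjunction.mkOfHomEquiv
    { homEquiv := homEquiv
      homEquiv_naturality_left_symm := by
        intro P P' Q τ β
        apply NatTrans.ext
        funext V
        induction V using Opposite.rec with | _ V => ?_
        apply hom_ext
        intro φ
        show ιE U P V φ ≫ (ofRestr (τ ≫ β)).app (op V) =
          ιE U P V φ ≫ (extHom τ).app (op V) ≫ (ofRestr β).app (op V)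
        rw [ιE_ofRestr_app, ιE_extHom_app_assoc, ιE_ofRestr_app]
        rfl
      homEquiv_naturality_right := by
        intro P Q Q' α γ
        apply NatTrans.ext
        funext W
        induction W using Opposite.rec with | _ W => ?_
        show (toRestr (α ≫ γ)).app (op W) = (toRestr α).app (op W) ≫ γ.app (op W.left)
        rw [toRestr_app, toRestr_app, NatTrans.comp_app]
        exact (Category.assoc _ _ _).symm }

end Adjunction

section Mono

variable {U}
variable {P P' : (Over U)ᵒᵖ ⥤ AddCommGrpCat.{u}}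

lemma mono_extHom_app (τ : P ⟶ P') [Mono τ] (V : C) : Mono ((extHom τ).app (op V)) := by
  have h1 : ∀ W, Mono (τ.app W) := fun W => inferInstance
  let φ : Discrete.functor (summand U P V) ⟶ Discrete.functor (summand U P' V) :=
    Discrete.natTrans (fun φ => τ.app (op (Over.mk φ.as)))
  have : ∀ j, Mono (φ.app j) := fun j => h1 _
  have : Mono φ := NatTrans.mono_of_mono_app φ
  refine colim.map_mono' φ (colimit.isColimit _) (colimit.isColimit _) ((extHom τ).app (op V)) ?_
  rintro ⟨φ⟩
  exact ιE_extHom_app τ V φ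

instance : (extFunctor U).PreservesMonomorphisms where
  preserves τ _ := by
    have : ∀ V, Mono (((extFunctor U).map τ).app V) := by
      intro V
      induction V using Opposite.rec with | _ V => ?_
      exact mono_extHom_app τ V
    exact NatTrans.mono_of_mono_app _

end Mono

section Sheaf

variable (J : GrothendieckTopology C)

/-- extension by zero of abelian sheaves. -/
noncomputable def shriek : Sheaf (J.over U) AddCommGrpCat.{u} ⥤ Sheaf J AddCommGrpCat.{u} :=
  sheafToPresheaf (J.over U) AddCommGrpCat.{u} ⋙ extFunctor U ⋙ presheafToSheaf J AddCommGrpCat.{u}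

/-- extension by zero is left adjoint to restriction. -/
noncomputable def shriekAdj :
    shriek U J ⊣ (Over.forget U).sheafPushforwardContinuous AddCommGrpCat.{u} (J.over U) J :=
  ((adj U).comp (sheafificationAdjunction J AddCommGrpCat.{u})).restrictFullyFaithful
    (fullyFaithfulSheafToPresheaf (J.over U) AddCommGrpCat.{u}) (Functor.FullyFaithful.id _)
    (Iso.refl _) (Iso.refl _)

instance : (shriek U J).PreservesMonomorphisms := by
  have h1 : (sheafToPresheaf (J.over U) AddCommGrpCat.{u}).PreservesMonomorphisms :=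
    inferInstance
  have h2 : (presheafToSheaf J AddCommGrpCat.{u}).PreservesMonomorphisms :=
    inferInstance
  have h3 : (extFunctor U ⋙ presheafToSheaf J AddCommGrpCat.{u}).PreservesMonomorphisms :=
    inferInstance
  exact Functor.preservesMonomorphisms_comp _ _

instance restr_injective (I : Sheaf J AddCommGrpCat.{u}) [Injective I] :
    Injective (((Over.forget U).sheafPushforwardContinuous AddCommGrpCat.{u} (J.over U) J).obj I) :=
  Injective.injective_of_adjoint (shriekAdj U J) I

end Sheaf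

end Groth.Agent.OverShriek
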