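import Groth.Agent.Lib.CechInj
import Groth.Agent.Lib.OverShriek
set_option autoImplicit false
universe u
open CategoryTheory Limits Opposite

namespace Groth.Agent.Cech

instance injective_sheaf_obj {C : Type u} [SmallCategory C] (J : GrothendieckTopology C)
    (I : Sheaf J AddCommGrpCat.{u}) [Injective I] : Injective I.obj :=
  Injective.injective_of_adjoint (sheafificationAdjunction J AddCommGrpCat.{u}) I

instance injective_over_restr {C : Type u} [SmallCategory C] (U : C)
    (Q : Cᵒᵖ ⥤ AddCommGrpCat.{u}) [Injective Q] : Injective ((Over.forget U).op ⋙ Q) :=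
  Injective.injective_of_adjoint (Groth.Agent.OverShriek.adj U) Q

end Groth.Agent.Cech
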