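import Mathlib
import Groth.Prelude.Def_CohSite

/-! Basic facts on cohomology of abelian sheaves on a small site (helper library). -/

set_option autoImplicit false
universe u
open CategoryTheory Opposite Limits Abelian

namespace Groth.Agent.CohSiteBasics

variable {C : Type u} [SmallCategory C] (J : GrothendieckTopology C)

/-- The free abelian sheaf `ℤ[U]` on an object `U`. -/
noncomputable abbrev freeSheaf (U : C) : Sheaf J AddCommGrpCat.{u} :=
  (presheafToSheaf J AddCommGrpCat.{u}).obj (yoneda.obj U ⋙ AddCommGrpCat.free)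

/-- The map `ℤ[V] ⟶ ℤ[U]` for `f : V ⟶ U`. -/
noncomputable abbrev freeMap {U V : C} (f : V ⟶ U) : freeSheaf J V ⟶ freeSheaf J U :=
  (presheafToSheaf J AddCommGrpCat.{u}).map
    (Functor.whiskerRight (yoneda.map f) AddCommGrpCat.free)

variable {J}

/-- Morphisms `ℤ[U] ⟶ F` are sections of `F` over `U`. -/
noncomputable def secEquiv (U : C) (F : Sheaf J AddCommGrpCat.{u}) :
    (freeSheaf J U ⟶ F) ≃ F.obj.obj (op U) :=
  ((sheafificationAdjunction _ _).homEquiv _ _).trans
   (((Adjunction.whiskerRight _ AddCommGrpCat.adj).homEquiv (yoneda.obj U) F.obj).trans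
    yonedaEquiv)

lemma secEquiv_comp (U : C) {F G : Sheaf J AddCommGrpCat.{u}} (a : freeSheaf J U ⟶ F)
    (φ : F ⟶ G) : secEquiv U G (a ≫ φ) = φ.hom.app (op U) (secEquiv U F a) := by
  simp only [secEquiv, Equiv.trans_apply]
  rw [Adjunction.homEquiv_naturality_right]
  erw [Adjunction.homEquiv_naturality_right]
  rw [yonedaEquiv_comp]
  rfl

lemma secEquiv_freeMap {U V : C} (f : V ⟶ U) {F : Sheaf J AddCommGrpCat.{u}}
    (a : freeSheaf J U ⟶ F) :
    secEquiv V F (freeMap J f ≫ a) = F.obj.map f.op (secEquiv U F a) := by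
  simp only [secEquiv, Equiv.trans_apply]
  rw [Adjunction.homEquiv_naturality_left]
  erw [Adjunction.homEquiv_naturality_left]
  rw [← yonedaEquiv_naturality]
  rfl

lemma res_eq (F : Sheaf J AddCommGrpCat.{u}) (n : ℕ) {U V : C} (f : V ⟶ U)
    (ξ : CohSite.HU F n U) :
    CohSite.res F n f ξ =
      (Ext.mk₀ (freeMap J f)).comp (ξ : Ext (freeSheaf J U) F n) (zero_add n) := rfl

/-- The short complex `0 → F → I(F) → Q → 0`. -/
noncomputable def injSC (F : Sheaf J AddCommGrpCat.{u}) : ShortComplex (Sheaf J AddCommGrpCat.{u}) :=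
  ShortComplex.mk (Injective.ι F) (cokernel.π (Injective.ι F)) (cokernel.condition _)

lemma injSC_shortExact (F : Sheaf J AddCommGrpCat.{u}) : (injSC F).ShortExact := by
  have : Mono (injSC F).f := by dsimp [injSC]; infer_instance
  have : Epi (injSC F).g := by dsimp [injSC]; infer_instance
  exact ShortComplex.ShortExact.mk (ShortComplex.exact_cokernel (Injective.ι F))

instance injSC_X₂_injective (F : Sheaf J AddCommGrpCat.{u}) : Injective (injSC F).X₂ := by
  dsimp [injSC]; infer_instance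

/-- an epimorphism of sheaves is locally surjective on sections. -/
lemma imageSieve_mem_of_epi {F G : Sheaf J AddCommGrpCat.{u}} (φ : F ⟶ G) [hφ : Epi φ] (U : C)
    (s : G.obj.obj (op U)) : Presheaf.imageSieve φ.hom s ∈ J U := by
  have : Sheaf.IsLocallySurjective φ := (Sheaf.isLocallySurjective_iff_epi' (φ := φ)).mpr hφ
  exact Presheaf.imageSieve_mem J φ.hom s

lemma ext_locally_zero_zero (U : C) (S : ShortComplex (Sheaf J AddCommGrpCat.{u}))
    (hS : S.ShortExact) [Injective S.X₂] (ξ : Ext (freeSheaf J U) S.X₁ 1) :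
    ∃ (R : Sieve U), R ∈ J U ∧ ∀ {V : C} (f : V ⟶ U), R f →
      (Ext.mk₀ (freeMap J f)).comp ξ (zero_add 1) = 0 := by
  obtain ⟨x₃, rfl⟩ := Ext.covariant_sequence_exact₁ (freeSheaf J U) hS ξ
    (Ext.eq_zero_of_injective _) rfl
  obtain ⟨q, rfl⟩ := (Ext.mk₀_bijective _ _).surjective x₃
  have : Epi S.g := hS.epi_g
  refine ⟨_, imageSieve_mem_of_epi S.g U (secEquiv U _ q), ?_⟩
  intro V f hf
  obtain ⟨t, ht⟩ := hf
  have hq : (secEquiv V _).symm t ≫ S.g = freeMap J f ≫ q := by
    apply (secEquiv V _).injective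
    rw [secEquiv_comp, Equiv.apply_symm_apply, secEquiv_freeMap]
    exact ht
  rw [← Ext.comp_assoc_of_second_deg_zero, Ext.mk₀_comp_mk₀, ← hq, ← Ext.mk₀_comp_mk₀,
    Ext.comp_assoc_of_second_deg_zero, hS.comp_extClass, Ext.comp_zero]

lemma ext_locally_zero_succ (U : C) (S : ShortComplex (Sheaf J AddCommGrpCat.{u}))
    (hS : S.ShortExact) [Injective S.X₂] (n : ℕ)
    (ih : ∀ (η : Ext (freeSheaf J U) S.X₃ (n + 1)),
      ∃ (R : Sieve U), R ∈ J U ∧ ∀ {V : C} (f : V ⟶ U), R f →
        (Ext.mk₀ (freeMap J f)).comp η (zero_add (n + 1)) = 0)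
    (ξ : Ext (freeSheaf J U) S.X₁ (n + 1 + 1)) :
    ∃ (R : Sieve U), R ∈ J U ∧ ∀ {V : C} (f : V ⟶ U), R f →
      (Ext.mk₀ (freeMap J f)).comp ξ (zero_add (n + 1 + 1)) = 0 := by
  obtain ⟨x₃, rfl⟩ := Ext.covariant_sequence_exact₁ (freeSheaf J U) hS ξ
    (Ext.eq_zero_of_injective _) rfl
  obtain ⟨R, hR, hz⟩ := ih x₃
  refine ⟨R, hR, fun {V} f hf => ?_⟩
  rw [← Ext.comp_assoc (Ext.mk₀ (freeMap J f)) x₃ hS.extClass (zero_add _) rfl (by omega),
    hz f hf, Ext.zero_comp]

theorem ext_locally_zero (U : C) :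
    ∀ (n : ℕ) (F : Sheaf J AddCommGrpCat.{u}) (ξ : Ext (freeSheaf J U) F (n + 1)),
      ∃ (R : Sieve U), R ∈ J U ∧ ∀ {V : C} (f : V ⟶ U), R f →
        (Ext.mk₀ (freeMap J f)).comp ξ (zero_add (n + 1)) = 0 := by
  intro n
  induction n with
  | zero =>
    intro F ξ
    exact ext_locally_zero_zero U (injSC F) (injSC_shortExact F) ξ
  | succ n ih =>
    intro F ξ
    exact ext_locally_zero_succ U (injSC F) (injSC_shortExact F) n (ih _) ξ

theorem HU_locally_zero (F : Sheaf J AddCommGrpCat.{u}) (U : C) (n : ℕ)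
    (ξ : CohSite.HU F (n + 1) U) :
    ∃ (S : J.Cover U), ∀ (a : S.Arrow), CohSite.res F (n + 1) a.f ξ = 0 := by
  obtain ⟨R, hR, hz⟩ := ext_locally_zero U n F ξ
  refine ⟨⟨R, hR⟩, fun a => ?_⟩
  rw [res_eq]
  exact hz a.f a.hf

/-- sections over a weakly contractible object send epis to surjections. -/
lemma surjective_of_isWeaklyContractible {U : C} (hU : CohSite.IsWeaklyContractible J U)
    {F G : Sheaf J AddCommGrpCat.{u}} (φ : F ⟶ G) [hφ : Epi φ] :
    Function.Surjective (φ.hom.app (op U)) := by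
  have h1 : Sheaf.IsLocallySurjective φ := (Sheaf.isLocallySurjective_iff_epi' (φ := φ)).mpr hφ
  have h2 : Sheaf.IsLocallySurjective ((sheafCompose J (forget AddCommGrpCat.{u})).map φ) :=
    inferInstance
  have h3 : Epi ((sheafCompose J (forget AddCommGrpCat.{u})).map φ) := inferInstance
  exact hU _ _ _ h3

theorem projective_freeSheaf {U : C} (hU : CohSite.IsWeaklyContractible J U) :
    Projective (freeSheaf J U) := by
  refine ⟨fun {E X} f e he => ?_⟩
  obtain ⟨t, ht⟩ := surjective_of_isWeaklyContractible hU e (secEquiv U _ f)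
  refine ⟨(secEquiv U _).symm t, ?_⟩
  apply (secEquiv U _).injective
  rw [secEquiv_comp, Equiv.apply_symm_apply]
  exact ht

theorem HU_subsingleton_of_isWeaklyContractible {U : C} (hU : CohSite.IsWeaklyContractible J U)
    (F : Sheaf J AddCommGrpCat.{u}) (p : ℕ) : Subsingleton (CohSite.HU F (p + 1) U) := by
  have := projective_freeSheaf hU
  exact subsingleton_of_forall_eq 0
    (fun (x : Ext (freeSheaf J U) F (p + 1)) => Ext.eq_zero_of_projective x)

instance (U : C) : (sheafToPresheaf J AddCommGrpCat.{u} ⋙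
    (evaluation Cᵒᵖ AddCommGrpCat.{u}).obj (op U)).Additive where

theorem preservesFiniteColimits_sections {U : C} (hU : CohSite.IsWeaklyContractible J U) :
    PreservesFiniteColimits (sheafToPresheaf J AddCommGrpCat.{u} ⋙
      (evaluation Cᵒᵖ AddCommGrpCat.{u}).obj (op U)) := by
  rw [Functor.preservesFiniteColimits_iff_forall_exact_map_and_epi]
  intro S hS
  have hlim : PreservesFiniteLimits (sheafToPresheaf J AddCommGrpCat.{u} ⋙
      (evaluation Cᵒᵖ AddCommGrpCat.{u}).obj (op U)) := inferInstance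
  rw [Functor.preservesFiniteLimits_iff_forall_exact_map_and_mono] at hlim
  refine ⟨(hlim S hS).1, ?_⟩
  have : Epi S.g := hS.epi_g
  rw [AddCommGrpCat.epi_iff_surjective]
  exact surjective_of_isWeaklyContractible hU S.g

/-- sections functor to types -/
noncomputable abbrev secT (U : C) : Sheaf J AddCommGrpCat.{u} ⥤ Type u :=
  sheafToPresheaf J AddCommGrpCat.{u} ⋙ (evaluation Cᵒᵖ AddCommGrpCat.{u}).obj (op U) ⋙
    forget AddCommGrpCat.{u}

/-- A family of sections of the `F i` over `U` is a section of the product over `U`. -/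
lemma exists_section_limit {I : Type u} (F : Discrete I ⥤ Sheaf J AddCommGrpCat.{u}) (U : C)
    (t : ∀ i : Discrete I, (F.obj i).obj.obj (op U)) :
    ∃ x : (limit F).obj.obj (op U), ∀ i, (limit.π F i).hom.app (op U) x = t i := by
  have hc := isLimitOfPreserves (secT (J := J) U) (limit.isLimit F)
  let e := Types.isLimitEquivSections hc
  have ht : (fun i => t i : ∀ i, (F ⋙ secT U).obj i) ∈ (F ⋙ secT U).sections := by
    rintro ⟨i⟩ ⟨j⟩ ⟨⟨h⟩⟩
    cases h
    simp
  refine ⟨e.symm ⟨_, ht⟩, fun i => ?_⟩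
  exact Types.isLimitEquivSections_symm_apply hc ⟨_, ht⟩ i

lemma section_limit_ext {I : Type u} (F : Discrete I ⥤ Sheaf J AddCommGrpCat.{u}) (U : C)
    (x y : (limit F).obj.obj (op U))
    (h : ∀ i, (limit.π F i).hom.app (op U) x = (limit.π F i).hom.app (op U) y) : x = y := by
  have hc := isLimitOfPreserves (secT (J := J) U) (limit.isLimit F)
  apply (Types.isLimitEquivSections hc).injective
  ext i
  exact h i


theorem epi_limMap_of_weaklyContractible {I : Type u} (B : Set C)
    (hB : ∀ U ∈ B, CohSite.IsWeaklyContractible J U)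
    (hcov : ∀ V : C, ∃ (ι : Type u) (U : ι → C) (f : ∀ i, U i ⟶ V),
      (∀ i, U i ∈ B) ∧ Sieve.ofArrows U f ∈ J V)
    {F G : Discrete I ⥤ Sheaf J AddCommGrpCat.{u}} (α : F ⟶ G) [hα : Epi α] :
    Epi (limMap α) := by
  have hα' : ∀ i, Epi (α.app i) := (NatTrans.epi_iff_epi_app α).mp hα
  rw [← Sheaf.isLocallySurjective_iff_epi']
  refine ⟨fun {V} s => ?_⟩
  obtain ⟨ι, U, f, hUB, hcovV⟩ := hcov V
  refine J.superset_covering ?_ hcovV
  rw [Sieve.ofArrows, Sieve.generate_le_iff]
  rintro W g ⟨k⟩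
  have hsurj : ∀ i, Function.Surjective ((α.app i).hom.app (op (U k))) := fun i =>
    surjective_of_isWeaklyContractible (hB _ (hUB k)) (α.app i)
  choose t ht using fun i => hsurj i ((G.obj i).obj.map (f k).op ((limit.π G i).hom.app (op V) s))
  obtain ⟨x, hx⟩ := exists_section_limit F (U k) t
  refine ⟨x, ?_⟩
  apply section_limit_ext
  intro i
  have h1 : (limMap α).hom.app (op (U k)) ≫ (limit.π G i).hom.app (op (U k)) =
      (limit.π F i).hom.app (op (U k)) ≫ (α.app i).hom.app (op (U k)) := by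
    rw [← NatTrans.comp_app, ← NatTrans.comp_app, ← ObjectProperty.FullSubcategory.comp_hom, ← ObjectProperty.FullSubcategory.comp_hom, limMap_π]
  have h2 := (limit.π G i).hom.naturality (f k).op
  have h1' := ConcreteCategory.congr_hom h1 x
  have h2' := ConcreteCategory.congr_hom h2 s
  simp only [ConcreteCategory.comp_apply] at h1' h2'
  rw [h1', hx, ht, h2']

end Groth.Agent.CohSiteBasics
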