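import Groth.Agent.Lib.CechExact
import Groth.Agent.Lib.CohSiteBasics
set_option autoImplicit false
universe u
open CategoryTheory Limits Opposite

namespace Groth.Agent.Cech

variable {C : Type u} [SmallCategory C] {J : GrothendieckTopology C}

lemma sections_left_exact (S : ShortComplex (Sheaf J AddCommGrpCat.{u})) (hS : S.ShortExact) (W : C) :
    Function.Injective (S.f.hom.app (op W)).hom ∧
      ∀ y, (S.g.hom.app (op W)).hom y = 0 → ∃ x, (S.f.hom.app (op W)).hom x = y := by
  have hlim : PreservesFiniteLimits (sheafToPresheaf J AddCommGrpCat.{u} ⋙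
      (evaluation Cᵒᵖ AddCommGrpCat.{u}).obj (op W)) := inferInstance
  rw [Functor.preservesFiniteLimits_iff_forall_exact_map_and_mono] at hlim
  obtain ⟨h1, h2⟩ := hlim S hS
  constructor
  · exact (AddCommGrpCat.mono_iff_injective _).mp h2
  · exact (ShortComplex.ab_exact_iff _).mp h1

/-- gluing along a covering family, for abelian sheaves on a site. -/
theorem site_glue
    (F : Sheaf J AddCommGrpCat.{u}) {B : C} {ι : Type u} (X : ι → C) (π : ∀ i, X i ⟶ B)
    (hcov : Sieve.ofArrows X π ∈ J B)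
    (x : ∀ i, F.obj.obj (op (X i)))
    (hx : ∀ i j (Z : C) (gi : Z ⟶ X i) (gj : Z ⟶ X j), gi ≫ π i = gj ≫ π j →
      (F.obj.map gi.op).hom (x i) = (F.obj.map gj.op).hom (x j)) :
    ∃! t : F.obj.obj (op B), ∀ i, (F.obj.map (π i).op).hom t = x i := by
  have h1 : Presieve.IsSheaf J (F.obj ⋙ forget AddCommGrpCat.{u}) :=
    (isSheaf_iff_isSheaf_of_type _ _).mp
      ((Presheaf.isSheaf_iff_isSheaf_forget J F.obj (forget AddCommGrpCat.{u})).mp F.property)
  have h2 : (Presieve.ofArrows X π).IsSheafFor (F.obj ⋙ forget AddCommGrpCat.{u}) :=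
    (Presieve.isSheafFor_iff_generate _).mpr (h1 _ hcov)
  exact (Presieve.isSheafFor_arrows_iff (F.obj ⋙ forget AddCommGrpCat.{u}) π).mp h2 x hx

section Over

variable {B : C} [HasFiniteProducts (Over B)] {ι : Type u} (Y : ι → Over B)

/-- the restriction of a presheaf to the over category. -/
abbrev ovr (P : Cᵒᵖ ⥤ AddCommGrpCat.{u}) : (Over B)ᵒᵖ ⥤ AddCommGrpCat.{u} := (Over.forget B).op ⋙ P

/-- the structure maps to the terminal object of the over category. -/
abbrev qOver (i : ι) : Y i ⟶ Over.mk (𝟙 B) := Over.homMk (Y i).hom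

omit [HasFiniteProducts (Over B)] in
lemma hqOver {W : Over B} {i j : ι} (a : W ⟶ Y i) (b : W ⟶ Y j) :
    a ≫ qOver Y i = b ≫ qOver Y j := by
  apply Over.OverMorphism.ext
  simp

/-- a Čech 0-cocycle of a sheaf for a covering family glues. -/
theorem exists_aug_eq (F : Sheaf J AddCommGrpCat.{u})
    (hY : Sieve.ofArrows (fun i => (Y i).left) (fun i => (Y i).hom) ∈ J B)
    (x : (cx Y (ovr F.obj)).X 0) (hx : ((cx Y (ovr F.obj)).d 0 1).hom x = 0) :
    ∃ s : F.obj.obj (op B), x = aug (P := ovr F.obj) (qOver Y) s := by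
  obtain ⟨s, hs, -⟩ := site_glue F (fun i => (Y i).left) (fun i => (Y i).hom) hY
    (fun j => sec0 x (fun _ => j)) (by
      intro i j Z gi gj hg
      exact compatible (P := ovr F.obj) x hx (W := Over.mk (gi ≫ (Y i).hom))
        (Over.homMk gi rfl : Over.mk (gi ≫ (Y i).hom) ⟶ Y i)
        (Over.homMk gj hg.symm : Over.mk (gi ≫ (Y i).hom) ⟶ Y j))
  refine ⟨s, eq_aug_of_sec0 (P := ovr F.obj) (qOver Y) x s (fun j => ?_)⟩
  exact (hs j).symm

/-- the augmentation is injective for a sheaf and a covering family. -/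
theorem aug_injective (F : Sheaf J AddCommGrpCat.{u})
    (hY : Sieve.ofArrows (fun i => (Y i).left) (fun i => (Y i).hom) ∈ J B)
    (s s' : F.obj.obj (op B))
    (h : aug (P := ovr F.obj) (qOver Y) s = aug (P := ovr F.obj) (qOver Y) s') : s = s' := by
  obtain ⟨t, -, ht⟩ := site_glue F (fun i => (Y i).left) (fun i => (Y i).hom) hY
    (fun j => (F.obj.map (Y j).hom.op).hom s) (by
      intro i j Z gi gj hg
      rw [← AddCommGrpCat.comp_apply, ← AddCommGrpCat.comp_apply, ← Functor.map_comp,
        ← Functor.map_comp, ← op_comp, ← op_comp, hg])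
  have h1 := ht s (fun _ => rfl)
  have h2 := ht s' (fun j => by
    have := congrArg (fun z => sec0 z (fun _ => j)) h
    simp only [sec0_aug] at this
    exact this.symm)
  rw [h1, h2]


/-- the short complex of restricted presheaves. -/
noncomputable def ovrSC (S : ShortComplex (Sheaf J AddCommGrpCat.{u})) :
    ShortComplex ((Over B)ᵒᵖ ⥤ AddCommGrpCat.{u}) :=
  ShortComplex.mk (X₁ := ovr S.X₁.obj) (X₂ := ovr S.X₂.obj) (X₃ := ovr S.X₃.obj)
    (Functor.whiskerLeft (Over.forget B).op S.f.hom)
    (Functor.whiskerLeft (Over.forget B).op S.g.hom) (by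
      ext W : 2
      have := congrArg (fun φ => φ.hom.app (op W.unop.left)) S.zero
      exact this)

/-- if every covering sieve is refined by a covering family with vanishing first Čech cohomology
of the kernel, then sections of the middle term surject onto those of the quotient. -/
theorem surjective_of_cech_H1 (S : ShortComplex (Sheaf J AddCommGrpCat.{u})) (hS : S.ShortExact)
    (h : ∀ T ∈ J B, ∃ (ι : Type u) (Y : ι → Over B), (∀ i, T.arrows (Y i).hom) ∧
      Sieve.ofArrows (fun i => (Y i).left) (fun i => (Y i).hom) ∈ J B ∧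
      IsZero ((cx Y (ovr S.X₁.obj)).homology 1)) :
    Function.Surjective (S.g.hom.app (op B)).hom := by
  intro s
  have : Epi S.g := hS.epi_g
  obtain ⟨ι, Y, hYT, hY, hH1⟩ := h _ (Groth.Agent.CohSiteBasics.imageSieve_mem_of_epi S.g B s)
  choose t ht using hYT
  let T := ovrSC (B := B) S
  -- the 0-cochain of local lifts
  let t0 : (cx Y T.X₂).X 0 :=
    mk (fun e => (S.X₂.obj.map ((Pi.π (Y ∘ e) 0).left).op).hom (t (e 0)))
  have ht0 : (((cechComplexFunctor Y).map T.g).f 0).hom t0 = aug (P := T.X₃) (qOver Y) s := by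
    apply cochain_ext
    intro e
    rw [comp_map, comp_mk, comp_aug]
    have h1 := ConcreteCategory.congr_hom (S.g.hom.naturality ((Pi.π (Y ∘ e) 0).left).op) (t (e 0))
    refine h1.trans ?_
    rw [AddCommGrpCat.comp_apply]
    refine (congrArg _ (ht (e 0))).trans ?_
    rw [← AddCommGrpCat.comp_apply, ← Functor.map_comp, ← op_comp]
    rfl
  obtain ⟨b, hb⟩ := exists_cocycle_correction (U := Y) T
    (fun a => (sections_left_exact S hS _).1) (fun a => (sections_left_exact S hS _).2) hH1 t0
    (by rw [ht0]; exact d_aug (P := T.X₃) (qOver Y) (hqOver Y) s)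
  obtain ⟨τ, hτ⟩ := exists_aug_eq Y S.X₂ hY _ hb
  refine ⟨τ, ?_⟩
  apply aug_injective Y S.X₃ hY
  have h2 := congrArg (((cechComplexFunctor Y).map T.g).f 0).hom hτ
  have h3 : (((cechComplexFunctor Y).map T.g).f 0).hom
      ((((cechComplexFunctor Y).map T.f).f 0).hom b) = 0 := by
    rw [← AddCommGrpCat.comp_apply, ← HomologicalComplex.comp_f, ← Functor.map_comp,
      T.zero, map_zero']
    rfl
  rw [map_sub, ht0, h3, sub_zero] at h2
  exact (h2.trans (map_aug (P := T.X₂) (Q := T.X₃) (qOver Y) T.g τ)).symm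

end Over

end Groth.Agent.Cech
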