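import Groth.Agent.Lib.CechExt
import Groth.Agent.Lib.CechSite
import Groth.Agent.Lib.CechInjSite
import Groth.Prelude.Def_CohCx
set_option autoImplicit false
universe u
open CategoryTheory Limits Opposite Abelian

namespace Groth.Agent.Cech

open Groth.Agent.CohSiteBasics

variable {C : Type u} [SmallCategory C] {J : GrothendieckTopology C}

/-- abstract form of Cartan's criterion. -/
theorem cartan_abstract (B : Set C) (CA : Sheaf J AddCommGrpCat.{u} → Prop)
    (A1 : ∀ F, CA F → ∀ U ∈ B, Function.Surjective ((injSC F).g.hom.app (op U)).hom)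
    (A2 : ∀ F, CA F → (∀ U ∈ B, Function.Surjective ((injSC F).g.hom.app (op U)).hom) →
      CA (injSC F).X₃) :
    ∀ (p : ℕ) (F : Sheaf J AddCommGrpCat.{u}), CA F → ∀ U ∈ B,
      Subsingleton (CohSite.HU F (p + 1) U) := by
  intro p
  induction p with
  | zero =>
    intro F hF U hU
    exact H1_subsingleton_of_surjective (injSC F) (injSC_shortExact F) U (A1 F hF U hU)
  | succ p ih =>
    intro F hF U hU
    have h1 := ih (injSC F).X₃ (A2 F hF (A1 F hF)) U hU
    have h1' : Subsingleton (Ext (freeSheaf J U) (injSC F).X₃ (p + 1)) := h1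
    exact (shiftEquiv (injSC F) (injSC_shortExact F) U p).symm.toEquiv.subsingleton

/-- a short exact sequence of sheaves whose sections are surjective on all iterated fibre products
of a family gives a short exact sequence of Čech complexes. -/
theorem shortExact_cech_site {B : C} [HasFiniteProducts (Over B)] {ι : Type u} (Y : ι → Over B)
    (S : ShortComplex (Sheaf J AddCommGrpCat.{u})) (hS : S.ShortExact)
    (hg : ∀ (n : ℕ) (a : Fin (n + 1) → ι),
      Function.Surjective (S.g.hom.app (op (prodObj Y a).left)).hom) :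
    (mapSC Y (ovrSC (B := B) S)).ShortExact :=
  mapSC_shortExact (ovrSC (B := B) S) (fun _ _ => (sections_left_exact S hS _).1)
    (fun _ _ => (sections_left_exact S hS _).2) hg

/-- in a short exact sequence of complexes, if `H^{n+1}(X₂) = 0` and `H^{n+2}(X₁) = 0` then
`H^{n+1}(X₃) = 0`. -/
lemma isZero_homology_X₃ (SS : ShortComplex (CochainComplex AddCommGrpCat.{u} ℕ))
    (hSS : SS.ShortExact) (n : ℕ) (h2 : IsZero (SS.X₂.homology (n + 1)))
    (h1 : IsZero (SS.X₁.homology (n + 2))) : IsZero (SS.X₃.homology (n + 1)) :=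
  (hSS.homology_exact₃ (n + 1) (n + 2) (by simp)).isZero_of_both_isZero h2 h1


theorem cartan_site [HasPullbacks C]
    (B : Set C) (Cov : ∀ (U : C) (ι : Type u), (ι → Over U) → Prop)
    (h1 : ∀ (U : C) (ι : Type u) (Y : ι → Over U), Cov U ι Y → U ∈ B ∧
      Sieve.ofArrows (fun i => (Y i).left) (fun i => (Y i).hom) ∈ J U ∧
      ∀ (p : ℕ) (a : Fin (p + 1) → ι), (∏ᶜ fun k => Y (a k)).left ∈ B)
    (h2 : ∀ U ∈ B, ∀ T ∈ J U, ∃ (ι : Type u) (Y : ι → Over U), Cov U ι Y ∧ ∀ i, T.arrows (Y i).hom)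
    (F : Sheaf J AddCommGrpCat.{u})
    (h3 : ∀ (U : C) (ι : Type u) (Y : ι → Over U), Cov U ι Y → ∀ p : ℕ, IsZero (CohCx.cechH F.obj Y (p + 1)))
    (U : C) (hU : U ∈ B) (p : ℕ) : Subsingleton (CohSite.HU F (p + 1) U) := by
  refine cartan_abstract B
    (fun G => ∀ (U : C) (ι : Type u) (Y : ι → Over U), Cov U ι Y → ∀ p : ℕ,
      IsZero (CohCx.cechH G.obj Y (p + 1))) ?_ ?_ p F h3 U hU
  · intro G hG U hU
    refine surjective_of_cech_H1 (injSC G) (injSC_shortExact G) (fun T hT => ?_)
    obtain ⟨ι, Y, hc, hYT⟩ := h2 U hU T hT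
    exact ⟨ι, Y, hYT, (h1 U ι Y hc).2.1, hG U ι Y hc 0⟩
  · intro G hG hsurj U ι Y hc p
    have hSS := shortExact_cech_site Y (injSC G) (injSC_shortExact G)
      (fun n a => hsurj _ ((h1 U ι Y hc).2.2 n a))
    have := injective_sheaf_obj J (injSC G).X₂
    have := injective_over_restr U (injSC G).X₂.obj
    exact isZero_homology_X₃ _ hSS p
      (isZero_homology_of_injective (P := (Over.forget U).op ⋙ (injSC G).X₂.obj) Y p)
      (hG U ι Y hc (p + 1))

end Groth.Agent.Cech
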