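import Mathlib
import Groth.Prelude.Def_CohTop

/-! Basic facts on cohomology of abelian sheaves on topological spaces (helper library). -/

set_option autoImplicit false
universe u
open CategoryTheory TopologicalSpace Opposite Limits

namespace Groth.Agent.CohTopBasics

/-- inverse image of abelian sheaves on topological spaces is left exact. -/
instance pull_preservesFiniteLimits {X Y : TopCat.{u}} (f : X ⟶ Y) :
    PreservesFiniteLimits (CohTop.pull f) := by
  unfold CohTop.pull TopCat.Sheaf.pullback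
  exact Functor.SmallCategories.instPreservesFiniteLimitsSheafSheafPullbackOfRepresentablyFlat
    (Opens.map f) AddCommGrpCat.{u} _ _

instance pull_preservesMonomorphisms {X Y : TopCat.{u}} (f : X ⟶ Y) :
    (CohTop.pull f).PreservesMonomorphisms := inferInstance

/-- The adjunction `f⁻¹ ⊣ f_*`, retyped. -/
noncomputable def pullPushAdj {X Y : TopCat.{u}} (f : X ⟶ Y) : CohTop.pull f ⊣ CohTop.push f :=
  TopCat.Sheaf.pullbackPushforwardAdjunction AddCommGrpCat.{u} f

theorem push_injective {X Y : TopCat.{u}} (f : X ⟶ Y) (I : CohTop.Ab X) [Injective I] :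
    Injective ((CohTop.push f).obj I) :=
  Injective.injective_of_adjoint (pullPushAdj f) I


/-- The free abelian sheaf `ℤ[U]` on an open `U`. -/
noncomputable abbrev freeSheaf {X : TopCat.{u}} (U : Opens X) : CohTop.Ab X :=
  (presheafToSheaf (Opens.grothendieckTopology X) AddCommGrpCat.{u}).obj
    (yoneda.obj U ⋙ AddCommGrpCat.free)

/-- The map `ℤ[V] ⟶ ℤ[U]` for `V ≤ U`. -/
noncomputable abbrev freeMap {X : TopCat.{u}} {U V : Opens X} (h : V ≤ U) :
    freeSheaf V ⟶ freeSheaf U :=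
  (presheafToSheaf (Opens.grothendieckTopology X) AddCommGrpCat.{u}).map
    (Functor.whiskerRight (yoneda.map (homOfLE h)) AddCommGrpCat.free)

/-- Morphisms `ℤ[U] ⟶ F` are sections of `F` over `U`. -/
noncomputable def secEquiv {X : TopCat.{u}} (U : Opens X) (F : CohTop.Ab X) :
    (freeSheaf U ⟶ F) ≃ F.obj.obj (op U) :=
  ((sheafificationAdjunction _ _).homEquiv _ _).trans
   (((Adjunction.whiskerRight _ AddCommGrpCat.adj).homEquiv (yoneda.obj U) F.obj).trans
    yonedaEquiv)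

lemma secEquiv_comp {X : TopCat.{u}} (U : Opens X) {F G : CohTop.Ab X} (a : freeSheaf U ⟶ F)
    (φ : F ⟶ G) : secEquiv U G (a ≫ φ) = φ.hom.app (op U) (secEquiv U F a) := by
  simp only [secEquiv, Equiv.trans_apply]
  rw [Adjunction.homEquiv_naturality_right]
  erw [Adjunction.homEquiv_naturality_right]
  rw [yonedaEquiv_comp]
  rfl

lemma secEquiv_freeMap {X : TopCat.{u}} {U V : Opens X} (h : V ≤ U) {F : CohTop.Ab X}
    (a : freeSheaf U ⟶ F) :
    secEquiv V F (freeMap h ≫ a) = F.obj.map (homOfLE h).op (secEquiv U F a) := by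
  simp only [secEquiv, Equiv.trans_apply]
  rw [Adjunction.homEquiv_naturality_left]
  erw [Adjunction.homEquiv_naturality_left]
  rw [← yonedaEquiv_naturality]
  rfl


instance freeMap_mono {X : TopCat.{u}} {U V : Opens X} (h : V ≤ U) : Mono (freeMap h) := by
  have h1 : Mono (yoneda.map (homOfLE h)) := inferInstance
  have h2 : Mono (Functor.whiskerRight (yoneda.map (homOfLE h)) AddCommGrpCat.free.{u}) := by
    rw [NatTrans.mono_iff_mono_app] at h1 ⊢
    intro W
    have := h1 W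
    exact AddCommGrpCat.free.{u}.map_mono _
  unfold freeMap
  infer_instance

theorem isFlasque_of_injective {X : TopCat.{u}} (F : CohTop.Ab X) [Injective F] :
    TopCat.Sheaf.IsFlasque F := by
  refine ⟨fun {U V} i => ?_⟩
  rw [AddCommGrpCat.epi_iff_surjective]
  intro s
  have h : V.unop ≤ U.unop := leOfHom i.unop
  obtain ⟨a, rfl⟩ := (secEquiv V.unop F).surjective s
  refine ⟨secEquiv U.unop F (Injective.factorThru a (freeMap h)), ?_⟩
  have hi : i = (homOfLE h).op := Subsingleton.elim _ _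
  rw [hi, ← secEquiv_freeMap, Injective.comp_factorThru]

open Abelian

/-- The short complex `0 → F → I(F) → Q → 0`. -/
noncomputable def injSC {X : TopCat.{u}} (F : CohTop.Ab X) : ShortComplex (CohTop.Ab X) :=
  ShortComplex.mk (Injective.ι F) (cokernel.π (Injective.ι F)) (cokernel.condition _)

lemma injSC_shortExact {X : TopCat.{u}} (F : CohTop.Ab X) : (injSC F).ShortExact := by
  have : Mono (injSC F).f := by dsimp [injSC]; infer_instance
  have : Epi (injSC F).g := by dsimp [injSC]; infer_instance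
  exact ShortComplex.ShortExact.mk (ShortComplex.exact_cokernel (Injective.ι F))

instance injSC_X₂_injective {X : TopCat.{u}} (F : CohTop.Ab X) : Injective (injSC F).X₂ := by
  dsimp [injSC]; infer_instance

theorem ext_freeSheaf_eq_zero_of_isFlasque {X : TopCat.{u}} (U : Opens X) :
    ∀ (n : ℕ) (F : CohTop.Ab X) [TopCat.Sheaf.IsFlasque F]
      (x : Ext (freeSheaf U) F (n + 1)), x = 0 := by
  intro n
  induction n with
  | zero =>
    intro F _ x
    have hS := injSC_shortExact F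
    have : TopCat.Sheaf.IsFlasque (injSC F).X₁ := by dsimp [injSC]; infer_instance
    obtain ⟨x₃, rfl⟩ := Ext.covariant_sequence_exact₁ (freeSheaf U) hS x
      (Ext.eq_zero_of_injective _) rfl
    obtain ⟨q, rfl⟩ := (Ext.mk₀_bijective _ _).surjective x₃
    have hepi := TopCat.Sheaf.IsFlasque.epi_of_shortExact (U := U) hS
    rw [AddCommGrpCat.epi_iff_surjective] at hepi
    obtain ⟨t, ht⟩ := hepi (secEquiv U _ q)
    have hq : (secEquiv U _).symm t ≫ (injSC F).g = q := by
      apply (secEquiv U _).injective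
      rw [secEquiv_comp, Equiv.apply_symm_apply]
      exact ht
    rw [← hq, ← Ext.mk₀_comp_mk₀, Ext.comp_assoc_of_second_deg_zero, hS.comp_extClass,
      Ext.comp_zero]
    rfl
  | succ n ih =>
    intro F _ x
    have hS := injSC_shortExact F
    have h1 : TopCat.Sheaf.IsFlasque (injSC F).X₁ := by dsimp [injSC]; infer_instance
    have h2 : TopCat.Sheaf.IsFlasque (injSC F).X₂ := isFlasque_of_injective _
    have h3 : TopCat.Sheaf.IsFlasque (injSC F).X₃ :=
      TopCat.Sheaf.IsFlasque.of_shortExact_of_isFlasque₁₂ hS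
    obtain ⟨x₃, rfl⟩ := Ext.covariant_sequence_exact₁ (freeSheaf U) hS x
      (Ext.eq_zero_of_injective _) rfl
    rw [ih _ x₃, Ext.zero_comp]
    rfl

/-- general version: `A` corepresents sections over `U`. -/
theorem ext_eq_zero_of_isFlasque {X : TopCat.{u}} (A : CohTop.Ab X) (U : Opens X)
    (e : ∀ F : CohTop.Ab X, (A ⟶ F) ≃ F.obj.obj (op U))
    (he : ∀ {F G : CohTop.Ab X} (a : A ⟶ F) (φ : F ⟶ G),
      e G (a ≫ φ) = φ.hom.app (op U) (e F a)) :
    ∀ (n : ℕ) (F : CohTop.Ab X) [TopCat.Sheaf.IsFlasque F]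
      (x : Ext A F (n + 1)), x = 0 := by
  intro n
  induction n with
  | zero =>
    intro F _ x
    have hS := injSC_shortExact F
    have : TopCat.Sheaf.IsFlasque (injSC F).X₁ := by dsimp [injSC]; infer_instance
    obtain ⟨x₃, rfl⟩ := Ext.covariant_sequence_exact₁ A hS x
      (Ext.eq_zero_of_injective _) rfl
    obtain ⟨q, rfl⟩ := (Ext.mk₀_bijective _ _).surjective x₃
    have hepi := TopCat.Sheaf.IsFlasque.epi_of_shortExact (U := U) hS
    rw [AddCommGrpCat.epi_iff_surjective] at hepi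
    obtain ⟨t, ht⟩ := hepi (e _ q)
    have hq : (e _).symm t ≫ (injSC F).g = q := by
      apply (e _).injective
      rw [he, Equiv.apply_symm_apply]
      exact ht
    rw [← hq, ← Ext.mk₀_comp_mk₀, Ext.comp_assoc_of_second_deg_zero, hS.comp_extClass,
      Ext.comp_zero]
    rfl
  | succ n ih =>
    intro F _ x
    have hS := injSC_shortExact F
    have h1 : TopCat.Sheaf.IsFlasque (injSC F).X₁ := by dsimp [injSC]; infer_instance
    have h2 : TopCat.Sheaf.IsFlasque (injSC F).X₂ := isFlasque_of_injective _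
    have h3 : TopCat.Sheaf.IsFlasque (injSC F).X₃ :=
      TopCat.Sheaf.IsFlasque.of_shortExact_of_isFlasque₁₂ hS
    obtain ⟨x₃, rfl⟩ := Ext.covariant_sequence_exact₁ A hS x
      (Ext.eq_zero_of_injective _) rfl
    rw [ih _ x₃, Ext.zero_comp]
    rfl

/-- global sections are corepresented by the constant sheaf `ℤ`. -/
noncomputable def constEquiv {X : TopCat.{u}} (F : CohTop.Ab X) :
    ((constantSheaf (Opens.grothendieckTopology X) AddCommGrpCat.{u}).obj
      (AddCommGrpCat.of (ULift ℤ)) ⟶ F) ≃ F.obj.obj (op (⊤ : Opens X)) :=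
  (Ext.addEquiv₀.symm.toEquiv).trans (Sheaf.H.equiv₀ F isTerminalTop).toEquiv

lemma constEquiv_comp {X : TopCat.{u}} {F G : CohTop.Ab X}
    (a : (constantSheaf (Opens.grothendieckTopology X) AddCommGrpCat.{u}).obj
      (AddCommGrpCat.of (ULift ℤ)) ⟶ F) (φ : F ⟶ G) :
    constEquiv G (a ≫ φ) = φ.hom.app (op ⊤) (constEquiv F a) := by
  show Sheaf.H.equiv₀ G isTerminalTop (Ext.mk₀ (a ≫ φ)) =
    φ.hom.app (op ⊤) (Sheaf.H.equiv₀ F isTerminalTop (Ext.mk₀ a))
  rw [Sheaf.H.equiv₀_naturality, Sheaf.H.map_apply, Ext.mk₀_comp_mk₀]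

theorem H_eq_zero_of_isFlasque {X : TopCat.{u}} (F : CohTop.Ab X) [TopCat.Sheaf.IsFlasque F]
    (n : ℕ) (x : CohTop.H F (n + 1)) : x = 0 :=
  ext_eq_zero_of_isFlasque _ ⊤ constEquiv constEquiv_comp n F x

lemma res_eq {X : TopCat.{u}} (F : CohTop.Ab X) (n : ℕ) {U V : Opens X} (h : V ≤ U)
    (ξ : CohTop.HU F n U) :
    CohTop.res F n h ξ = (Ext.mk₀ (freeMap h)).comp (ξ : Ext (freeSheaf U) F n) (zero_add n) := rfl

/-- an epimorphism of sheaves is locally surjective on sections. -/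
lemma exists_local_lift {X : TopCat.{u}} {F G : CohTop.Ab X} (φ : F ⟶ G) [hφ : Epi φ] (U : Opens X)
    (s : G.obj.obj (op U)) (x : X) (hx : x ∈ U) :
    ∃ (V : Opens X) (h : V ≤ U) (t : F.obj.obj (op V)), x ∈ V ∧
      φ.hom.app (op V) t = G.obj.map (homOfLE h).op s := by
  have := (TopCat.Sheaf.isLocallySurjective_iff_epi (F := F) (G := G) φ).mpr hφ
  obtain ⟨W, Wle, ⟨t₁, ht₁⟩, hW⟩ := (TopCat.Presheaf.isLocallySurjective_iff φ.hom).mp this U s x hx
  exact ⟨W, Wle, t₁, hW, ht₁⟩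

lemma ext_locally_zero_zero {X : TopCat.{u}} (U : Opens X) (S : ShortComplex (CohTop.Ab X))
    (hS : S.ShortExact) [Injective S.X₂] (ξ : Ext (freeSheaf U) S.X₁ 1) (x : X) (hx : x ∈ U) :
    ∃ (V : Opens X) (h : V ≤ U), x ∈ V ∧ (Ext.mk₀ (freeMap h)).comp ξ (zero_add 1) = 0 := by
  obtain ⟨x₃, rfl⟩ := Ext.covariant_sequence_exact₁ (freeSheaf U) hS ξ
    (Ext.eq_zero_of_injective _) rfl
  obtain ⟨q, rfl⟩ := (Ext.mk₀_bijective _ _).surjective x₃
  have : Epi S.g := hS.epi_g
  obtain ⟨V, h, t, hxV, ht⟩ := exists_local_lift S.g U (secEquiv U _ q) x hx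
  refine ⟨V, h, hxV, ?_⟩
  have hq : (secEquiv V _).symm t ≫ S.g = freeMap h ≫ q := by
    apply (secEquiv V _).injective
    rw [secEquiv_comp, Equiv.apply_symm_apply, secEquiv_freeMap]
    exact ht
  rw [← Ext.comp_assoc_of_second_deg_zero, Ext.mk₀_comp_mk₀, ← hq, ← Ext.mk₀_comp_mk₀,
    Ext.comp_assoc_of_second_deg_zero, hS.comp_extClass, Ext.comp_zero]

lemma ext_locally_zero_succ {X : TopCat.{u}} (U : Opens X) (S : ShortComplex (CohTop.Ab X))
    (hS : S.ShortExact) [Injective S.X₂] (n : ℕ)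
    (ih : ∀ (η : Ext (freeSheaf U) S.X₃ (n + 1)) (x : X) (hx : x ∈ U),
      ∃ (V : Opens X) (h : V ≤ U), x ∈ V ∧ (Ext.mk₀ (freeMap h)).comp η (zero_add (n + 1)) = 0)
    (ξ : Ext (freeSheaf U) S.X₁ (n + 1 + 1)) (x : X) (hx : x ∈ U) :
    ∃ (V : Opens X) (h : V ≤ U), x ∈ V ∧
      (Ext.mk₀ (freeMap h)).comp ξ (zero_add (n + 1 + 1)) = 0 := by
  obtain ⟨x₃, rfl⟩ := Ext.covariant_sequence_exact₁ (freeSheaf U) hS ξ
    (Ext.eq_zero_of_injective _) rfl
  obtain ⟨V, h, hxV, hz⟩ := ih x₃ x hx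
  refine ⟨V, h, hxV, ?_⟩
  rw [← Ext.comp_assoc (Ext.mk₀ (freeMap h)) x₃ hS.extClass (zero_add _) rfl (by omega), hz,
    Ext.zero_comp]

theorem ext_locally_zero {X : TopCat.{u}} (U : Opens X) :
    ∀ (n : ℕ) (F : CohTop.Ab X) (ξ : Ext (freeSheaf U) F (n + 1)) (x : X) (hx : x ∈ U),
      ∃ (V : Opens X) (h : V ≤ U), x ∈ V ∧
        (Ext.mk₀ (freeMap h)).comp ξ (zero_add (n + 1)) = 0 := by
  intro n
  induction n with
  | zero =>
    intro F ξ x hx
    exact ext_locally_zero_zero U (injSC F) (injSC_shortExact F) ξ x hx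
  | succ n ih =>
    intro F ξ x hx
    exact ext_locally_zero_succ U (injSC F) (injSC_shortExact F) n (ih _) ξ x hx

theorem HU_locally_zero {X : TopCat.{u}} (F : CohTop.Ab X) (U : Opens X) (n : ℕ)
    (ξ : CohTop.HU F (n + 1) U) :
    ∃ (ι : Type u) (V : ι → Opens X) (hV : ∀ i, V i ≤ U), iSup V = U ∧
      ∀ i, CohTop.res F (n + 1) (hV i) ξ = 0 := by
  choose V hV hxV hz using fun (x : U) => ext_locally_zero U n F ξ x.1 x.2
  refine ⟨U, V, hV, le_antisymm (iSup_le hV) ?_, fun i => ?_⟩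
  · intro x hx
    exact Opens.mem_iSup.mpr ⟨⟨x, hx⟩, hxV ⟨x, hx⟩⟩
  · rw [res_eq]
    exact hz i

end Groth.Agent.CohTopBasics
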