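import Groth.Agent.Lib.CechGlue
import Groth.Agent.Lib.CechSite
import Groth.Agent.Lib.CohTopBasics
set_option autoImplicit false
universe u
open CategoryTheory Limits Opposite TopologicalSpace

namespace Groth.Agent.Cech

variable {X : TopCat.{u}} {κ : Type u} (W : κ → Opens X)

/-- the inclusions into the union. -/
abbrev qTop (k : κ) : W k ⟶ iSup W := homOfLE (le_iSup W k)

lemma hqTop {Z : Opens X} {i j : κ} (a : Z ⟶ W i) (b : Z ⟶ W j) :
    a ≫ qTop W i = b ≫ qTop W j := Subsingleton.elim _ _

lemma ofArrows_mem_top :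
    Sieve.ofArrows W (fun k => qTop W k) ∈ Opens.grothendieckTopology X (iSup W) := by
  intro x hx
  obtain ⟨k, hk⟩ := Opens.mem_iSup.mp hx
  exact ⟨W k, qTop W k, Sieve.ofArrows_mk _ _ k, hk⟩

/-- a Čech 0-cocycle of a sheaf on a space glues over the union. -/
theorem exists_aug_eq_top (F : CohTop.Ab X)
    (x : (cx W F.obj).X 0) (hx : ((cx W F.obj).d 0 1).hom x = 0) :
    ∃ s : F.obj.obj (op (iSup W)), x = aug (P := F.obj) (qTop W) s := by
  obtain ⟨s, hs, -⟩ := site_glue F W (fun k => qTop W k) (ofArrows_mem_top W)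
    (fun j => sec0 x (fun _ => j)) (by
      intro i j Z gi gj _
      exact compatible (P := F.obj) x hx gi gj)
  exact ⟨s, eq_aug_of_sec0 (P := F.obj) (qTop W) x s (fun j => (hs j).symm)⟩

/-- the augmentation is injective for a sheaf on a space. -/
theorem aug_injective_top (F : CohTop.Ab X) (s s' : F.obj.obj (op (iSup W)))
    (h : aug (P := F.obj) (qTop W) s = aug (P := F.obj) (qTop W) s') : s = s' := by
  obtain ⟨t, -, ht⟩ := site_glue F W (fun k => qTop W k) (ofArrows_mem_top W)
    (fun j => (F.obj.map (qTop W j).op).hom s) (by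
      intro i j Z gi gj hg
      rw [← AddCommGrpCat.comp_apply, ← AddCommGrpCat.comp_apply, ← Functor.map_comp,
        ← Functor.map_comp, ← op_comp, ← op_comp, hg])
  have h1 := ht s (fun _ => rfl)
  have h2 := ht s' (fun j => by
    have := congrArg (fun z => sec0 z (fun _ => j)) h
    simp only [sec0_aug] at this
    exact this.symm)
  rw [h1, h2]

/-- the short complex of underlying presheaves. -/
noncomputable abbrev objSC (S : ShortComplex (CohTop.Ab X)) :
    ShortComplex ((Opens X)ᵒᵖ ⥤ AddCommGrpCat.{u}) :=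
  ShortComplex.mk (X₁ := S.X₁.obj) (X₂ := S.X₂.obj) (X₃ := S.X₃.obj) S.f.hom S.g.hom (by
    have := congrArg (fun φ => φ.hom) S.zero
    exact this)


/-- topological version of the "H¹-vanishing gives surjectivity" statement. -/
theorem surjective_of_cech_H1_top (S : ShortComplex (CohTop.Ab X)) (hS : S.ShortExact) (U : Opens X)
    (h : ∀ (ι : Type u) (V : ι → Opens X), iSup V = U →
      ∃ (κ : Type u) (W : κ → Opens X) (r : κ → ι), iSup W = U ∧ (∀ k, W k ≤ V (r k)) ∧
        IsZero ((cx W S.X₁.obj).homology 1)) :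
    Function.Surjective (S.g.hom.app (op U)).hom := by
  intro s
  have : Epi S.g := hS.epi_g
  choose V hVU t hxV ht using fun (x : {x : X // x ∈ U}) =>
    Groth.Agent.CohTopBasics.exists_local_lift S.g U s x.1 x.2
  have hV : iSup V = U := by
    apply le_antisymm
    · exact iSup_le hVU
    · intro x hx
      exact Opens.mem_iSup.mpr ⟨⟨x, hx⟩, hxV ⟨x, hx⟩⟩
  obtain ⟨κ, W, r, hW, hWV, hH1⟩ := h _ V hV
  subst hW
  obtain ⟨τ, hτ⟩ := exists_lift_of_H1 (U := W) (objSC S) (qTop W) (hqTop W)
    (fun a => (sections_left_exact S hS _).1) (fun a => (sections_left_exact S hS _).2) hH1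
    (exists_aug_eq_top W S.X₂) (aug_injective_top W S.X₃) s
    (fun k => (S.X₂.obj.map (homOfLE (hWV k)).op).hom (t (r k)))
    (by
      intro k
      have h1 := ConcreteCategory.congr_hom (S.g.hom.naturality (homOfLE (hWV k)).op) (t (r k))
      refine h1.trans ?_
      rw [AddCommGrpCat.comp_apply]
      refine (congrArg _ (ht (r k))).trans ?_
      rw [← AddCommGrpCat.comp_apply, ← Functor.map_comp, ← op_comp]
      rfl)
  exact ⟨τ, hτ⟩

end Groth.Agent.Cech
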