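import Groth.Agent.Lib.CechCartan
import Groth.Agent.Lib.CechTop
set_option autoImplicit false
universe u
open CategoryTheory Limits Opposite Abelian TopologicalSpace

namespace Groth.Agent.Cech

open Groth.Agent.CohSiteBasics

variable {X : TopCat.{u}}

lemma prodObj_eq_iInf {κ : Type u} (W : κ → Opens X) {n : ℕ} (a : Fin (n + 1) → κ) :
    prodObj W a = iInf (fun k => W (a k)) :=
  le_antisymm (le_iInf fun k => (Pi.π (W ∘ a) k).le)
    (Pi.lift (f := W ∘ a) (fun k => homOfLE (iInf_le (fun k => W (a k)) k))).le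

/-- short exactness of Čech complexes on a space. -/
theorem shortExact_cech_top {κ : Type u} (W : κ → Opens X)
    (S : ShortComplex (CohTop.Ab X)) (hS : S.ShortExact)
    (hg : ∀ (n : ℕ) (a : Fin (n + 1) → κ),
      Function.Surjective (S.g.hom.app (op (prodObj W a))).hom) :
    (mapSC W (objSC S)).ShortExact :=
  mapSC_shortExact (objSC S) (fun _ _ => (sections_left_exact S hS _).1)
    (fun _ _ => (sections_left_exact S hS _).2) hg

theorem cartan_top (F : CohTop.Ab X)
    (B : Set (Opens X)) (Cov : ∀ (ι : Type u), (ι → Opens X) → Prop)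
    (h1 : ∀ (ι : Type u) (V : ι → Opens X), Cov ι V →
      iSup V ∈ B ∧ ∀ (p : ℕ) (a : Fin (p + 1) → ι), (iInf fun k => V (a k)) ∈ B)
    (h2 : ∀ U ∈ B, ∀ (κ : Type u) (W : κ → Opens X), iSup W = U →
      ∃ (ι : Type u) (V : ι → Opens X), Cov ι V ∧ iSup V = U ∧ ∀ i, ∃ k, V i ≤ W k)
    (h3 : ∀ (ι : Type u) (V : ι → Opens X), Cov ι V → ∀ p : ℕ, IsZero (CohTop.cechH F.obj V (p + 1)))
    (U : Opens X) (hU : U ∈ B) (p : ℕ) : Subsingleton (CohTop.HU F (p + 1) U) := by
  refine cartan_abstract (J := Opens.grothendieckTopology X) B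
    (fun G => ∀ (ι : Type u) (V : ι → Opens X), Cov ι V → ∀ p : ℕ,
      IsZero (CohTop.cechH G.obj V (p + 1))) ?_ ?_ p F h3 U hU
  · intro G hG U hU
    refine surjective_of_cech_H1_top (injSC G) (injSC_shortExact G) U (fun κ W hW => ?_)
    obtain ⟨ι, V, hc, hV, hVW⟩ := h2 U hU κ W hW
    choose r hr using hVW
    exact ⟨ι, V, r, hV, hr, hG ι V hc 0⟩
  · intro G hG hsurj ι V hc p
    have hSS := shortExact_cech_top V (injSC G) (injSC_shortExact G)
      (fun n a => hsurj _ (by rw [prodObj_eq_iInf]; exact (h1 ι V hc).2 n a))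
    have := injective_sheaf_obj (Opens.grothendieckTopology X) (injSC G).X₂
    exact isZero_homology_X₃ _ hSS p
      (isZero_homology_of_injective (P := (injSC G).X₂.obj) V p)
      (hG ι V hc (p + 1))

end Groth.Agent.Cech
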