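import Groth.Agent.Lib.CechBasic
set_option autoImplicit false
universe w v u
open CategoryTheory Limits Opposite Simplicial

namespace Groth.Agent.Cech

section Pure

variable {S : Type*} {A : Type*} [AddCommGroup A]

/-- the combinatorial differential. -/
def dM {n : ℕ} (φ : (Fin (n + 1) → S) → A) : (Fin (n + 2) → S) → A :=
  fun s => ∑ k : Fin (n + 2), (-1 : ℤ) ^ (k : ℕ) • φ (s ∘ k.succAbove)

lemma cons_comp_succAbove_zero {n : ℕ} (a : S) (s : Fin (n + 1) → S) :
    (Fin.cons a s : Fin (n + 2) → S) ∘ (0 : Fin (n + 2)).succAbove = s := by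
  funext b
  simp

lemma cons_comp_succAbove_succ {n : ℕ} (a : S) (s : Fin (n + 2) → S) (k : Fin (n + 2)) :
    (Fin.cons a s : Fin (n + 3) → S) ∘ k.succ.succAbove = Fin.cons a (s ∘ k.succAbove) := by
  funext b
  refine Fin.cases ?_ (fun b => ?_) b
  · simp
  · simp

lemma dM_exact {n : ℕ} (φ : (Fin (n + 2) → S) → A) (h : dM φ = 0) :
    ∃ ψ : (Fin (n + 1) → S) → A, dM ψ = φ := by
  by_cases hS : Nonempty S
  · obtain ⟨a⟩ := hS
    refine ⟨fun t => φ (Fin.cons a t), ?_⟩
    funext s
    have h1 := congrFun h (Fin.cons a s)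
    simp only [dM, Pi.zero_apply] at h1
    rw [Fin.sum_univ_succ] at h1
    simp only [Fin.val_zero, pow_zero, one_smul, cons_comp_succAbove_zero, Fin.val_succ,
      cons_comp_succAbove_succ] at h1
    simp only [dM]
    have h2 : φ s = - ∑ k : Fin (n + 2), (-1 : ℤ) ^ ((k : ℕ) + 1) • φ (Fin.cons a (s ∘ k.succAbove)) :=
      eq_neg_of_add_eq_zero_left h1
    rw [h2, ← Finset.sum_neg_distrib]
    refine Finset.sum_congr rfl fun k _ => ?_
    rw [pow_succ, mul_neg, mul_one, neg_smul, neg_neg]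
  · refine ⟨0, ?_⟩
    funext s
    exact (hS ⟨s 0⟩).elim

end Pure


section Big

variable {D : Type w} [SmallCategory D]

/-- the "big coinduced" presheaf attached to `P`. -/
def bigG (P : Dᵒᵖ ⥤ AddCommGrpCat.{w}) : Dᵒᵖ ⥤ AddCommGrpCat.{w} where
  obj W := AddCommGrpCat.of (∀ V : D, (V ⟶ W.unop) → P.obj (op V))
  map {W W'} h := AddCommGrpCat.ofHom
    { toFun := fun φ V f => φ V (f ≫ h.unop)
      map_zero' := rfl
      map_add' := fun _ _ => rfl }
  map_id W := by
    ext φ V f
    show φ V (f ≫ 𝟙 _) = φ V f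
    rw [Category.comp_id]
  map_comp h h' := by
    ext φ V f
    show φ V (f ≫ (h'.unop ≫ h.unop)) = φ V ((f ≫ h'.unop) ≫ h.unop)
    rw [Category.assoc]

lemma bigG_map_apply (P : Dᵒᵖ ⥤ AddCommGrpCat.{w}) {W W' : Dᵒᵖ} (h : W ⟶ W')
    (φ : (bigG P).obj W) (V : D) (f : V ⟶ W'.unop) :
    ((bigG P).map h).hom φ V f = φ V (f ≫ h.unop) := rfl

variable (P : Dᵒᵖ ⥤ AddCommGrpCat.{w})

/-- the canonical embedding. -/
def toBigG : P ⟶ bigG P where
  app W := AddCommGrpCat.ofHom
    { toFun := fun s V f => (P.map f.op).hom s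
      map_zero' := by funext V f; simp
      map_add' := fun _ _ => by funext V f; simp }
  naturality W W' h := by
    ext s
    funext V f
    show (P.map f.op).hom ((P.map h).hom s) = (P.map (f ≫ h.unop).op).hom s
    rw [op_comp, Functor.map_comp]
    rfl

lemma toBigG_app_apply {W : Dᵒᵖ} (s : P.obj W) (V : D) (f : V ⟶ W.unop) :
    ((toBigG P).app W).hom s V f = (P.map f.op).hom s := rfl

instance : Mono (toBigG P) := by
  have : ∀ W, Mono ((toBigG P).app W) := by
    intro W
    rw [AddCommGrpCat.mono_iff_injective]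
    intro s t h
    have := congrFun (congrFun h W.unop) (𝟙 _)
    simpa [toBigG_app_apply] using this
  apply NatTrans.mono_of_mono_app


variable [HasFiniteProducts D] {ι : Type w} (U : ι → D)

/-- maps from `V` into some member of the family. -/
abbrev SV (V : D) : Type w := Σ j : ι, (V ⟶ U j)

/-- index tuple of a tuple of points. -/
abbrev idx {V : D} {n : ℕ} (s : Fin (n + 1) → SV U V) : Fin (n + 1) → ι := fun a => (s a).1

/-- the induced map to the product. -/
noncomputable abbrev toProd {V : D} {n : ℕ} (s : Fin (n + 1) → SV U V) : V ⟶ prodObj U (idx U s) :=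
  Pi.lift (fun a => (s a).2)

/-- the comparison map to the combinatorial complex. -/
noncomputable def Phi (n : ℕ) :
    (cx U (bigG P)).X n →+ (∀ V : D, (Fin (n + 1) → SV U V) → P.obj (op V)) where
  toFun x V s := comp x (idx U s) V (toProd U s)
  map_zero' := by
    funext V s
    rw [comp_zero]
    rfl
  map_add' x y := by
    funext V s
    rw [comp_add]
    rfl

lemma Phi_apply {n : ℕ} (x : (cx U (bigG P)).X n) (V : D) (s : Fin (n + 1) → SV U V) :
    Phi P U n x V s = comp x (idx U s) V (toProd U s) := rfl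

lemma Phi_injective (n : ℕ) : Function.Injective (Phi P U n) := by
  intro x y h
  ext i
  funext V g
  have h1 := congrFun (congrFun h V) (fun a => ⟨i a, g ≫ Pi.π (U ∘ i) a⟩)
  rw [Phi_apply, Phi_apply] at h1
  have h2 : toProd U (fun a => (⟨i a, g ≫ Pi.π (U ∘ i) a⟩ : SV U V)) = g := by
    apply Pi.hom_ext
    intro a
    simp
  rw [h2] at h1
  exact h1

lemma Phi_surjective (n : ℕ) : Function.Surjective (Phi P U n) := by
  intro ψ
  refine ⟨mk (fun i V g => ψ V (fun a => ⟨i a, g ≫ Pi.π (U ∘ i) a⟩)), ?_⟩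
  funext V s
  rw [Phi_apply, comp_mk]
  congr 1
  funext a
  refine Sigma.ext rfl (heq_of_eq ?_)
  simp

lemma Phi_δ {n : ℕ} (k : Fin (n + 2)) (x : (cx U (bigG P)).X n) (V : D) (s : Fin (n + 2) → SV U V) :
    Phi P U (n + 1) ((δm U (bigG P) k).hom x) V s = Phi P U n x V (s ∘ k.succAbove) := by
  rw [Phi_apply, Phi_apply, comp_δ, bigG_map_apply]
  have h2 : toProd U s ≫ (face U k (idx U s)).op.unop = toProd U (s ∘ k.succAbove) := by
    apply Pi.hom_ext
    intro a
    simp only [Quiver.Hom.unop_op, Category.assoc, Pi.lift_π]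
    exact (Pi.lift_π (f := U ∘ idx U (s ∘ k.succAbove)) (fun a => ((s ∘ k.succAbove) a).2) a).symm
  rw [h2]
  rfl


lemma Phi_d {n : ℕ} (x : (cx U (bigG P)).X n) (V : D) :
    Phi P U (n + 1) (((cx U (bigG P)).d n (n + 1)).hom x) V = dM (Phi P U n x V) := by
  funext s
  rw [cx_d, hom_sum_apply, map_sum]
  simp only [dM, Finset.sum_apply]
  refine Finset.sum_congr rfl fun k _ => ?_
  rw [AddCommGrpCat.hom_zsmul, AddMonoidHom.smul_apply, map_zsmul]
  show (-1 : ℤ) ^ (k : ℕ) • Phi P U (n + 1) ((δm U (bigG P) k).hom x) V s = _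
  rw [Phi_δ]

/-- the big coinduced presheaf is Čech-acyclic. -/
theorem isZero_homology_bigG (n : ℕ) : IsZero ((cx U (bigG P)).homology (n + 1)) := by
  rw [isZero_homology_succ_iff]
  intro x hx
  have h1 : ∀ V, dM (Phi P U (n + 1) x V) = 0 := by
    intro V
    rw [← Phi_d, hx, map_zero]
    rfl
  choose ψ hψ using fun V => dM_exact (Phi P U (n + 1) x V) (h1 V)
  obtain ⟨y, hy⟩ := Phi_surjective P U n ψ
  refine ⟨y, Phi_injective P U (n + 1) ?_⟩
  funext V
  rw [Phi_d, hy, hψ]

variable {P}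

/-- an injective presheaf is Čech-acyclic. -/
theorem isZero_homology_of_injective [Injective P] (n : ℕ) :
    IsZero ((cx U P).homology (n + 1)) := by
  let r : bigG P ⟶ P := Injective.factorThru (𝟙 P) (toBigG P)
  have hr : toBigG P ≫ r = 𝟙 P := Injective.comp_factorThru _ _
  have h2 : HomologicalComplex.homologyMap ((cechComplexFunctor U).map (toBigG P)) (n + 1) ≫
      HomologicalComplex.homologyMap ((cechComplexFunctor U).map r) (n + 1) = 𝟙 _ := by
    rw [← HomologicalComplex.homologyMap_comp, ← Functor.map_comp, hr, CategoryTheory.Functor.map_id,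
      HomologicalComplex.homologyMap_id]
  rw [IsZero.iff_id_eq_zero, ← h2]
  rw [(isZero_homology_bigG P U n).eq_of_tgt
    (HomologicalComplex.homologyMap ((cechComplexFunctor U).map (toBigG P)) (n + 1)) 0, zero_comp]

end Big

end Groth.Agent.Cech
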