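import Groth.Agent.Lib.CechBasic
import Groth.Agent.Lib.CechInj
set_option autoImplicit false
universe u
open CategoryTheory Limits Opposite TopologicalSpace

namespace Groth.Agent.CechContract

open Groth.Agent.Cech

variable {X : TopCat.{u}} (F : (Opens X)ᵒᵖ ⥤ AddCommGrpCat.{u}) {ι : Type u} (U : ι → Opens X)

lemma prodObj_le {n : ℕ} (j : Fin (n + 1) → ι) (k : Fin (n + 1)) : prodObj U j ≤ U (j k) :=
  (Pi.π (U ∘ j) k).le

lemma le_prodObj {n : ℕ} (j : Fin (n + 1) → ι) {V : Opens X} (h : ∀ k, V ≤ U (j k)) :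
    V ≤ prodObj U j :=
  (Pi.lift (fun k => homOfLE (h k)) : V ⟶ ∏ᶜ (U ∘ j)).le

variable {F U}

/-- restriction of a component, as a morphism. -/
noncomputable def resHom {n : ℕ} (j : Fin (n + 1) → ι) (V : Opens X) (h : V ≤ prodObj U j) :
    (cx U F).X n ⟶ F.obj (op V) :=
  proj j ≫ F.map (homOfLE h).op

/-- restriction of a component. -/
noncomputable def res {n : ℕ} (x : (cx U F).X n) (j : Fin (n + 1) → ι) (V : Opens X)
    (h : V ≤ prodObj U j) : F.obj (op V) :=
  (resHom (F := F) j V h).hom x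

lemma res_def {n : ℕ} (x : (cx U F).X n) (j : Fin (n + 1) → ι) (V : Opens X)
    (h : V ≤ prodObj U j) : res x j V h = (F.map (homOfLE h).op).hom (comp x j) := rfl

lemma res_congr {n : ℕ} (x : (cx U F).X n) {j j' : Fin (n + 1) → ι} (hj : j = j') (V : Opens X)
    (h : V ≤ prodObj U j) (h' : V ≤ prodObj U j') : res x j V h = res x j' V h' := by
  subst hj
  rfl

lemma map_res {n : ℕ} (x : (cx U F).X n) (j : Fin (n + 1) → ι) {V V' : Opens X}
    (h : V ≤ prodObj U j) (a : V' ⟶ V) :
    (F.map a.op).hom (res x j V h) = res x j V' (a.le.trans h) := by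
  rw [res_def, res_def, ← AddCommGrpCat.comp_apply, ← Functor.map_comp, ← op_comp]
  rfl

lemma comp_eq_res {n : ℕ} (x : (cx U F).X n) (j : Fin (n + 1) → ι) :
    comp x j = res x j (prodObj U j) le_rfl := by
  rw [res_def]
  have : homOfLE (le_refl (prodObj U j)) = 𝟙 _ := rfl
  rw [this, op_id, F.map_id]
  rfl

lemma res_d {n : ℕ} (x : (cx U F).X n) (j : Fin (n + 2) → ι) (V : Opens X)
    (h : V ≤ prodObj U j) :
    res (((cx U F).d n (n + 1)).hom x) j V h =
      ∑ k : Fin (n + 2), (-1 : ℤ) ^ (k : ℕ) •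
        res x (j ∘ k.succAbove) V (h.trans (face U k j).le) := by
  rw [res_def, comp_d, map_sum]
  refine Finset.sum_congr rfl fun k _ => ?_
  rw [map_zsmul, comp_eq_res, map_res, map_res]

variable (i : ι) (hi : U i = iSup U)

include hi in
lemma hle {n : ℕ} (j : Fin (n + 1) → ι) :
    prodObj U j ≤ prodObj U (Fin.cons i j : Fin (n + 2) → ι) := by
  refine le_prodObj U _ (fun k => ?_)
  refine Fin.cases ?_ (fun k' => ?_) k
  · show prodObj U j ≤ U i
    rw [hi]
    exact (prodObj_le U j 0).trans (le_iSup U _)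
  · show prodObj U j ≤ U (j k')
    exact prodObj_le U j k'

/-- the contracting homotopy. -/
noncomputable def hh (n : ℕ) : (cx U F).X (n + 1) ⟶ (cx U F).X n :=
  lift (fun j => resHom (Fin.cons i j : Fin (n + 2) → ι) (prodObj U j) (hle i hi j))

lemma comp_hh (n : ℕ) (y : (cx U F).X (n + 1)) (j : Fin (n + 1) → ι) :
    comp ((hh (F := F) i hi n).hom y) j =
      res y (Fin.cons i j : Fin (n + 2) → ι) (prodObj U j) (hle i hi j) :=
  ConcreteCategory.congr_hom (lift_proj _ j) y

lemma key_succ (n : ℕ) (x : (cx U F).X (n + 1)) :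
    ((cx U F).d n (n + 1)).hom ((hh (F := F) i hi n).hom x) +
      (hh (F := F) i hi (n + 1)).hom (((cx U F).d (n + 1) (n + 2)).hom x) = x := by
  apply cochain_ext
  intro j
  have hA : comp (((cx U F).d n (n + 1)).hom ((hh (F := F) i hi n).hom x)) j =
      ∑ k : Fin (n + 2), (-1 : ℤ) ^ (k : ℕ) •
        res x (Fin.cons i (j ∘ k.succAbove) : Fin (n + 2) → ι) (prodObj U j)
          ((face U k j).le.trans (hle i hi _)) := by
    rw [comp_d]
    refine Finset.sum_congr rfl fun k _ => ?_
    rw [comp_hh, map_res]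
  have hB : comp ((hh (F := F) i hi (n + 1)).hom (((cx U F).d (n + 1) (n + 2)).hom x)) j =
      comp x j + ∑ k : Fin (n + 2), (-1 : ℤ) ^ ((k : ℕ) + 1) •
        res x (Fin.cons i (j ∘ k.succAbove) : Fin (n + 2) → ι) (prodObj U j)
          ((face U k j).le.trans (hle i hi _)) := by
    rw [comp_hh, res_d, Fin.sum_univ_succ]
    congr 1
    · rw [Fin.val_zero, pow_zero, one_smul, comp_eq_res]
      exact res_congr x (cons_comp_succAbove_zero i j) _ _ _
    · refine Finset.sum_congr rfl fun k _ => ?_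
      rw [Fin.val_succ]
      congr 1
      exact res_congr x (cons_comp_succAbove_succ i j k) _ _ _
  rw [comp_add, hA, hB, add_comm (comp x j), ← add_assoc, ← Finset.sum_add_distrib]
  have : ∀ k : Fin (n + 2), (-1 : ℤ) ^ (k : ℕ) •
        res x (Fin.cons i (j ∘ k.succAbove) : Fin (n + 2) → ι) (prodObj U j)
          ((face U k j).le.trans (hle i hi _)) + (-1 : ℤ) ^ ((k : ℕ) + 1) •
        res x (Fin.cons i (j ∘ k.succAbove) : Fin (n + 2) → ι) (prodObj U j)
          ((face U k j).le.trans (hle i hi _)) = 0 := by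
    intro k
    rw [pow_succ, mul_neg, mul_one, neg_smul, add_neg_cancel]
  rw [Finset.sum_congr rfl (fun k _ => this k), Finset.sum_const_zero, zero_add]

variable (U) in
lemma hsup (j : Fin 1 → ι) : prodObj U j ≤ iSup U :=
  (prodObj_le U j 0).trans (le_iSup U _)

variable (F U) in
/-- the augmentation. -/
noncomputable def φ0 : F.obj (op (iSup U)) ⟶ (cx U F).X 0 :=
  lift (fun j => F.map (homOfLE (hsup U j)).op)

lemma comp_φ0 (s : F.obj (op (iSup U))) (j : Fin 1 → ι) :
    comp ((φ0 F U).hom s) j = (F.map (homOfLE (hsup U j)).op).hom s :=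
  ConcreteCategory.congr_hom (lift_proj _ j) s

include hi in
lemma hψ : iSup U ≤ prodObj U (fun _ : Fin 1 => i) :=
  le_prodObj U _ (fun _ => hi.ge)

variable (F) in
/-- evaluation at the index `i`. -/
noncomputable def ψ0 : (cx U F).X 0 ⟶ F.obj (op (iSup U)) :=
  resHom (fun _ : Fin 1 => i) (iSup U) (hψ i hi)

lemma φ0_ψ0 : φ0 F U ≫ ψ0 F i hi = 𝟙 _ := by
  refine ConcreteCategory.hom_ext _ _ (fun s => ?_)
  show res ((φ0 F U).hom s) (fun _ : Fin 1 => i) (iSup U) (hψ i hi) = s
  rw [res_def, comp_φ0, ← AddCommGrpCat.comp_apply, ← Functor.map_comp, ← op_comp]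
  rw [Subsingleton.elim (homOfLE (hψ i hi) ≫ homOfLE (hsup U fun _ => i)) (𝟙 (iSup U)), op_id,
    F.map_id]
  rfl

lemma φ0_d : φ0 F U ≫ (cx U F).d 0 1 = 0 := by
  refine ConcreteCategory.hom_ext _ _ (fun s => ?_)
  apply cochain_ext
  intro j
  show comp (((cx U F).d 0 1).hom ((φ0 F U).hom s)) j = comp 0 j
  rw [comp_d, Fin.sum_univ_two, Cech.comp_zero, comp_φ0, comp_φ0]
  simp only [Fin.val_zero, pow_zero, one_smul, Fin.val_one, pow_one, neg_smul]
  rw [← AddCommGrpCat.comp_apply, ← AddCommGrpCat.comp_apply, ← Functor.map_comp,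
    ← Functor.map_comp, ← op_comp, ← op_comp]
  have : face U 0 j ≫ homOfLE (hsup U (j ∘ (0 : Fin 2).succAbove)) =
      face U 1 j ≫ homOfLE (hsup U (j ∘ (1 : Fin 2).succAbove)) := Subsingleton.elim _ _
  rw [this]
  exact add_neg_cancel _

lemma key_zero (x : (cx U F).X 0) :
    (hh (F := F) i hi 0).hom (((cx U F).d 0 1).hom x) + (φ0 F U).hom ((ψ0 F i hi).hom x) = x := by
  apply cochain_ext
  intro j
  rw [comp_add, comp_hh, res_d, Fin.sum_univ_two, comp_φ0]
  simp only [Fin.val_zero, pow_zero, one_smul, Fin.val_one, pow_one, neg_smul]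
  have h1 : (F.map (homOfLE (hsup U j)).op).hom ((ψ0 F i hi).hom x) =
      res x (fun _ : Fin 1 => i) (prodObj U j) ((hsup U j).trans (hψ i hi)) :=
    map_res x _ (hψ i hi) (homOfLE (hsup U j))
  have h2 : res x ((Fin.cons i j : Fin 2 → ι) ∘ (1 : Fin 2).succAbove) (prodObj U j)
      ((hle i hi j).trans (face U 1 _).le) =
      res x (fun _ : Fin 1 => i) (prodObj U j) ((hsup U j).trans (hψ i hi)) := by
    refine res_congr x ?_ _ _ _
    funext b
    rw [Fin.fin_one_eq_zero b]
    rfl
  have h3 : res x ((Fin.cons i j : Fin 2 → ι) ∘ (0 : Fin 2).succAbove) (prodObj U j)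
      ((hle i hi j).trans (face U 0 _).le) = comp x j := by
    rw [comp_eq_res]
    exact res_congr x (cons_comp_succAbove_zero i j) _ _ _
  rw [h1, h2, h3]
  abel

variable (F U) in
/-- the augmentation as a morphism of complexes. -/
noncomputable def Φ : (CochainComplex.single₀ AddCommGrpCat.{u}).obj (F.obj (op (iSup U))) ⟶ cx U F :=
  (CochainComplex.fromSingle₀Equiv (cx U F) _).symm ⟨φ0 F U, φ0_d⟩

variable (F) in
/-- evaluation at `i` as a morphism of complexes. -/
noncomputable def Ψ : cx U F ⟶ (CochainComplex.single₀ AddCommGrpCat.{u}).obj (F.obj (op (iSup U))) :=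
  (CochainComplex.toSingle₀Equiv (cx U F) _).symm (ψ0 F i hi)

lemma Φ_Ψ : Φ F U ≫ Ψ F i hi = 𝟙 _ := by
  apply HomologicalComplex.from_single_hom_ext
  rw [HomologicalComplex.comp_f, HomologicalComplex.id_f]
  unfold Φ Ψ
  rw [CochainComplex.fromSingle₀Equiv_symm_apply_f_zero,
    CochainComplex.toSingle₀Equiv_symm_apply_f_zero]
  exact φ0_ψ0 i hi

/-- the homotopy. -/
noncomputable def homotopy : Homotopy (𝟙 (cx U F)) (Ψ F i hi ≫ Φ F U) where
  hom a b := if h : b + 1 = a then
    (HomologicalComplex.XIsoOfEq (cx U F) h.symm).hom ≫ hh (F := F) i hi b else 0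
  zero a b hab := dif_neg hab
  comm a := by
    cases a with
    | zero =>
      rw [Homotopy.prevD_zero_cochainComplex, Homotopy.dNext_cochainComplex, add_zero, dif_pos rfl,
        HomologicalComplex.XIsoOfEq_rfl, Iso.refl_hom, Category.id_comp,
        HomologicalComplex.comp_f]
      unfold Φ Ψ
      rw [CochainComplex.fromSingle₀Equiv_symm_apply_f_zero,
        CochainComplex.toSingle₀Equiv_symm_apply_f_zero]
      refine ConcreteCategory.hom_ext _ _ (fun x => ?_)
      exact (key_zero i hi x).symm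
    | succ n =>
      rw [Homotopy.prevD_succ_cochainComplex, Homotopy.dNext_cochainComplex, dif_pos rfl, dif_pos rfl,
        HomologicalComplex.XIsoOfEq_rfl, HomologicalComplex.XIsoOfEq_rfl, Iso.refl_hom,
        Category.id_comp, Iso.refl_hom, Category.id_comp, HomologicalComplex.comp_f]
      have : (Ψ F i hi).f (n + 1) = 0 := rfl
      rw [this, zero_comp, add_zero]
      refine ConcreteCategory.hom_ext _ _ (fun x => ?_)
      exact ((key_succ i hi n x).symm.trans (add_comm _ _))

include hi in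
theorem nonempty_homotopyEquiv :
    Nonempty (HomotopyEquiv ((CochainComplex.single₀ AddCommGrpCat.{u}).obj (F.obj (op (iSup U))))
      (cx U F)) :=
  ⟨{ hom := Φ F U
     inv := Ψ F i hi
     homotopyHomInvId := Homotopy.ofEq (Φ_Ψ i hi)
     homotopyInvHomId := (homotopy i hi).symm }⟩

end Groth.Agent.CechContract
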