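import Groth.Agent.Lib.CechEdgeMain
set_option autoImplicit false
set_option linter.unusedSectionVars false
universe w v u
open CategoryTheory Limits Opposite Abelian

namespace Groth.Agent.Cech

variable {D : Type u} [Category.{v} D] [HasFiniteProducts D] {ι : Type w} (U : ι → D)
  {P Q : Dᵒᵖ ⥤ AddCommGrpCat.{w}} (φ : P ⟶ Q)

lemma map_f_injective (n : ℕ)
    (h : ∀ i : Fin (n + 1) → ι, Function.Injective (φ.app (op (prodObj U i))).hom) :
    Function.Injective (((cechComplexFunctor U).map φ).f n).hom := by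
  intro (x : (cx U P).X n) (y : (cx U P).X n) hxy
  apply cochain_ext
  intro i
  apply h i
  rw [← comp_map, ← comp_map, hxy]

lemma map_f_surjective (n : ℕ)
    (h : ∀ i : Fin (n + 1) → ι, Function.Surjective (φ.app (op (prodObj U i))).hom) :
    Function.Surjective (((cechComplexFunctor U).map φ).f n).hom := by
  intro (z : (cx U Q).X n)
  choose y hy using fun i => h i (comp z i)
  refine ⟨(mk y : (cx U P).X n), ?_⟩
  apply cochain_ext
  intro i
  rw [comp_map, comp_mk, hy]

lemma isIso_map (h : ∀ (n : ℕ) (i : Fin (n + 1) → ι),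
    Function.Bijective (φ.app (op (prodObj U i))).hom) :
    IsIso ((cechComplexFunctor U).map φ) := by
  have : ∀ n, IsIso (((cechComplexFunctor U).map φ).f n) := by
    intro n
    rw [ConcreteCategory.isIso_iff_bijective]
    exact ⟨map_f_injective U φ n (fun i => (h n i).1), map_f_surjective U φ n (fun i => (h n i).2)⟩
  exact HomologicalComplex.Hom.isIso_of_components _

lemma homologyMap_bijective (h : ∀ (n : ℕ) (i : Fin (n + 1) → ι),
    Function.Bijective (φ.app (op (prodObj U i))).hom) (p : ℕ) :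
    Function.Bijective (HomologicalComplex.homologyMap ((cechComplexFunctor U).map φ) p).hom := by
  have := isIso_map U φ h
  exact (ConcreteCategory.isIso_iff_bijective _).mp inferInstance

lemma homologyMap_zero_injective
    (h : ∀ i : Fin 1 → ι, Function.Injective (φ.app (op (prodObj U i))).hom) :
    Function.Injective (HomologicalComplex.homologyMap ((cechComplexFunctor U).map φ) 0).hom := by
  have hπP : Function.Bijective ((cx U P).homologyπ 0).hom :=
    (ConcreteCategory.isIso_iff_bijective _).mp inferInstance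
  have hπQ : Function.Bijective ((cx U Q).homologyπ 0).hom :=
    (ConcreteCategory.isIso_iff_bijective _).mp inferInstance
  have hiP : Function.Injective ((cx U P).iCycles 0).hom :=
    (AddCommGrpCat.mono_iff_injective _).mp inferInstance
  rw [injective_iff_map_eq_zero]
  intro x hx
  obtain ⟨c, rfl⟩ := hπP.2 x
  have h1 := ConcreteCategory.congr_hom
    (HomologicalComplex.homologyπ_naturality ((cechComplexFunctor U).map φ) 0) c
  rw [AddCommGrpCat.comp_apply, AddCommGrpCat.comp_apply] at h1
  rw [h1] at hx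
  have h2 : (HomologicalComplex.cyclesMap ((cechComplexFunctor U).map φ) 0).hom c = 0 :=
    hπQ.1 (hx.trans (map_zero _).symm)
  have h3 := ConcreteCategory.congr_hom
    (HomologicalComplex.cyclesMap_i ((cechComplexFunctor U).map φ) 0) c
  rw [AddCommGrpCat.comp_apply, AddCommGrpCat.comp_apply, h2, map_zero] at h3
  have h4 : ((cx U P).iCycles 0).hom c = 0 :=
    map_f_injective U φ 0 h (h3.symm.trans (map_zero _).symm)
  have h5 : c = 0 := hiP (h4.trans (map_zero _).symm)
  rw [h5, map_zero]

end Groth.Agent.Cech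

namespace Groth.Agent.CechEdgeLib

open Groth.Agent.Cech Groth.Agent.DeltaUniv CechEdge

variable {C : Type u} [SmallCategory C] [HasPullbacks C] (J : GrothendieckTopology C)
  {U : C} {ι : Type u} (Y : ι → Over U)
  (e : ∀ (P : Cᵒᵖ ⥤ AddCommGrpCat.{u}) (p : ℕ),
      CohCx.cechH P Y p →+ CohSite.HU (CechEdge.shf J P) p U)
  (he : CechEdge.IsEdge J Y e)

include he in
lemma four_inj (S : ShortComplex (Cᵒᵖ ⥤ AddCommGrpCat.{u})) (hS : S.ShortExact) [Injective S.X₂]
    (p : ℕ) (h2 : Function.Surjective (e S.X₂ p)) (h3 : Function.Injective (e S.X₃ p)) :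
    Function.Injective (e S.X₁ (p + 1)) := by
  rw [injective_iff_map_eq_zero]
  intro y hy
  obtain ⟨x, rfl⟩ := TC_hTs Y S hS p y
  have hd := he.delta S hS (cech_shortExact Y S hS) p x
  have hy' : e S.X₁ (p + 1) (((cech_shortExact Y S hS).δ p (p + 1) rfl).hom x) = 0 := hy
  rw [hd, extδ_apply] at hy'
  obtain ⟨z, hz⟩ := Ext.covariant_sequence_exact₃ _
    (hS.map_of_exact (presheafToSheaf J AddCommGrpCat.{u})) (e S.X₃ p x) rfl hy'
  obtain ⟨w, rfl⟩ := h2 z
  have hn := he.natural S.X₂ S.X₃ S.g p w
  have hx : x = cechHMap Y S.g p w := by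
    apply h3
    rw [hn]
    exact hz.symm
  rw [hx]
  exact ConcreteCategory.congr_hom ((cech_shortExact Y S hS).comp_δ p (p + 1) rfl) w

include he in
lemma four_surj (S : ShortComplex (Cᵒᵖ ⥤ AddCommGrpCat.{u})) (hS : S.ShortExact)
    (p : ℕ) (h3 : Function.Surjective (e S.X₃ p))
    (h2 : Subsingleton (CohSite.HU (shf J S.X₂) (p + 1) U)) :
    Function.Surjective (e S.X₁ (p + 1)) := by
  intro z
  obtain ⟨w, hw⟩ := Ext.covariant_sequence_exact₁ _
    (hS.map_of_exact (presheafToSheaf J AddCommGrpCat.{u})) z (Subsingleton.elim (h := h2) _ _) rfl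
  obtain ⟨x, rfl⟩ := h3 w
  refine ⟨((cech_shortExact Y S hS).δ p (p + 1) rfl).hom x, ?_⟩
  rw [he.delta S hS (cech_shortExact Y S hS) p x, extδ_apply]
  exact hw

lemma toSheafify_bijective (G : Sheaf J AddCommGrpCat.{u}) (V : C) :
    Function.Bijective ((toSheafify J G.obj).app (op V)).hom := by
  have := isIso_toSheafify J G.property
  have : IsIso ((toSheafify J G.obj).app (op V)) := inferInstance
  exact (ConcreteCategory.isIso_iff_bijective _).mp this

include he in
lemma edge0_bijective (F : Sheaf J AddCommGrpCat.{u}) : Function.Bijective (e F.obj 0) := by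
  have h1 : (e F.obj 0) ∘ (toCech Y F.obj) =
      (sectH0 J U (shf J F.obj)) ∘ ((toSheafify J F.obj).app (op U)).hom := by
    funext s
    exact he.zero F.obj s
  have h2 : Function.Bijective ((e F.obj 0) ∘ (toCech Y F.obj)) := by
    rw [h1]
    exact (sectH0 J U (shf J F.obj)).bijective.comp (toSheafify_bijective J F U)
  exact (Function.Bijective.of_comp_iff _ (toCech_bijective J Y F he.cover)).mp h2

/-- the presheaf short exact sequence `F → I → I/F` for an injective hull `I` of the sheaf `F`. -/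
noncomputable def pSC (F : Sheaf J AddCommGrpCat.{u}) : ShortComplex (Cᵒᵖ ⥤ AddCommGrpCat.{u}) :=
  ShortComplex.mk (Injective.ι F).hom (cokernel.π (Injective.ι F).hom) (cokernel.condition _)

lemma pSC_shortExact (F : Sheaf J AddCommGrpCat.{u}) : (pSC J F).ShortExact := by
  have : Mono (pSC J F).f :=
    inferInstanceAs (Mono ((sheafToPresheaf J AddCommGrpCat.{u}).map (Injective.ι F)))
  have : Epi (pSC J F).g := by dsimp [pSC]; infer_instance
  exact ShortComplex.ShortExact.mk (ShortComplex.exact_cokernel (Injective.ι F).hom)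

instance pSC_injective (F : Sheaf J AddCommGrpCat.{u}) : Injective (pSC J F).X₂ :=
  inferInstanceAs (Injective (Injective.under F).obj)

lemma unit_naturality_apply {P Q : Cᵒᵖ ⥤ AddCommGrpCat.{u}} (φ : P ⟶ Q) (V : C)
    (s : P.obj (op V)) :
    ((toSheafify J Q).app (op V)).hom ((φ.app (op V)).hom s) =
      ((shfMap J φ).hom.app (op V)).hom (((toSheafify J P).app (op V)).hom s) :=
  ConcreteCategory.congr_hom (NatTrans.congr_app (toSheafify_naturality J φ) (op V)) s

lemma unit_X₃_injective (F : Sheaf J AddCommGrpCat.{u}) (V : C) :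
    Function.Injective ((toSheafify J (pSC J F).X₃).app (op V)).hom := by
  rw [injective_iff_map_eq_zero]
  intro q hq
  obtain ⟨s, rfl⟩ := (psh_sections (pSC J F) (pSC_shortExact J F) (op V)).2.2 q
  rw [unit_naturality_apply] at hq
  have hex := sections_left_exact ((pSC J F).map (presheafToSheaf J AddCommGrpCat.{u}))
    ((pSC_shortExact J F).map_of_exact (presheafToSheaf J AddCommGrpCat.{u})) V
  obtain ⟨t', ht'⟩ := hex.2 _ hq
  obtain ⟨t, rfl⟩ := (toSheafify_bijective J F V).2 t'
  have hf := unit_naturality_apply J (pSC J F).f V t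
  have hs : s = ((pSC J F).f.app (op V)).hom t :=
    (toSheafify_bijective J (Injective.under F) V).1 (ht'.symm.trans hf.symm)
  rw [hs]
  exact ConcreteCategory.congr_hom (NatTrans.congr_app (pSC J F).zero (op V)) t

lemma surjective_of_HU (S : ShortComplex (Sheaf J AddCommGrpCat.{u}))
    (hS : S.ShortExact) (V : C) (h1 : Subsingleton (CohSite.HU S.X₁ 1 V)) :
    Function.Surjective (S.g.hom.app (op V)).hom := by
  intro s
  obtain ⟨q, rfl⟩ := (CohSiteBasics.secEquiv V S.X₃).surjective s
  have h0 : (Ext.mk₀ q).comp hS.extClass (zero_add 1) = 0 := Subsingleton.elim (h := h1) _ _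
  obtain ⟨x₂, hx₂⟩ := Ext.covariant_sequence_exact₃ _ hS (Ext.mk₀ q) rfl h0
  obtain ⟨b, rfl⟩ := (Ext.mk₀_bijective _ _).surjective x₂
  rw [Ext.mk₀_comp_mk₀] at hx₂
  have hb : b ≫ S.g = q := (Ext.mk₀_bijective _ _).injective hx₂
  refine ⟨CohSiteBasics.secEquiv V S.X₂ b, ?_⟩
  rw [← CohSiteBasics.secEquiv_comp, hb]

lemma HU_counit_bijective (F : Sheaf J AddCommGrpCat.{u}) (p : ℕ) (V : C) :
    Function.Bijective
      (HUmap ((sheafificationAdjunction J AddCommGrpCat.{u}).counit.app F) p V) :=
  HUmap_bijective_of_isIso J _ p V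

lemma subsingleton_shf_iff (F : Sheaf J AddCommGrpCat.{u}) (p : ℕ) (V : C) :
    Subsingleton (CohSite.HU (shf J F.obj) p V) ↔ Subsingleton (CohSite.HU F p V) :=
  (Equiv.ofBijective _ (HU_counit_bijective J F p V)).subsingleton_congr

lemma unit_X₃_surjective (F : Sheaf J AddCommGrpCat.{u}) (V : C)
    (h : Subsingleton (CohSite.HU F 1 V)) :
    Function.Surjective ((toSheafify J (pSC J F).X₃).app (op V)).hom := by
  intro t
  obtain ⟨r, rfl⟩ := surjective_of_HU J ((pSC J F).map (presheafToSheaf J AddCommGrpCat.{u}))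
    ((pSC_shortExact J F).map_of_exact (presheafToSheaf J AddCommGrpCat.{u})) V
    ((subsingleton_shf_iff J F 1 V).mpr h) t
  obtain ⟨s, rfl⟩ := (toSheafify_bijective J (Injective.under F) V).2 r
  exact ⟨((pSC J F).g.app (op V)).hom s, unit_naturality_apply J (pSC J F).g V s⟩

end Groth.Agent.CechEdgeLib
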