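import Groth.Agent.Lib.CechEdgeBij
set_option autoImplicit false
set_option linter.unusedSectionVars false
universe u
open CategoryTheory Limits Opposite Abelian

namespace Groth.Agent.CechEdgeLib

open Groth.Agent.Cech Groth.Agent.DeltaUniv CechEdge

variable {C : Type u} [SmallCategory C] [HasPullbacks C] (J : GrothendieckTopology C)
  {U : C} {ι : Type u} (Y : ι → Over U)
  (e : ∀ (P : Cᵒᵖ ⥤ AddCommGrpCat.{u}) (p : ℕ),
      CohCx.cechH P Y p →+ CohSite.HU (CechEdge.shf J P) p U)
  (he : CechEdge.IsEdge J Y e)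

include he in
/-- the edge map at the presheaf quotient `I/F` in degree 0 is injective. -/
lemma edge0_X₃_injective (F : Sheaf J AddCommGrpCat.{u}) :
    Function.Injective (e (pSC J F).X₃ 0) := by
  intro x x' hxx
  have h1 := he.natural _ _ (toSheafify J (pSC J F).X₃) 0 x
  have h2 := he.natural _ _ (toSheafify J (pSC J F).X₃) 0 x'
  rw [hxx, ← h2] at h1
  have h3 := (edge0_bijective J Y e he (shf J (pSC J F).X₃)).1 h1
  exact homologyMap_zero_injective Y
    (Functor.whiskerLeft (Over.forget U).op (toSheafify J (pSC J F).X₃))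
    (fun i => unit_X₃_injective J F _) h3

include he in
/-- `S16023`. -/
theorem edge_one_injective (F : Sheaf J AddCommGrpCat.{u}) :
    Function.Injective (e F.obj 1) :=
  four_inj J Y e he (pSC J F) (pSC_shortExact J F) 0
    (edge0_bijective J Y e he (Injective.under F)).2 (edge0_X₃_injective J Y e he F)

/-- the acyclicity hypothesis. -/
def Hyp (F : Sheaf J AddCommGrpCat.{u}) : Prop :=
  ∀ (n : ℕ) (a : Fin (n + 1) → ι) (q : ℕ),
    Subsingleton (CohSite.HU F (q + 1) (∏ᶜ fun k => Y (a k)).left)

lemma subsingleton_of_injective (I : Sheaf J AddCommGrpCat.{u}) [Injective I] (V : C) (q : ℕ) :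
    Subsingleton (CohSite.HU I (q + 1) V) :=
  subsingleton_of_forall_eq 0
    (fun (x : Ext (CohCx.freeSheaf J V) I (q + 1)) => Ext.eq_zero_of_injective x)

lemma hyp_injective (I : Sheaf J AddCommGrpCat.{u}) [Injective I] : Hyp J Y I :=
  fun _ _ q => subsingleton_of_injective J I _ q

lemma hyp_shf_X₃ (F : Sheaf J AddCommGrpCat.{u}) (hF : Hyp J Y F) :
    Hyp J Y (shf J (pSC J F).X₃) := by
  intro n a q
  have hS := (pSC_shortExact J F).map_of_exact (presheafToSheaf J AddCommGrpCat.{u})
  have h1 : Subsingleton (CohSite.HU (shf J F.obj) (q + 1 + 1) (∏ᶜ fun k => Y (a k)).left) :=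
    (subsingleton_shf_iff J F _ _).mpr (hF n a (q + 1))
  have h2 : Subsingleton (CohSite.HU (shf J (Injective.under F).obj) (q + 1)
      (∏ᶜ fun k => Y (a k)).left) :=
    (subsingleton_shf_iff J (Injective.under F) _ _).mpr (subsingleton_of_injective J _ _ q)
  refine subsingleton_of_forall_eq 0
    (fun (x₃ : Ext (CohCx.freeSheaf J (∏ᶜ fun k => Y (a k)).left)
      ((pSC J F).map (presheafToSheaf J AddCommGrpCat.{u})).X₃ (q + 1)) => ?_)
  have h0 : x₃.comp hS.extClass rfl = 0 := Subsingleton.elim (h := h1) _ _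
  obtain ⟨x₂, hx₂⟩ := Ext.covariant_sequence_exact₃ _ hS x₃ rfl h0
  have : x₂ = 0 := Subsingleton.elim (h := h2) _ _
  rw [← hx₂, this, Ext.zero_comp]
  rfl

include he in
/-- the edge map at the presheaf quotient `I/F` is bijective when it is so at its sheafification
and `H¹` of `F` vanishes on the products. -/
lemma edge_X₃_bijective (F : Sheaf J AddCommGrpCat.{u}) (hF : Hyp J Y F) (p : ℕ)
    (h : Function.Bijective (e (shf J (pSC J F).X₃).obj p)) :
    Function.Bijective (e (pSC J F).X₃ p) := by
  have hb : Function.Bijective (cechHMap Y (toSheafify J (pSC J F).X₃) p) :=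
    homologyMap_bijective Y
      (Functor.whiskerLeft (Over.forget U).op (toSheafify J (pSC J F).X₃))
      (fun n a => ⟨unit_X₃_injective J F _, unit_X₃_surjective J F _ (hF n a 0)⟩) p
  have := isIso_shfMap_toSheafify J (pSC J F).X₃
  have hH := HUmap_bijective_of_isIso J (shfMap J (toSheafify J (pSC J F).X₃)) p U
  have hc : (HUmap (shfMap J (toSheafify J (pSC J F).X₃)) p U) ∘ (e (pSC J F).X₃ p) =
      (e (shf J (pSC J F).X₃).obj p) ∘ (cechHMap Y (toSheafify J (pSC J F).X₃) p) := by
    funext x
    exact (he.natural _ _ (toSheafify J (pSC J F).X₃) p x).symm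
  have h2 : Function.Bijective
      ((HUmap (shfMap J (toSheafify J (pSC J F).X₃)) p U) ∘ (e (pSC J F).X₃ p)) := by
    rw [hc]
    exact h.comp hb
  exact (Function.Bijective.of_comp_iff' hH _).mp h2

include he in
/-- `S16022`, for the family `e` itself. -/
theorem edge_bijective : ∀ (p : ℕ) (F : Sheaf J AddCommGrpCat.{u}), Hyp J Y F →
    Function.Bijective (e F.obj p) := by
  intro p
  induction p with
  | zero => exact fun F _ => edge0_bijective J Y e he F
  | succ p ih =>
    intro F hF
    have h2 : Function.Bijective (e (pSC J F).X₂ p) :=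
      ih (Injective.under F) (hyp_injective J Y _)
    have h3 : Function.Bijective (e (pSC J F).X₃ p) :=
      edge_X₃_bijective J Y e he F hF p (ih _ (hyp_shf_X₃ J Y F hF))
    refine ⟨four_inj J Y e he (pSC J F) (pSC_shortExact J F) p h2.2 h3.1,
      four_surj J Y e he (pSC J F) (pSC_shortExact J F) p h3.2 ?_⟩
    exact (subsingleton_shf_iff J (Injective.under F) _ _).mpr (subsingleton_of_injective J _ _ p)

lemma edgeSh_eq (F : Sheaf J AddCommGrpCat.{u}) (p : ℕ) :
    (edgeSh e F p : CohCx.cechH F.obj Y p → CohSite.HU F p U) =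
      (HUmap ((sheafificationAdjunction J AddCommGrpCat.{u}).counit.app F) p U) ∘ (e F.obj p) :=
  rfl

end Groth.Agent.CechEdgeLib
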