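import Groth.Agent.Lib.CechExact
set_option autoImplicit false
universe w v u
open CategoryTheory Limits Opposite

namespace Groth.Agent.Cech

variable {D : Type u} [Category.{v} D] [HasFiniteProducts D] {ι : Type w} {U : ι → D}
  {T' : D} (q : ∀ i, U i ⟶ T')

section

variable (P : Dᵒᵖ ⥤ AddCommGrpCat.{w})

/-- the augmentation as a morphism. -/
noncomputable def augHom : P.obj (op T') ⟶ (cx U P).X 0 :=
  lift (fun e => P.map (Pi.π (U ∘ e) 0 ≫ q (e 0)).op)

lemma augHom_apply (s : P.obj (op T')) : (augHom q P).hom s = aug (P := P) q s := by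
  apply cochain_ext
  intro e
  rw [comp_aug]
  exact ConcreteCategory.congr_hom (lift_proj (U := U) (P := P)
    (fun e => P.map (Pi.π (U ∘ e) 0 ≫ q (e 0)).op) e) s

variable (hq : ∀ {W : D} {i j : ι} (a : W ⟶ U i) (b : W ⟶ U j), a ≫ q i = b ≫ q j)

include hq in
lemma augHom_d : augHom q P ≫ (cx U P).d 0 1 = 0 := by
  refine ConcreteCategory.hom_ext _ _ (fun s => ?_)
  rw [AddCommGrpCat.comp_apply, augHom_apply]
  exact d_aug (P := P) q hq s

/-- the augmentation, to cycles. -/
noncomputable def augCycles : P.obj (op T') ⟶ (cx U P).cycles 0 :=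
  (cx U P).liftCycles (augHom q P) 1 (by simp) (augHom_d q P hq)

/-- the augmentation, to `Ȟ⁰`. -/
noncomputable def toH0 : P.obj (op T') ⟶ (cx U P).homology 0 :=
  augCycles q P hq ≫ (cx U P).homologyπ 0

lemma augCycles_i : augCycles q P hq ≫ (cx U P).iCycles 0 = augHom q P :=
  HomologicalComplex.liftCycles_i _ _ _ _ _

lemma toH0_bijective
    (hglue : ∀ x : (cx U P).X 0, ((cx U P).d 0 1).hom x = 0 →
      ∃ τ : P.obj (op T'), x = aug (P := P) q τ)
    (hinj : ∀ s s' : P.obj (op T'), aug (P := P) q s = aug (P := P) q s' → s = s') :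
    Function.Bijective (toH0 q P hq).hom := by
  have hπ : Function.Bijective ((cx U P).homologyπ 0).hom :=
    (ConcreteCategory.isIso_iff_bijective _).mp inferInstance
  have hi : Function.Injective ((cx U P).iCycles 0).hom :=
    (AddCommGrpCat.mono_iff_injective _).mp inferInstance
  constructor
  · intro s s' h
    apply hinj
    rw [← augHom_apply, ← augHom_apply, ← augCycles_i q P hq]
    have h1 : (augCycles q P hq).hom s = (augCycles q P hq).hom s' := hπ.1 h
    rw [AddCommGrpCat.comp_apply, AddCommGrpCat.comp_apply, h1]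
  · intro z
    obtain ⟨c, rfl⟩ := hπ.2 z
    have hx : ((cx U P).d 0 1).hom (((cx U P).iCycles 0).hom c) = 0 :=
      ConcreteCategory.congr_hom ((cx U P).iCycles_d 0 1) c
    obtain ⟨τ, hτ⟩ := hglue _ hx
    refine ⟨τ, ?_⟩
    show ((cx U P).homologyπ 0).hom ((augCycles q P hq).hom τ) = _
    congr 1
    apply hi
    rw [hτ, ← augHom_apply, ← augCycles_i q P hq]
    rfl

end

variable (hq : ∀ {W : D} {i j : ι} (a : W ⟶ U i) (b : W ⟶ U j), a ≫ q i = b ≫ q j)

lemma toH0_naturality {P Q : Dᵒᵖ ⥤ AddCommGrpCat.{w}} (φ : P ⟶ Q) :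
    toH0 q P hq ≫ HomologicalComplex.homologyMap ((cechComplexFunctor U).map φ) 0 =
      φ.app (op T') ≫ toH0 q Q hq := by
  have h1 : augHom q P ≫ ((cechComplexFunctor U).map φ).f 0 = φ.app (op T') ≫ augHom q Q := by
    refine ConcreteCategory.hom_ext _ _ (fun s => ?_)
    rw [AddCommGrpCat.comp_apply, AddCommGrpCat.comp_apply, augHom_apply, augHom_apply]
    exact map_aug (P := P) (Q := Q) q φ s
  have h2 : augCycles q P hq ≫ HomologicalComplex.cyclesMap ((cechComplexFunctor U).map φ) 0 =
      φ.app (op T') ≫ augCycles q Q hq := by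
    rw [← cancel_mono ((cx U Q).iCycles 0)]
    simp only [Category.assoc, HomologicalComplex.cyclesMap_i, augCycles_i]
    rw [← Category.assoc, augCycles_i, h1]
  unfold toH0
  rw [Category.assoc, HomologicalComplex.homologyπ_naturality, ← Category.assoc, h2, Category.assoc]

end Groth.Agent.Cech
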