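import Groth.Agent.Lib.DeltaUniv
import Groth.Agent.Lib.CechSite
import Groth.Agent.Lib.CechH0
import Groth.Agent.Lib.CechInjSite
import Groth.Prelude.Def_CechEdge
set_option autoImplicit false
universe u
open CategoryTheory Limits Opposite Abelian

namespace Groth.Agent.CechEdgeLib

open Groth.Agent.Cech Groth.Agent.DeltaUniv CechEdge

variable {C : Type u} [SmallCategory C] [HasPullbacks C] (J : GrothendieckTopology C)
  {U : C} {ι : Type u} (Y : ι → Over U)

omit [HasPullbacks C] in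
/-- sections of a short exact sequence of presheaves form a short exact sequence. -/
lemma psh_sections (S : ShortComplex (Cᵒᵖ ⥤ AddCommGrpCat.{u})) (hS : S.ShortExact) (V : Cᵒᵖ) :
    Function.Injective (S.f.app V).hom ∧
      (∀ y, (S.g.app V).hom y = 0 → ∃ x, (S.f.app V).hom x = y) ∧
      Function.Surjective (S.g.app V).hom := by
  have h := hS.map_of_exact ((evaluation Cᵒᵖ AddCommGrpCat.{u}).obj V)
  refine ⟨?_, ?_, ?_⟩
  · exact (AddCommGrpCat.mono_iff_injective _).mp h.mono_f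
  · exact (ShortComplex.ab_exact_iff _).mp h.exact
  · exact (AddCommGrpCat.epi_iff_surjective _).mp h.epi_g

/-- the Čech complex functor is exact on presheaves. -/
theorem cech_shortExact (S : ShortComplex (Cᵒᵖ ⥤ AddCommGrpCat.{u})) (hS : S.ShortExact) :
    (S.map (cxFunctor Y)).ShortExact := by
  exact mapSC_shortExact (U := Y)
    (S.map ((Functor.whiskeringLeft (Over U)ᵒᵖ Cᵒᵖ AddCommGrpCat.{u}).obj (Over.forget U).op))
    (fun n a => (psh_sections S hS _).1) (fun n a => (psh_sections S hS _).2.1)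
    (fun n a => (psh_sections S hS _).2.2)

omit [HasPullbacks C] in
lemma HUmap_apply {F G : Sheaf J AddCommGrpCat.{u}} (ψ : F ⟶ G) (p : ℕ) (U : C)
    (x : CohSite.HU F p U) : HUmap ψ p U x = x.comp (Ext.mk₀ ψ) (add_zero p) := rfl

omit [HasPullbacks C] in
lemma extδ_apply {S : ShortComplex (Sheaf J AddCommGrpCat.{u})} (hS : S.ShortExact) (U : C) (p : ℕ)
    (x : CohSite.HU S.X₃ p U) : extδ hS U p x = x.comp hS.extClass rfl := rfl

omit [HasPullbacks C] in
lemma extδ_nat {S S' : ShortComplex (Sheaf J AddCommGrpCat.{u})} (hS : S.ShortExact)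
    (hS' : S'.ShortExact) (φ : S ⟶ S') (U : C) (p : ℕ) (x : CohSite.HU S.X₃ p U) :
    extδ hS' U p (HUmap φ.τ₃ p U x) = HUmap φ.τ₁ (p + 1) U (extδ hS U p x) := by
  rw [extδ_apply, extδ_apply, HUmap_apply, HUmap_apply]
  rw [Ext.comp_assoc_of_third_deg_zero, ShortComplex.ShortExact.extClass_naturality hS hS' φ,
    Ext.comp_assoc_of_second_deg_zero]

omit [HasPullbacks C] in
lemma extδ_map_g {S : ShortComplex (Sheaf J AddCommGrpCat.{u})} (hS : S.ShortExact)
    (U : C) (p : ℕ) (z : CohSite.HU S.X₂ p U) :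
    extδ hS U p (HUmap S.g p U z) = 0 := by
  rw [extδ_apply, HUmap_apply, Ext.comp_assoc_of_second_deg_zero, hS.comp_extClass, Ext.comp_zero]
  rfl

omit [HasPullbacks C] in
lemma HUmap_id (F : Sheaf J AddCommGrpCat.{u}) (p : ℕ) (U : C) (x : CohSite.HU F p U) :
    HUmap (𝟙 F) p U x = x := by
  rw [HUmap_apply, Ext.comp_mk₀_id]

omit [HasPullbacks C] in
lemma HUmap_comp {F G H : Sheaf J AddCommGrpCat.{u}} (ψ : F ⟶ G) (χ : G ⟶ H) (p : ℕ) (U : C)
    (x : CohSite.HU F p U) : HUmap (ψ ≫ χ) p U x = HUmap χ p U (HUmap ψ p U x) := by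
  rw [HUmap_apply, HUmap_apply, HUmap_apply, Ext.comp_assoc_of_second_deg_zero,
    Ext.mk₀_comp_mk₀]

omit [HasPullbacks C] in
lemma HUmap_bijective_of_isIso {F G : Sheaf J AddCommGrpCat.{u}} (ψ : F ⟶ G) [IsIso ψ]
    (p : ℕ) (U : C) : Function.Bijective (HUmap ψ p U) := by
  refine Function.bijective_iff_has_inverse.mpr ⟨HUmap (inv ψ) p U, fun x => ?_, fun x => ?_⟩
  · rw [← HUmap_comp, IsIso.hom_inv_id, HUmap_id]
  · rw [← HUmap_comp, IsIso.inv_hom_id, HUmap_id]

/-- the sheaf side as a δ-functor skeleton. -/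
noncomputable def RS (U : C) : DF.{u} (Cᵒᵖ ⥤ AddCommGrpCat.{u}) where
  obj P p := CohSite.HU (shf J P) p U
  map φ p := HUmap (shfMap J φ) p U
  map_id P p x := by
    have : shfMap J (𝟙 P) = 𝟙 _ := (presheafToSheaf J AddCommGrpCat.{u}).map_id P
    rw [this, HUmap_id]
  δ S hS p := extδ (hS.map_of_exact (presheafToSheaf J AddCommGrpCat.{u})) U p
  δ_nat S S' hS hS' φ p x :=
    extδ_nat J (hS.map_of_exact (presheafToSheaf J AddCommGrpCat.{u}))
      (hS'.map_of_exact (presheafToSheaf J AddCommGrpCat.{u}))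
      ((presheafToSheaf J AddCommGrpCat.{u}).mapShortComplex.map φ) U p x

omit [HasPullbacks C] in
lemma RS_hR (U : C) (S : ShortComplex (Cᵒᵖ ⥤ AddCommGrpCat.{u})) (hS : S.ShortExact) (p : ℕ)
    (z : (RS J U).obj S.X₂ p) : (RS J U).δ S hS p ((RS J U).map S.g p z) = 0 :=
  extδ_map_g J (hS.map_of_exact (presheafToSheaf J AddCommGrpCat.{u})) U p z

/-- the Čech side as a δ-functor skeleton. -/
noncomputable def TC : DF.{u} (Cᵒᵖ ⥤ AddCommGrpCat.{u}) where
  obj P p := CohCx.cechH P Y p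
  map φ p := cechHMap Y φ p
  map_id P p x := by
    show (HomologicalComplex.homologyMap ((cxFunctor Y).map (𝟙 P)) p).hom x = x
    rw [CategoryTheory.Functor.map_id, HomologicalComplex.homologyMap_id]
    rfl
  δ S hS p := ((cech_shortExact Y S hS).δ p (p + 1) rfl).hom
  δ_nat S S' hS hS' φ p x := by
    have := HomologicalComplex.HomologySequence.δ_naturality ((cxFunctor Y).mapShortComplex.map φ)
      (cech_shortExact Y S hS) (cech_shortExact Y S' hS') p (p + 1) rfl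
    exact (ConcreteCategory.congr_hom this x).symm

lemma TC_hTs (S : ShortComplex (Cᵒᵖ ⥤ AddCommGrpCat.{u})) (hS : S.ShortExact) [Injective S.X₂]
    (p : ℕ) : Function.Surjective ((TC Y).δ S hS p) := by
  have hz : IsZero ((S.map (cxFunctor Y)).X₂.homology (p + 1)) :=
    isZero_homology_of_injective (U := Y) (P := (Over.forget U).op ⋙ S.X₂) p
  have : Epi ((cech_shortExact Y S hS).δ p (p + 1) rfl) :=
    (cech_shortExact Y S hS).epi_δ p (p + 1) rfl hz
  exact (AddCommGrpCat.epi_iff_surjective _).mp this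

lemma TC_hTk (S : ShortComplex (Cᵒᵖ ⥤ AddCommGrpCat.{u})) (hS : S.ShortExact) (p : ℕ)
    (x : (TC Y).obj S.X₃ p) (hx : (TC Y).δ S hS p x = 0) : ∃ z, (TC Y).map S.g p z = x :=
  (ShortComplex.ab_exact_iff _).mp ((cech_shortExact Y S hS).homology_exact₃ p (p + 1) rfl) x hx

lemma toCech₀_eq (P : Cᵒᵖ ⥤ AddCommGrpCat.{u}) :
    toCech₀ P Y = augHom (qOver Y) (ovr P) := by
  unfold toCech₀ augHom Cech.lift
  congr 1
  funext e
  show P.map _ = P.map _
  congr 2
  exact (Over.w (Pi.π (Y ∘ e) 0)).symm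

lemma toCycles_eq (P : Cᵒᵖ ⥤ AddCommGrpCat.{u}) :
    toCycles P Y = augCycles (qOver Y) (ovr P) (hqOver Y) := by
  rw [← cancel_mono ((CechEdge.cx P Y).iCycles 0), toCycles_i, toCech₀_eq]
  exact (augCycles_i (qOver Y) (ovr P) (hqOver Y)).symm

lemma toCech_eq (P : Cᵒᵖ ⥤ AddCommGrpCat.{u}) :
    toCech Y P = (toH0 (qOver Y) (ovr P) (hqOver Y)).hom := by
  unfold toCech toH0
  rw [toCycles_eq]
  rfl

/-- `S16021`, the direct implication. -/
theorem toCech_bijective (F : Sheaf J AddCommGrpCat.{u})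
    (hY : Sieve.ofArrows (fun i => (Y i).left) (fun i => (Y i).hom) ∈ J U) :
    Function.Bijective (toCech Y F.obj) := by
  rw [toCech_eq]
  exact toH0_bijective (qOver Y) (ovr F.obj) (hqOver Y)
    (fun x hx => exists_aug_eq Y F hY x hx) (fun s s' h => aug_injective Y F hY s s' h)

lemma toCech_naturality {P Q : Cᵒᵖ ⥤ AddCommGrpCat.{u}} (φ : P ⟶ Q) (s : P.obj (op U)) :
    cechHMap Y φ 0 (toCech Y P s) = toCech Y Q ((φ.app (op U)).hom s) := by
  rw [toCech_eq, toCech_eq]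
  exact ConcreteCategory.congr_hom (toH0_naturality (qOver Y) (hqOver Y)
    (P := ovr P) (Q := ovr Q) (Functor.whiskerLeft (Over.forget U).op φ)) s

lemma cechHMap_comp {P Q R : Cᵒᵖ ⥤ AddCommGrpCat.{u}} (φ : P ⟶ Q) (ψ : Q ⟶ R) (p : ℕ)
    (x : CohCx.cechH P Y p) : cechHMap Y (φ ≫ ψ) p x = cechHMap Y ψ p (cechHMap Y φ p x) := by
  show (HomologicalComplex.homologyMap ((cxFunctor Y).map (φ ≫ ψ)) p).hom x = _
  rw [Functor.map_comp, HomologicalComplex.homologyMap_comp]
  rfl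

omit [HasPullbacks C] in
/-- naturality of `sectH0`. -/
lemma sectH0_naturality {F G : Sheaf J AddCommGrpCat.{u}} (ψ : F ⟶ G) (U : C)
    (s : F.obj.obj (op U)) :
    HUmap ψ 0 U (sectH0 J U F s) = sectH0 J U G ((ψ.hom.app (op U)).hom s) := by
  apply (sectH0 J U G).symm.injective
  rw [AddEquiv.symm_apply_apply]
  obtain ⟨a, rfl⟩ := (CohFree.homEquivSect J U F).surjective s
  have h1 : sectH0 J U F (CohFree.homEquivSect J U F a) = Ext.mk₀ a := by
    show Ext.addEquiv₀.symm ((CohFree.homEquivSect J U F).symm (CohFree.homEquivSect J U F a)) = _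
    rw [AddEquiv.symm_apply_apply]
    rfl
  rw [h1, HUmap_apply, Ext.mk₀_comp_mk₀]
  show CohFree.homEquivSect J U G (Ext.addEquiv₀ (Ext.mk₀ (a ≫ ψ))) = _
  have h2 : Ext.addEquiv₀ (Ext.mk₀ (a ≫ ψ)) = a ≫ ψ := Ext.addEquiv₀.apply_symm_apply _
  rw [h2]
  rfl

end Groth.Agent.CechEdgeLib
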