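import Groth.Agent.Lib.CechEdgeLib
set_option autoImplicit false
universe u
open CategoryTheory Limits Opposite Abelian

namespace Groth.Agent.CechEdgeLib

open Groth.Agent.Cech Groth.Agent.DeltaUniv CechEdge

instance enoughInjectives_psh {C : Type u} [SmallCategory C] :
    EnoughInjectives (Cᵒᵖ ⥤ AddCommGrpCat.{u}) :=
  ((sheafBotEquivalence (C := C) AddCommGrpCat.{u}).enoughInjectives_iff).mp inferInstance

variable {C : Type u} [SmallCategory C] [HasPullbacks C] (J : GrothendieckTopology C)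
  {U : C} {ι : Type u} (Y : ι → Over U)
  (hY : Sieve.ofArrows (fun i => (Y i).left) (fun i => (Y i).hom) ∈ J U)

omit [HasPullbacks C] in
lemma isIso_shfMap_toSheafify (P : Cᵒᵖ ⥤ AddCommGrpCat.{u}) :
    IsIso (shfMap J (toSheafify J P)) := by
  have h := (sheafificationAdjunction J AddCommGrpCat.{u}).left_triangle_components P
  have h2 : shfMap J (toSheafify J P) =
      inv ((sheafificationAdjunction J AddCommGrpCat.{u}).counit.app (shf J P)) := by
    rw [← cancel_mono ((sheafificationAdjunction J AddCommGrpCat.{u}).counit.app (shf J P)),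
      IsIso.inv_hom_id]
    exact h
  rw [h2]
  infer_instance

/-- sections of a sheaf are its degree-0 Čech cohomology for a covering family. -/
noncomputable def tcEquiv (F : Sheaf J AddCommGrpCat.{u}) :
    F.obj.obj (op U) ≃+ CohCx.cechH F.obj Y 0 :=
  AddEquiv.ofBijective (toCech Y F.obj) (toCech_bijective J Y F hY)

lemma tcEquiv_apply (F : Sheaf J AddCommGrpCat.{u}) (s : F.obj.obj (op U)) :
    tcEquiv J Y hY F s = toCech Y F.obj s := rfl

/-- the edge map in degree 0. -/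
noncomputable def f0 (P : Cᵒᵖ ⥤ AddCommGrpCat.{u}) :
    CohCx.cechH P Y 0 →+ CohSite.HU (shf J P) 0 U :=
  ((sectH0 J U (shf J P)).toAddMonoidHom.comp (tcEquiv J Y hY (shf J P)).symm.toAddMonoidHom).comp
    (cechHMap Y (toSheafify J P) 0)

lemma f0_apply (P : Cᵒᵖ ⥤ AddCommGrpCat.{u}) (x : CohCx.cechH P Y 0) :
    f0 J Y hY P x = sectH0 J U (shf J P)
      ((tcEquiv J Y hY (shf J P)).symm (cechHMap Y (toSheafify J P) 0 x)) := rfl

lemma f0_zero (P : Cᵒᵖ ⥤ AddCommGrpCat.{u}) (s : P.obj (op U)) :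
    f0 J Y hY P (toCech Y P s) =
      sectH0 J U (shf J P) (((toSheafify J P).app (op U)).hom s) := by
  rw [f0_apply, toCech_naturality, ← tcEquiv_apply J Y hY, AddEquiv.symm_apply_apply]

lemma f0_natural (P Q : Cᵒᵖ ⥤ AddCommGrpCat.{u}) (φ : P ⟶ Q) (x : CohCx.cechH P Y 0) :
    f0 J Y hY Q (cechHMap Y φ 0 x) = HUmap (shfMap J φ) 0 U (f0 J Y hY P x) := by
  rw [f0_apply, f0_apply, sectH0_naturality, ← cechHMap_comp]
  have h1 : φ ≫ toSheafify J Q = toSheafify J P ≫ (shfMap J φ).hom :=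
    (toSheafify_naturality J φ)
  rw [h1, cechHMap_comp]
  obtain ⟨t, ht⟩ := (tcEquiv J Y hY (shf J P)).surjective (cechHMap Y (toSheafify J P) 0 x)
  rw [← ht, AddEquiv.symm_apply_apply, tcEquiv_apply, toCech_naturality, ← tcEquiv_apply J Y hY,
    AddEquiv.symm_apply_apply]

include hY in
theorem exists_isEdge :
    ∃ e : ∀ (P : Cᵒᵖ ⥤ AddCommGrpCat.{u}) (p : ℕ),
      CohCx.cechH P Y p →+ CohSite.HU (CechEdge.shf J P) p U, CechEdge.IsEdge J Y e := by
  have hp := ext_props (TC Y) (RS J U) (TC_hTs Y) (TC_hTk Y) (RS_hR J U) (f0 J Y hY)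
    (fun A B φ x => f0_natural J Y hY A B φ x)
  refine ⟨fun P p => DeltaUniv.ext (TC Y) (RS J U) (f0 J Y hY) p P, ⟨hY, ?_, ?_, ?_⟩⟩
  · intro P s
    exact f0_zero J Y hY P s
  · intro P Q φ p x
    exact (hp p).1 P Q φ x
  · intro S hS hC p x
    exact (hp p).2 S hS x

theorem isEdge_unique
    (e e' : ∀ (P : Cᵒᵖ ⥤ AddCommGrpCat.{u}) (p : ℕ),
      CohCx.cechH P Y p →+ CohSite.HU (CechEdge.shf J P) p U)
    (he : CechEdge.IsEdge J Y e) (he' : CechEdge.IsEdge J Y e') : e = e' := by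
  have hY := he.cover
  have h0 : ∀ P, e P 0 = e' P 0 := by
    intro P
    ext x
    have := isIso_shfMap_toSheafify J P
    apply (HUmap_bijective_of_isIso J (shfMap J (toSheafify J P)) 0 U).1
    rw [← he.natural, ← he'.natural]
    obtain ⟨t, ht⟩ := (toCech_bijective J Y (shf J P) hY).2 (cechHMap Y (toSheafify J P) 0 x)
    rw [← ht, he.zero, he'.zero]
  have key := DeltaUniv.unique (TC Y) (RS J U) (TC_hTs Y) (fun p A => e A p) (fun p A => e' A p)
    (fun p S hS x => he.delta S hS (cech_shortExact Y S hS) p x)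
    (fun p S hS x => he'.delta S hS (cech_shortExact Y S hS) p x) h0
  funext P p
  exact key p P

end Groth.Agent.CechEdgeLib
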