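import Groth.Agent.Lib.CechEdgeMain
set_option autoImplicit false
universe u
open CategoryTheory Limits Opposite Abelian

namespace Groth.Agent.CechEdgeLib

open Groth.Agent.Cech Groth.Agent.DeltaUniv CechEdge

variable {C : Type u} [SmallCategory C] [HasPullbacks C] (J : GrothendieckTopology C)
  {U : C} {ι κ : Type u} (Y : ι → Over U) (Y' : κ → Over U)
  (f : FormalCoproduct.mk ι Y ⟶ FormalCoproduct.mk κ Y')

/-- the refinement map as a natural transformation. -/
noncomputable def refineNat : cxFunctor Y' ⟶ cxFunctor Y :=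
  Functor.whiskerLeft
    ((Functor.whiskeringLeft (Over U)ᵒᵖ Cᵒᵖ AddCommGrpCat.{u}).obj (Over.forget U).op)
    (Functor.whiskerRight (Functor.whiskerLeft (FormalCoproduct.evalOp.{u} (Over U) AddCommGrpCat.{u})
      ((Functor.whiskeringLeft _ _ _).map (NatTrans.rightOp (FormalCoproduct.cechFunctor.map f))))
      (AlgebraicTopology.alternatingCofaceMapComplex AddCommGrpCat.{u}))

/-- the refinement map, typed on the Čech complexes. -/
noncomputable def refCx (P : Cᵒᵖ ⥤ AddCommGrpCat.{u}) : CechEdge.cx P Y' ⟶ CechEdge.cx P Y :=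
  CohCx.cechRefine P f

lemma refineNat_app (P : Cᵒᵖ ⥤ AddCommGrpCat.{u}) :
    (refineNat Y Y' f).app P = refCx Y Y' f P := rfl

lemma refine_f_zero (P : Cᵒᵖ ⥤ AddCommGrpCat.{u}) :
    (refCx Y Y' f P).f 0 =
      ((FormalCoproduct.evalOp.{u} (Over U) AddCommGrpCat.{u}).obj ((Over.forget U).op ⋙ P)).map
        ((FormalCoproduct.cechFunctor.map f).app (op (SimplexCategory.mk 0))).op := rfl

lemma toCech₀_refine (P : Cᵒᵖ ⥤ AddCommGrpCat.{u}) :
    toCech₀ P Y' ≫ (refCx Y Y' f P).f 0 = toCech₀ P Y := by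
  rw [refine_f_zero, FormalCoproduct.evalOp_obj_map]
  apply Pi.hom_ext
  intro i
  unfold toCech₀
  erw [Category.assoc, Pi.lift_π, Pi.lift_π, Pi.lift_π_assoc]
  change P.map _ ≫ P.map _ = P.map _
  rw [← P.map_comp]
  congr 1
  exact congrArg Quiver.Hom.op
    (Over.w (((FormalCoproduct.cechFunctor.map f).app (op (SimplexCategory.mk 0))).φ i))

/-- the map on Čech cohomology induced by a refinement. -/
noncomputable abbrev refH (P : Cᵒᵖ ⥤ AddCommGrpCat.{u}) (p : ℕ) :
    CohCx.cechH P Y' p →+ CohCx.cechH P Y p :=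
  (HomologicalComplex.homologyMap (refCx Y Y' f P) p).hom

lemma refH_toCech (P : Cᵒᵖ ⥤ AddCommGrpCat.{u}) (s : P.obj (op U)) :
    refH Y Y' f P 0 (toCech Y' P s) = toCech Y P s := by
  have h1 : toCycles P Y' ≫ HomologicalComplex.cyclesMap (refCx Y Y' f P) 0 =
      toCycles P Y := by
    rw [← cancel_mono ((CechEdge.cx P Y).iCycles 0), Category.assoc,
      HomologicalComplex.cyclesMap_i, toCycles_i, ← Category.assoc, toCycles_i]
    exact toCech₀_refine Y Y' f P
  have h2 : (toCycles P Y' ≫ (CechEdge.cx P Y').homologyπ 0) ≫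
      HomologicalComplex.homologyMap (refCx Y Y' f P) 0 =
      toCycles P Y ≫ (CechEdge.cx P Y).homologyπ 0 := by
    rw [Category.assoc, HomologicalComplex.homologyπ_naturality, ← Category.assoc, h1]
  exact ConcreteCategory.congr_hom h2 s

lemma refH_natural {P Q : Cᵒᵖ ⥤ AddCommGrpCat.{u}} (φ : P ⟶ Q) (p : ℕ)
    (x : CohCx.cechH P Y' p) :
    refH Y Y' f Q p (cechHMap Y' φ p x) = cechHMap Y φ p (refH Y Y' f P p x) := by
  have h := (refineNat Y Y' f).naturality φ
  rw [refineNat_app, refineNat_app] at h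
  have h2 : HomologicalComplex.homologyMap ((cxFunctor Y').map φ) p ≫
      HomologicalComplex.homologyMap (refCx Y Y' f Q) p =
      HomologicalComplex.homologyMap (refCx Y Y' f P) p ≫
      HomologicalComplex.homologyMap ((cxFunctor Y).map φ) p := by
    rw [← HomologicalComplex.homologyMap_comp, ← HomologicalComplex.homologyMap_comp, h]
  exact ConcreteCategory.congr_hom h2 x

/-- the morphism of short complexes of Čech complexes induced by a refinement. -/
noncomputable def refSC (S : ShortComplex (Cᵒᵖ ⥤ AddCommGrpCat.{u})) :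
    S.map (cxFunctor Y') ⟶ S.map (cxFunctor Y) :=
  S.mapNatTrans (refineNat Y Y' f)

/-- pulling back an edge family along a refinement gives an edge family. -/
theorem isEdge_refine
    (e : ∀ (P : Cᵒᵖ ⥤ AddCommGrpCat.{u}) (p : ℕ),
      CohCx.cechH P Y p →+ CohSite.HU (CechEdge.shf J P) p U)
    (he : CechEdge.IsEdge J Y e)
    (hY' : Sieve.ofArrows (fun i => (Y' i).left) (fun i => (Y' i).hom) ∈ J U) :
    CechEdge.IsEdge J Y' (fun P p => (e P p).comp (refH Y Y' f P p)) := by
  refine ⟨hY', ?_, ?_, ?_⟩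
  · intro P s
    rw [AddMonoidHom.comp_apply, refH_toCech]
    exact he.zero P s
  · intro P Q φ p x
    rw [AddMonoidHom.comp_apply, AddMonoidHom.comp_apply, refH_natural]
    exact he.natural P Q φ p _
  · intro S hS hC p x
    rw [AddMonoidHom.comp_apply, AddMonoidHom.comp_apply]
    have h := HomologicalComplex.HomologySequence.δ_naturality (refSC Y Y' f S) hC
      (cech_shortExact Y S hS) p (p + 1) rfl
    have h2 := ConcreteCategory.congr_hom h x
    refine (congrArg (e S.X₁ (p + 1)) h2).trans ?_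
    exact he.delta S hS (cech_shortExact Y S hS) p _

end Groth.Agent.CechEdgeLib
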