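import Groth.Agent.Lib.CechEdgeLib
set_option autoImplicit false
set_option linter.unusedSectionVars false
universe w v u
open CategoryTheory Limits Opposite

namespace Groth.Agent.Cech

variable {D : Type u} [Category.{v} D] [HasFiniteProducts D] {ι : Type w} {U : ι → D}
  {P : Dᵒᵖ ⥤ AddCommGrpCat.{w}}

/-- the 0-cochain attached to a family of sections. -/
noncomputable def ofFam (x : ∀ i, P.obj (op (U i))) : (cx U P).X 0 :=
  mk (fun e => (P.map (Pi.π (U ∘ e) 0).op).hom (x (e 0)))

lemma sec0_ofFam (x : ∀ i, P.obj (op (U i))) (e : Fin 1 → ι) : sec0 (ofFam x) e = x (e 0) := by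
  unfold sec0 ofFam
  rw [comp_mk, ← AddCommGrpCat.comp_apply, ← Functor.map_comp, ← op_comp]
  have : (productUniqueIso (U ∘ e)).inv ≫ Pi.π (U ∘ e) 0 = 𝟙 _ := by
    have h := (productUniqueIso (U ∘ e)).inv_hom_id
    rw [productUniqueIso_hom] at h
    exact h
  rw [this]
  simp

lemma d_ofFam (x : ∀ i, P.obj (op (U i)))
    (hx : ∀ (i j : ι) (W : D) (a : W ⟶ U i) (b : W ⟶ U j),
      (P.map a.op).hom (x i) = (P.map b.op).hom (x j)) :
    ((cx U P).d 0 1).hom (ofFam x) = 0 := by
  apply cochain_ext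
  intro i₂
  rw [comp_d, Fin.sum_univ_two, comp_zero]
  simp only [Fin.val_zero, pow_zero, one_smul, Fin.val_one, pow_one, neg_smul]
  unfold ofFam
  rw [comp_mk, comp_mk, ← AddCommGrpCat.comp_apply, ← AddCommGrpCat.comp_apply,
    ← Functor.map_comp, ← Functor.map_comp, ← op_comp, ← op_comp]
  rw [hx _ _ _ (face U 0 i₂ ≫ Pi.π (U ∘ i₂ ∘ (0 : Fin 2).succAbove) 0)
    (face U 1 i₂ ≫ Pi.π (U ∘ i₂ ∘ (1 : Fin 2).succAbove) 0)]
  exact add_neg_cancel _

lemma exists_cycle (K : CochainComplex AddCommGrpCat.{w} ℕ) (c : K.X 0)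
    (hc : (K.d 0 1).hom c = 0) : ∃ z : K.cycles 0, (K.iCycles 0).hom z = c := by
  have hex : (ShortComplex.mk (K.iCycles 0) (K.d 0 1) (K.iCycles_d 0 1)).Exact :=
    ShortComplex.exact_of_f_is_kernel _ (K.cyclesIsKernel 0 1 (by simp))
  exact (ShortComplex.ab_exact_iff _).mp hex c hc

variable {T' : D} (q : ∀ i, U i ⟶ T')
  (hq : ∀ {W : D} {i j : ι} (a : W ⟶ U i) (b : W ⟶ U j), a ≫ q i = b ≫ q j)

lemma exists_aug_of_surjective (hs : Function.Surjective (toH0 q P hq).hom)
    (c : (cx U P).X 0) (hc : ((cx U P).d 0 1).hom c = 0) : ∃ s, c = aug (P := P) q s := by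
  have hπ : Function.Bijective ((cx U P).homologyπ 0).hom :=
    (ConcreteCategory.isIso_iff_bijective _).mp inferInstance
  obtain ⟨z, hz⟩ := exists_cycle (cx U P) c hc
  obtain ⟨s, hs'⟩ := hs (((cx U P).homologyπ 0).hom z)
  have h1 : (augCycles q P hq).hom s = z := hπ.1 hs'
  refine ⟨s, ?_⟩
  rw [← augHom_apply, ← augCycles_i q P hq, AddCommGrpCat.comp_apply, h1, hz]

lemma aug_injective_of_injective (hi : Function.Injective (toH0 q P hq).hom)
    (s s' : P.obj (op T')) (h : aug (P := P) q s = aug (P := P) q s') : s = s' := by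
  have hiC : Function.Injective ((cx U P).iCycles 0).hom :=
    (AddCommGrpCat.mono_iff_injective _).mp inferInstance
  apply hi
  show ((cx U P).homologyπ 0).hom ((augCycles q P hq).hom s) =
    ((cx U P).homologyπ 0).hom ((augCycles q P hq).hom s')
  congr 1
  apply hiC
  have e1 := ConcreteCategory.congr_hom (augCycles_i q P hq) s
  have e2 := ConcreteCategory.congr_hom (augCycles_i q P hq) s'
  rw [AddCommGrpCat.comp_apply] at e1 e2
  rw [e1, e2, augHom_apply, augHom_apply, h]

end Groth.Agent.Cech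

namespace Groth.Agent.CechEdgeLib

open Groth.Agent.Cech CechEdge

variable {C : Type u} [SmallCategory C] [HasPullbacks C] (J : GrothendieckTopology C)

theorem isSheaf_of_toCech_bijective (P : Cᵒᵖ ⥤ AddCommGrpCat.{u})
    (h : ∀ (U : C) (ι : Type u) (Y : ι → Over U),
      Sieve.ofArrows (fun i => (Y i).left) (fun i => (Y i).hom) ∈ J U →
        Function.Bijective (CechEdge.toCech Y P)) :
    Presheaf.IsSheaf J P := by
  rw [Presheaf.isSheaf_iff_isSheaf_forget J P (forget AddCommGrpCat.{u}), isSheaf_iff_isSheaf_of_type]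
  intro U S hS
  let ι : Type u := Σ V : C, {f : V ⟶ U // S f}
  let Y : ι → Over U := fun i => Over.mk i.2.1
  have hgen : Sieve.ofArrows (fun i => (Y i).left) (fun i => (Y i).hom) = S := by
    apply le_antisymm
    · rw [Sieve.ofArrows, Sieve.generate_le_iff]
      rintro V f ⟨i⟩
      exact i.2.2
    · intro V f hf
      exact Sieve.ofArrows_mk _ _ (⟨V, f, hf⟩ : ι)
  have hb := h U ι Y (hgen ▸ hS)
  rw [toCech_eq] at hb
  have key : (Presieve.ofArrows (fun i => (Y i).left) (fun i => (Y i).hom)).IsSheafFor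
      (P ⋙ forget AddCommGrpCat.{u}) := by
    rw [Presieve.isSheafFor_arrows_iff]
    intro x₀ hx
    let x : ∀ i, (ovr P).obj (op (Y i)) := x₀
    have hx' : ∀ (i j : ι) (W : Over U) (a : W ⟶ Y i) (b : W ⟶ Y j),
        ((ovr P).map a.op).hom (x i) = ((ovr P).map b.op).hom (x j) := by
      intro i j W a b
      exact hx i j W.left a.left b.left ((Over.w a).trans (Over.w b).symm)
    obtain ⟨s, hs⟩ := exists_aug_of_surjective (U := Y) (P := ovr P) (qOver Y) (hqOver Y) hb.2
      (ofFam (U := Y) (P := ovr P) x) (d_ofFam (U := Y) (P := ovr P) x hx')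
    have hres : ∀ t : P.obj (op U), (∀ i, (P.map (Y i).hom.op).hom t = x i) ↔
        aug (U := Y) (P := ovr P) (qOver Y) t = ofFam (U := Y) (P := ovr P) x := by
      intro t
      constructor
      · intro ht
        refine (eq_aug_of_sec0 (P := ovr P) (qOver Y) _ t (fun j => ?_)).symm
        rw [sec0_ofFam]
        exact (ht j).symm
      · intro ht i
        have := congrArg (fun z => sec0 z (fun _ => i)) ht
        simp only [sec0_aug, sec0_ofFam] at this
        exact this
    refine ⟨s, (hres s).mpr hs.symm, fun t ht => ?_⟩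
    exact aug_injective_of_injective (P := ovr P) (qOver Y) (hqOver Y) hb.1 t s
      (((hres t).mp ht).trans hs)
  have := (Presieve.isSheafFor_iff_generate _).mp key
  rw [show Sieve.generate (Presieve.ofArrows (fun i => (Y i).left) (fun i => (Y i).hom)) = S
    from hgen] at this
  exact this

end Groth.Agent.CechEdgeLib
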