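import Groth.Agent.Lib.CechBasic
set_option autoImplicit false
universe w v u
open CategoryTheory Limits Opposite Simplicial

namespace Groth.Agent.Cech

variable {D : Type u} [Category.{v} D] [HasFiniteProducts D] {ι : Type w} (U : ι → D)

lemma map_zero' (P Q : Dᵒᵖ ⥤ AddCommGrpCat.{w}) :
    (cechComplexFunctor U).map (0 : P ⟶ Q) = 0 := by
  ext n : 1
  apply hom_ext'
  intro i
  rw [map_proj]
  simp

/-- the short complex of Čech complexes attached to a short complex of presheaves. -/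
noncomputable def mapSC (T : ShortComplex (Dᵒᵖ ⥤ AddCommGrpCat.{w})) :
    ShortComplex (CochainComplex AddCommGrpCat.{w} ℕ) :=
  ShortComplex.mk ((cechComplexFunctor U).map T.f) ((cechComplexFunctor U).map T.g)
    (by rw [← Functor.map_comp, T.zero, map_zero'])

variable {U}

lemma comp_map_f (T : ShortComplex (Dᵒᵖ ⥤ AddCommGrpCat.{w})) {n : ℕ} (x : (cx U T.X₁).X n)
    (i : Fin (n + 1) → ι) :
    comp ((((mapSC U T).f).f n).hom x) i = (T.f.app (op (prodObj U i))).hom (comp x i) :=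
  comp_map U T.f x i

lemma comp_map_g (T : ShortComplex (Dᵒᵖ ⥤ AddCommGrpCat.{w})) {n : ℕ} (x : (cx U T.X₂).X n)
    (i : Fin (n + 1) → ι) :
    comp ((((mapSC U T).g).f n).hom x) i = (T.g.app (op (prodObj U i))).hom (comp x i) :=
  comp_map U T.g x i

/-- termwise short exactness. -/
theorem mapSC_shortExact (T : ShortComplex (Dᵒᵖ ⥤ AddCommGrpCat.{w}))
    (hf : ∀ (n : ℕ) (a : Fin (n + 1) → ι), Function.Injective (T.f.app (op (prodObj U a))).hom)
    (hfg : ∀ (n : ℕ) (a : Fin (n + 1) → ι) (y : T.X₂.obj (op (prodObj U a))),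
      (T.g.app (op (prodObj U a))).hom y = 0 → ∃ x, (T.f.app (op (prodObj U a))).hom x = y)
    (hg : ∀ (n : ℕ) (a : Fin (n + 1) → ι), Function.Surjective (T.g.app (op (prodObj U a))).hom) :
    (mapSC U T).ShortExact := by
  apply HomologicalComplex.shortExact_of_degreewise_shortExact
  intro n
  have hmono : Mono (((mapSC U T).map (HomologicalComplex.eval _ _ n)).f) := by
    rw [AddCommGrpCat.mono_iff_injective]
    intro (x : (cx U T.X₁).X n) (y : (cx U T.X₁).X n)
      (hxy : (((mapSC U T).f).f n).hom x = (((mapSC U T).f).f n).hom y)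
    apply cochain_ext
    intro i
    apply hf n i
    rw [← comp_map_f, ← comp_map_f, hxy]
  have hepi : Epi (((mapSC U T).map (HomologicalComplex.eval _ _ n)).g) := by
    rw [AddCommGrpCat.epi_iff_surjective]
    intro (z : (cx U T.X₃).X n)
    choose y hy using fun i => hg n i (comp z i)
    refine ⟨(mk y : (cx U T.X₂).X n), ?_⟩
    apply cochain_ext
    intro i
    show comp ((((mapSC U T).g).f n).hom (mk y)) i = _
    rw [comp_map_g, comp_mk, hy]
  refine ShortComplex.ShortExact.mk ?_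
  rw [ShortComplex.ab_exact_iff]
  intro (y : (cx U T.X₂).X n) (hy : (((mapSC U T).g).f n).hom y = 0)
  have h1 : ∀ i, ∃ x, (T.f.app (op (prodObj U i))).hom x = comp y i := by
    intro i
    apply hfg n i
    rw [← comp_map_g, hy]
    exact comp_zero i
  choose x hx using h1
  refine ⟨(mk x : (cx U T.X₁).X n), ?_⟩
  apply cochain_ext
  intro i
  show comp ((((mapSC U T).f).f n).hom (mk x)) i = _
  rw [comp_map_f, comp_mk, hx]


lemma comm_apply {K L : CochainComplex AddCommGrpCat.{w} ℕ} (φ : K ⟶ L) (i j : ℕ) (x : K.X i) :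
    (L.d i j).hom ((φ.f i).hom x) = (φ.f j).hom ((K.d i j).hom x) :=
  (ConcreteCategory.congr_hom (φ.comm i j) x)

lemma d_d_apply (K : CochainComplex AddCommGrpCat.{w} ℕ) (i j k : ℕ) (x : K.X i) :
    (K.d j k).hom ((K.d i j).hom x) = 0 :=
  (ConcreteCategory.congr_hom (K.d_comp_d i j k) x)

/-- the key step in the "H¹-vanishing gives surjectivity" argument. -/
theorem exists_cocycle_correction (T : ShortComplex (Dᵒᵖ ⥤ AddCommGrpCat.{w}))
    (hf : ∀ (a : Fin 3 → ι), Function.Injective (T.f.app (op (prodObj U a))).hom)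
    (hfg : ∀ (a : Fin 2 → ι) (y : T.X₂.obj (op (prodObj U a))),
      (T.g.app (op (prodObj U a))).hom y = 0 → ∃ x, (T.f.app (op (prodObj U a))).hom x = y)
    (hH1 : IsZero ((cx U T.X₁).homology 1))
    (t : (cx U T.X₂).X 0)
    (ht : ((cx U T.X₃).d 0 1).hom ((((cechComplexFunctor U).map T.g).f 0).hom t) = 0) :
    ∃ b : (cx U T.X₁).X 0,
      ((cx U T.X₂).d 0 1).hom (t - (((cechComplexFunctor U).map T.f).f 0).hom b) = 0 := by
  have h1 : (((cechComplexFunctor U).map T.g).f 1).hom (((cx U T.X₂).d 0 1).hom t) = 0 := by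
    rw [← comm_apply ((cechComplexFunctor U).map T.g) 0 1 t]
    exact ht
  have h2 : ∀ i, ∃ c, (T.f.app (op (prodObj U i))).hom c = comp (((cx U T.X₂).d 0 1).hom t) i := by
    intro i
    apply hfg i
    rw [← comp_map, h1]
    exact comp_zero i
  choose c hc using h2
  have h3 : (((cechComplexFunctor U).map T.f).f 1).hom (mk c : (cx U T.X₁).X 1) =
      ((cx U T.X₂).d 0 1).hom t := by
    apply cochain_ext
    intro i
    rw [comp_map, comp_mk, hc]
  have h4 : ((cx U T.X₁).d 1 2).hom (mk c : (cx U T.X₁).X 1) = 0 := by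
    apply cochain_ext
    intro i
    apply hf i
    rw [← comp_map, ← comm_apply ((cechComplexFunctor U).map T.f) 1 2, h3, d_d_apply, comp_zero,
      comp_zero, map_zero]
  obtain ⟨b, hb⟩ := (isZero_homology_succ_iff U T.X₁ 0).mp hH1 (mk c) h4
  refine ⟨b, ?_⟩
  rw [map_sub, comm_apply ((cechComplexFunctor U).map T.f) 0 1 b, hb, h3, sub_self]


section Zero

variable {P : Dᵒᵖ ⥤ AddCommGrpCat.{w}}

/-- the section over `U (e 0)` attached to a 0-cochain. -/
noncomputable def sec0 (x : (cx U P).X 0) (e : Fin 1 → ι) : P.obj (op (U (e 0))) :=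
  (P.map (productUniqueIso (U ∘ e)).inv.op).hom (comp x e)

lemma comp_eq_map_sec0 (x : (cx U P).X 0) (e : Fin 1 → ι) :
    comp x e = (P.map (Pi.π (U ∘ e) 0).op).hom (sec0 x e) := by
  unfold sec0
  rw [← AddCommGrpCat.comp_apply, ← Functor.map_comp, ← op_comp]
  have : Pi.π (U ∘ e) 0 ≫ (productUniqueIso (U ∘ e)).inv = 𝟙 _ := (productUniqueIso (U ∘ e)).hom_inv_id
  rw [this]
  simp

lemma cocycle (x : (cx U P).X 0) (hx : ((cx U P).d 0 1).hom x = 0) (i₂ : Fin 2 → ι) :
    (P.map (Pi.π (U ∘ i₂) 1).op).hom (sec0 x (i₂ ∘ (0 : Fin 2).succAbove)) =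
      (P.map (Pi.π (U ∘ i₂) 0).op).hom (sec0 x (i₂ ∘ (1 : Fin 2).succAbove)) := by
  have h := comp_d x i₂
  rw [hx, comp_zero, Fin.sum_univ_two] at h
  simp only [Fin.val_zero, pow_zero, one_smul, Fin.val_one, pow_one, neg_smul] at h
  rw [comp_eq_map_sec0, comp_eq_map_sec0, ← AddCommGrpCat.comp_apply, ← AddCommGrpCat.comp_apply,
    ← Functor.map_comp, ← Functor.map_comp, ← op_comp, ← op_comp] at h
  have e0 : face U 0 i₂ ≫ Pi.π (U ∘ i₂ ∘ (0 : Fin 2).succAbove) 0 = Pi.π (U ∘ i₂) 1 := Pi.lift_π _ _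
  have e1 : face U 1 i₂ ≫ Pi.π (U ∘ i₂ ∘ (1 : Fin 2).succAbove) 0 = Pi.π (U ∘ i₂) 0 := Pi.lift_π _ _
  rw [e0, e1] at h
  exact (sub_eq_zero.mp (by rw [sub_eq_add_neg]; exact h.symm))


/-- the pairing map into a binary product of members. -/
noncomputable def pairTo {W : D} {i j : ι} (a : W ⟶ U i) (b : W ⟶ U j) : W ⟶ prodObj U ![i, j] :=
  Pi.lift (fun k : Fin 2 => Fin.cases (motive := fun k => W ⟶ U (![i, j] k)) a
    (fun k' => Fin.cases (motive := fun k' => W ⟶ U (![i, j] k'.succ)) b (fun z => z.elim0) k') k)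

lemma pairTo_π0 {W : D} {i j : ι} (a : W ⟶ U i) (b : W ⟶ U j) :
    pairTo a b ≫ Pi.π (U ∘ ![i, j]) 0 = a := Pi.lift_π _ _

lemma pairTo_π1 {W : D} {i j : ι} (a : W ⟶ U i) (b : W ⟶ U j) :
    pairTo a b ≫ Pi.π (U ∘ ![i, j]) 1 = b := Pi.lift_π _ _

lemma sec0_congr (x : (cx U P).X 0) {e e' : Fin 1 → ι} (h : e = e') :
    HEq (sec0 x e) (sec0 x e') := by
  subst h
  rfl

lemma compatible (x : (cx U P).X 0) (hx : ((cx U P).d 0 1).hom x = 0) {W : D} {i j : ι}
    (a : W ⟶ U i) (b : W ⟶ U j) :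
    (P.map a.op).hom (sec0 x (fun _ => i)) = (P.map b.op).hom (sec0 x (fun _ => j)) := by
  have h := cocycle x hx ![i, j]
  have h0 : (![i, j] ∘ (0 : Fin 2).succAbove) = fun _ => j := by
    funext b
    fin_cases b
    rfl
  have h1 : (![i, j] ∘ (1 : Fin 2).succAbove) = fun _ => i := by
    funext b
    fin_cases b
    rfl
  have s0 : sec0 x (![i, j] ∘ (0 : Fin 2).succAbove) = sec0 x (fun _ => j) :=
    eq_of_heq (sec0_congr x h0)
  have s1 : sec0 x (![i, j] ∘ (1 : Fin 2).succAbove) = sec0 x (fun _ => i) :=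
    eq_of_heq (sec0_congr x h1)
  rw [s0, s1] at h
  have h' := congrArg (P.map (pairTo a b).op).hom h
  rw [← AddCommGrpCat.comp_apply, ← AddCommGrpCat.comp_apply, ← Functor.map_comp,
    ← Functor.map_comp, ← op_comp, ← op_comp, pairTo_π0, pairTo_π1] at h'
  exact h'.symm


lemma sec0_map {P Q : Dᵒᵖ ⥤ AddCommGrpCat.{w}} (φ : P ⟶ Q) (x : (cx U P).X 0) (e : Fin 1 → ι) :
    sec0 ((((cechComplexFunctor U).map φ).f 0).hom x) e = (φ.app (op (U (e 0)))).hom (sec0 x e) := by
  unfold sec0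
  rw [comp_map]
  exact (ConcreteCategory.congr_hom (φ.naturality (productUniqueIso (U ∘ e)).inv.op) (comp x e)).symm

section Aug

variable {T' : D} (q : ∀ i, U i ⟶ T')

/-- the augmentation. -/
noncomputable def aug (s : P.obj (op T')) : (cx U P).X 0 :=
  mk (fun e => (P.map (Pi.π (U ∘ e) 0 ≫ q (e 0)).op).hom s)

lemma comp_aug (s : P.obj (op T')) (e : Fin 1 → ι) :
    comp (aug q s) e = (P.map (Pi.π (U ∘ e) 0 ≫ q (e 0)).op).hom s := comp_mk _ _

lemma sec0_aug (s : P.obj (op T')) (e : Fin 1 → ι) :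
    sec0 (aug q s) e = (P.map (q (e 0)).op).hom s := by
  unfold sec0
  rw [comp_aug, ← AddCommGrpCat.comp_apply, ← Functor.map_comp, ← op_comp]
  have : (productUniqueIso (U ∘ e)).inv ≫ Pi.π (U ∘ e) 0 ≫ q (e 0) = q (e 0) := by
    have h := (productUniqueIso (U ∘ e)).inv_hom_id
    rw [productUniqueIso_hom] at h
    exact (Category.assoc _ _ _).symm.trans ((congrArg (· ≫ q (e 0)) h).trans (Category.id_comp _))
  rw [this]

lemma d_aug (hq : ∀ {W : D} {i j : ι} (a : W ⟶ U i) (b : W ⟶ U j), a ≫ q i = b ≫ q j)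
    (s : P.obj (op T')) : ((cx U P).d 0 1).hom (aug q s) = 0 := by
  apply cochain_ext
  intro i₂
  rw [comp_d, Fin.sum_univ_two, comp_zero]
  simp only [Fin.val_zero, pow_zero, one_smul, Fin.val_one, pow_one, neg_smul]
  rw [comp_aug, comp_aug, ← AddCommGrpCat.comp_apply, ← AddCommGrpCat.comp_apply,
    ← Functor.map_comp, ← Functor.map_comp, ← op_comp, ← op_comp]
  have := hq (face U 0 i₂ ≫ Pi.π (U ∘ i₂ ∘ (0 : Fin 2).succAbove) 0)
    (face U 1 i₂ ≫ Pi.π (U ∘ i₂ ∘ (1 : Fin 2).succAbove) 0)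
  rw [Category.assoc, Category.assoc] at this
  rw [this]
  exact add_neg_cancel _

lemma map_aug {P Q : Dᵒᵖ ⥤ AddCommGrpCat.{w}} (φ : P ⟶ Q) (s : P.obj (op T')) :
    (((cechComplexFunctor U).map φ).f 0).hom (aug q s) = aug q ((φ.app (op T')).hom s) := by
  apply cochain_ext
  intro e
  rw [comp_map, comp_aug, comp_aug]
  exact (ConcreteCategory.congr_hom (φ.naturality (Pi.π (U ∘ e) 0 ≫ q (e 0)).op) s)

lemma eq_aug_of_sec0 (x : (cx U P).X 0) (s : P.obj (op T'))
    (h : ∀ j, sec0 x (fun _ => j) = (P.map (q j).op).hom s) : x = aug q s := by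
  apply cochain_ext
  intro e
  have he : e = fun _ => e 0 := by
    funext b
    rw [Fin.fin_one_eq_zero b]
  have h1 : sec0 x e = sec0 x (fun _ => e 0) := eq_of_heq (sec0_congr x he)
  rw [comp_eq_map_sec0, comp_aug, h1, h, ← AddCommGrpCat.comp_apply, ← Functor.map_comp, ← op_comp]

end Aug

end Zero

end Groth.Agent.Cech
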