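import Mathlib
set_option autoImplicit false
universe w w' v v' u u'
open CategoryTheory Limits Abelian

namespace Groth.Agent.ExtCompare

variable {𝒜 : Type u} [Category.{v} 𝒜] [Abelian 𝒜] [HasExt.{w} 𝒜]

/-- connecting map `Ext^n(A, S.X₃) → Ext^{n+1}(A, S.X₁)`. -/
noncomputable abbrev δ {S : ShortComplex 𝒜} (hS : S.ShortExact) (A : 𝒜) (n : ℕ) :
    Ext A S.X₃ n →+ Ext A S.X₁ (n + 1) :=
  hS.extClass.postcomp A rfl

lemma δ_apply {S : ShortComplex 𝒜} (hS : S.ShortExact) (A : 𝒜) (n : ℕ) (x : Ext A S.X₃ n) :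
    δ hS A n x = x.comp hS.extClass rfl := rfl

/-- if `Ext^{n+1}(A, S.X₂) = 0 = Ext^{n+2}(A, S.X₂)`, the connecting map in degree `n+1` is bijective. -/
lemma δ_bijective {S : ShortComplex 𝒜} (hS : S.ShortExact) (A : 𝒜) (n : ℕ)
    (h1 : ∀ x : Ext A S.X₂ (n + 1), x = 0) (h2 : ∀ x : Ext A S.X₂ (n + 2), x = 0) :
    Function.Bijective (δ hS A (n + 1)) := by
  constructor
  · rw [injective_iff_map_eq_zero]
    intro x hx
    obtain ⟨x₂, rfl⟩ := Ext.covariant_sequence_exact₃ A hS x rfl hx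
    rw [h1 x₂, Ext.zero_comp]
  · intro y
    exact Ext.covariant_sequence_exact₁ A hS y (h2 _) rfl

/-- if `Ext^1(A, S.X₂) = 0`, the connecting map in degree `0` is surjective. -/
lemma δ_surjective {S : ShortComplex 𝒜} (hS : S.ShortExact) (A : 𝒜)
    (h1 : ∀ x : Ext A S.X₂ 1, x = 0) : Function.Surjective (δ hS A 0) := by
  intro y
  exact Ext.covariant_sequence_exact₁ A hS y (h1 _) rfl

lemma δ_ker {S : ShortComplex 𝒜} (hS : S.ShortExact) (A : 𝒜) (q : A ⟶ S.X₃) :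
    δ hS A 0 (Ext.mk₀ q) = 0 ↔ ∃ b : A ⟶ S.X₂, b ≫ S.g = q := by
  constructor
  · intro h
    obtain ⟨x₂, hx₂⟩ := Ext.covariant_sequence_exact₃ A hS (Ext.mk₀ q) rfl h
    obtain ⟨b, rfl⟩ := (Ext.mk₀_bijective _ _).surjective x₂
    rw [Ext.mk₀_comp_mk₀] at hx₂
    exact ⟨b, (Ext.mk₀_bijective _ _).injective hx₂⟩
  · rintro ⟨b, rfl⟩
    rw [δ_apply, ← Ext.mk₀_comp_mk₀, Ext.comp_assoc_of_second_deg_zero, hS.comp_extClass,
      Ext.comp_zero]

section Compare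

variable [EnoughInjectives 𝒜] {ℬ : Type u'} [Category.{v'} ℬ] [Abelian ℬ] [HasExt.{w'} ℬ]
  (Φ : 𝒜 ⥤ ℬ) [Φ.Additive] [PreservesFiniteLimits Φ] [PreservesFiniteColimits Φ]
  (A : 𝒜) (B : ℬ)
  (θ : ∀ F : 𝒜, (A ⟶ F) ≃ (B ⟶ Φ.obj F))
  (hθ : ∀ {F G : 𝒜} (a : A ⟶ F) (φ : F ⟶ G), θ G (a ≫ φ) = θ F a ≫ Φ.map φ)
  (hacyc : ∀ (I : 𝒜) [Injective I] (m : ℕ) (x : Ext B (Φ.obj I) (m + 1)), x = 0)

/-- The short complex `0 → F → I(F) → Q → 0`. -/
noncomputable def injSC (F : 𝒜) : ShortComplex 𝒜 :=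
  ShortComplex.mk (Injective.ι F) (cokernel.π (Injective.ι F)) (cokernel.condition _)

omit [HasExt.{w} 𝒜] in
lemma injSC_shortExact (F : 𝒜) : (injSC F).ShortExact := by
  have : Mono (injSC F).f := by dsimp [injSC]; infer_instance
  have : Epi (injSC F).g := by dsimp [injSC]; infer_instance
  exact ShortComplex.ShortExact.mk (ShortComplex.exact_cokernel (Injective.ι F))

instance injSC_X₂_injective (F : 𝒜) : Injective (injSC F).X₂ := by
  dsimp [injSC]; infer_instance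

omit [HasExt.{w} 𝒜] [EnoughInjectives 𝒜] [HasExt.{w'} ℬ] [PreservesFiniteLimits Φ]
  [PreservesFiniteColimits Φ] in
include hθ in
/-- a natural bijection between additive functors is additive. -/
lemma θ_add (F : 𝒜) (a b : A ⟶ F) : θ F (a + b) = θ F a + θ F b := by
  have h : a + b = biprod.lift a b ≫ (biprod.fst + biprod.snd) := by
    rw [Preadditive.comp_add, biprod.lift_fst, biprod.lift_snd]
  rw [h, hθ, Functor.map_add, Preadditive.comp_add, ← hθ, ← hθ, biprod.lift_fst, biprod.lift_snd]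

/-- the additive version of `θ`. -/
noncomputable def θAdd (hθ : ∀ {F G : 𝒜} (a : A ⟶ F) (φ : F ⟶ G), θ G (a ≫ φ) = θ F a ≫ Φ.map φ)
    (F : 𝒜) : (A ⟶ F) ≃+ (B ⟶ Φ.obj F) :=
  { θ F with map_add' := θ_add Φ A B θ hθ F }

include hθ hacyc in
theorem compare_one (F : 𝒜) : Nonempty (Ext A F 1 ≃+ Ext B (Φ.obj F) 1) := by
  let S := injSC F
  have hS : S.ShortExact := injSC_shortExact F
  have hS' : (S.map Φ).ShortExact := hS.map_of_exact Φ
  let δA : (A ⟶ S.X₃) →+ Ext A S.X₁ 1 :=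
    (δ hS A 0).comp (Ext.addEquiv₀.symm : (A ⟶ S.X₃) ≃+ Ext A S.X₃ 0).toAddMonoidHom
  let δB : (B ⟶ (S.map Φ).X₃) →+ Ext B (S.map Φ).X₁ 1 :=
    (δ hS' B 0).comp
      (Ext.addEquiv₀.symm : (B ⟶ (S.map Φ).X₃) ≃+ Ext B (S.map Φ).X₃ 0).toAddMonoidHom
  have hδA : Function.Surjective δA :=
    (δ_surjective hS A (fun x => Ext.eq_zero_of_injective x)).comp
      (Ext.addEquiv₀.symm : (A ⟶ S.X₃) ≃+ Ext A S.X₃ 0).surjective
  have hδB : Function.Surjective δB :=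
    (δ_surjective hS' B (fun x => hacyc S.X₂ 0 x)).comp
      (Ext.addEquiv₀.symm : (B ⟶ (S.map Φ).X₃) ≃+ Ext B (S.map Φ).X₃ 0).surjective
  have hkerA : ∀ q : A ⟶ S.X₃, δA q = 0 ↔ ∃ b : A ⟶ S.X₂, b ≫ S.g = q := fun q => δ_ker hS A q
  have hkerB : ∀ q : B ⟶ (S.map Φ).X₃, δB q = 0 ↔ ∃ b : B ⟶ (S.map Φ).X₂, b ≫ (S.map Φ).g = q :=
    fun q => δ_ker hS' B q
  have hker : (δA.ker).map (θAdd Φ A B θ hθ S.X₃ : (A ⟶ S.X₃) →+ (B ⟶ Φ.obj S.X₃)) = δB.ker := by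
    ext y
    simp only [AddSubgroup.mem_map, AddMonoidHom.mem_ker]
    constructor
    · rintro ⟨q, hq, rfl⟩
      obtain ⟨b, rfl⟩ := (hkerA q).mp hq
      exact (hkerB _).mpr ⟨θ S.X₂ b, (hθ b S.g).symm⟩
    · intro hy
      obtain ⟨b', hb'⟩ := (hkerB y).mp hy
      refine ⟨(θ S.X₂).symm b' ≫ S.g, (hkerA _).mpr ⟨_, rfl⟩, ?_⟩
      show θ S.X₃ ((θ S.X₂).symm b' ≫ S.g) = y
      rw [hθ, Equiv.apply_symm_apply]
      exact hb'
  exact ⟨(QuotientAddGroup.quotientKerEquivOfSurjective δA hδA).symm.trans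
    ((QuotientAddGroup.congr δA.ker δB.ker (θAdd Φ A B θ hθ S.X₃) hker).trans
      (QuotientAddGroup.quotientKerEquivOfSurjective δB hδB))⟩

include hθ hacyc in
theorem compare_succ : ∀ (n : ℕ) (F : 𝒜), Nonempty (Ext A F (n + 1) ≃+ Ext B (Φ.obj F) (n + 1)) := by
  intro n
  induction n with
  | zero => exact compare_one Φ A B θ hθ hacyc
  | succ n ih =>
    intro F
    let S := injSC F
    have hS : S.ShortExact := injSC_shortExact F
    have hS' : (S.map Φ).ShortExact := hS.map_of_exact Φ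
    obtain ⟨e⟩ := ih S.X₃
    have hA := δ_bijective hS A n (fun x => Ext.eq_zero_of_injective x)
      (fun x => Ext.eq_zero_of_injective x)
    have hB := δ_bijective hS' B n (fun x => hacyc S.X₂ n x) (fun x => hacyc S.X₂ (n + 1) x)
    exact ⟨(AddEquiv.ofBijective _ hA).symm.trans (e.trans (AddEquiv.ofBijective _ hB))⟩

include hθ hacyc in
/-- **Comparison of Ext groups by dimension shifting.** -/
theorem compare (n : ℕ) (F : 𝒜) : Nonempty (Ext A F n ≃+ Ext B (Φ.obj F) n) := by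
  cases n with
  | zero => exact ⟨Ext.addEquiv₀.trans ((θAdd Φ A B θ hθ F).trans Ext.addEquiv₀.symm)⟩
  | succ n => exact compare_succ Φ A B θ hθ hacyc n F

end Compare

end Groth.Agent.ExtCompare
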