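import Groth.Agent.Lib.CohSiteBasics
import Groth.Agent.Lib.ExtCompare
set_option autoImplicit false
universe u
open CategoryTheory Limits Opposite Abelian

namespace Groth.Agent.Cech

open Groth.Agent.CohSiteBasics Groth.Agent.ExtCompare

variable {C : Type u} [SmallCategory C] {J : GrothendieckTopology C}

lemma secEquiv_eq (U : C) (F : Sheaf J AddCommGrpCat.{u}) (a : freeSheaf J U ⟶ F) :
    secEquiv U F a = (a.hom.app (op U)).hom (secEquiv U (freeSheaf J U) (𝟙 _)) := by
  have := secEquiv_comp U (𝟙 (freeSheaf J U)) a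
  rw [Category.id_comp] at this
  exact this

lemma secEquiv_add (U : C) (F : Sheaf J AddCommGrpCat.{u}) (a b : freeSheaf J U ⟶ F) :
    secEquiv U F (a + b) = secEquiv U F a + secEquiv U F b := by
  rw [secEquiv_eq, secEquiv_eq U F a, secEquiv_eq U F b]
  rfl

/-- `secEquiv` as an additive equivalence. -/
noncomputable def secAddEquiv (U : C) (F : Sheaf J AddCommGrpCat.{u}) :
    (freeSheaf J U ⟶ F) ≃+ F.obj.obj (op U) :=
  { secEquiv U F with map_add' := secEquiv_add U F }

lemma secAddEquiv_apply (U : C) (F : Sheaf J AddCommGrpCat.{u}) (a : freeSheaf J U ⟶ F) :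
    secAddEquiv U F a = secEquiv U F a := rfl

/-- `H⁰(U, F) ≃+ F(U)`. -/
noncomputable def H0Equiv (U : C) (F : Sheaf J AddCommGrpCat.{u}) :
    CohSite.HU F 0 U ≃+ F.obj.obj (op U) :=
  (Ext.addEquiv₀ (X := freeSheaf J U) (Y := F)).trans (secAddEquiv U F)

variable (S : ShortComplex (Sheaf J AddCommGrpCat.{u})) (hS : S.ShortExact) (U : C)

/-- the connecting map from sections of the quotient to `H¹` of the kernel. -/
noncomputable def conn : S.X₃.obj.obj (op U) →+ Ext (freeSheaf J U) S.X₁ 1 :=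
  (δ hS (freeSheaf J U) 0).comp
    ((Ext.addEquiv₀ (X := freeSheaf J U) (Y := S.X₃)).symm.toAddMonoidHom.comp
      (secAddEquiv U S.X₃).symm.toAddMonoidHom)

lemma conn_apply (s : S.X₃.obj.obj (op U)) :
    conn S hS U s = δ hS (freeSheaf J U) 0 (Ext.mk₀ ((secEquiv U S.X₃).symm s)) := rfl

lemma conn_eq_zero_iff (s : S.X₃.obj.obj (op U)) :
    conn S hS U s = 0 ↔ ∃ t : S.X₂.obj.obj (op U), (S.g.hom.app (op U)).hom t = s := by
  rw [conn_apply]
  refine (δ_ker hS (freeSheaf J U) ((secEquiv U S.X₃).symm s)).trans ?_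
  constructor
  · rintro ⟨b, hb⟩
    refine ⟨secEquiv U S.X₂ b, ?_⟩
    have := secEquiv_comp U b S.g
    rw [hb, Equiv.apply_symm_apply] at this
    exact this.symm
  · rintro ⟨t, ht⟩
    refine ⟨(secEquiv U S.X₂).symm t, ?_⟩
    apply (secEquiv U S.X₃).injective
    rw [secEquiv_comp, Equiv.apply_symm_apply, Equiv.apply_symm_apply]
    exact ht

lemma conn_surjective [Injective S.X₂] : Function.Surjective (conn S hS U) := by
  intro x
  obtain ⟨y, hy⟩ := δ_surjective hS (freeSheaf J U) (fun x => Ext.eq_zero_of_injective x) x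
  obtain ⟨q, rfl⟩ := (Ext.mk₀_bijective _ _).surjective y
  refine ⟨secEquiv U S.X₃ q, ?_⟩
  rw [conn_apply, Equiv.symm_apply_apply]
  exact hy

include hS in
/-- if `H¹(U, S.X₁) = 0` then sections of `S.X₂` surject onto those of `S.X₃`. -/
lemma surjective_of_H1_subsingleton (h : Subsingleton (CohSite.HU S.X₁ 1 U)) :
    Function.Surjective (S.g.hom.app (op U)).hom := by
  intro s
  have h' : Subsingleton (Ext (freeSheaf J U) S.X₁ 1) := h
  exact (conn_eq_zero_iff S hS U s).mp (Subsingleton.elim _ _)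

include hS in
/-- if sections of the injective `S.X₂` surject onto those of `S.X₃` then `H¹(U, S.X₁) = 0`. -/
lemma H1_subsingleton_of_surjective [Injective S.X₂]
    (h : Function.Surjective (S.g.hom.app (op U)).hom) : Subsingleton (CohSite.HU S.X₁ 1 U) := by
  refine subsingleton_of_forall_eq 0 (fun (x : Ext (freeSheaf J U) S.X₁ 1) => ?_)
  obtain ⟨s, rfl⟩ := conn_surjective S hS U x
  exact (conn_eq_zero_iff S hS U s).mpr (h s)

/-- dimension shifting. -/
noncomputable def shiftEquiv [Injective S.X₂] (p : ℕ) :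
    Ext (freeSheaf J U) S.X₃ (p + 1) ≃+ Ext (freeSheaf J U) S.X₁ (p + 2) :=
  AddEquiv.ofBijective (δ hS (freeSheaf J U) (p + 1))
    (δ_bijective hS (freeSheaf J U) p (fun x => Ext.eq_zero_of_injective x)
      (fun x => Ext.eq_zero_of_injective x))

end Groth.Agent.Cech
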