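import Groth.Agent.Lib.CechExact
set_option autoImplicit false
universe w v u
open CategoryTheory Limits Opposite

namespace Groth.Agent.Cech

variable {D : Type u} [Category.{v} D] [HasFiniteProducts D] {ι : Type w} {U : ι → D}

/-- abstract form of the "H¹-vanishing gives surjectivity" argument. -/
theorem exists_lift_of_H1 (T : ShortComplex (Dᵒᵖ ⥤ AddCommGrpCat.{w})) {T' : D}
    (q : ∀ i, U i ⟶ T')
    (hq : ∀ {W : D} {i j : ι} (a : W ⟶ U i) (b : W ⟶ U j), a ≫ q i = b ≫ q j)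
    (hf : ∀ (a : Fin 3 → ι), Function.Injective (T.f.app (op (prodObj U a))).hom)
    (hfg : ∀ (a : Fin 2 → ι) (y : T.X₂.obj (op (prodObj U a))),
      (T.g.app (op (prodObj U a))).hom y = 0 → ∃ x, (T.f.app (op (prodObj U a))).hom x = y)
    (hH1 : IsZero ((cx U T.X₁).homology 1))
    (hglue : ∀ x : (cx U T.X₂).X 0, ((cx U T.X₂).d 0 1).hom x = 0 →
      ∃ τ : T.X₂.obj (op T'), x = aug (P := T.X₂) q τ)
    (hinj : ∀ s s' : T.X₃.obj (op T'), aug (P := T.X₃) q s = aug (P := T.X₃) q s' → s = s')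
    (s : T.X₃.obj (op T')) (t : ∀ i, T.X₂.obj (op (U i)))
    (ht : ∀ i, (T.g.app (op (U i))).hom (t i) = (T.X₃.map (q i).op).hom s) :
    ∃ τ : T.X₂.obj (op T'), (T.g.app (op T')).hom τ = s := by
  let t0 : (cx U T.X₂).X 0 := mk (fun e => (T.X₂.map (Pi.π (U ∘ e) 0).op).hom (t (e 0)))
  have ht0 : (((cechComplexFunctor U).map T.g).f 0).hom t0 = aug (P := T.X₃) q s := by
    apply cochain_ext
    intro e
    rw [comp_map, comp_mk, comp_aug]
    have h1 := ConcreteCategory.congr_hom (T.g.naturality (Pi.π (U ∘ e) 0).op) (t (e 0))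
    refine h1.trans ?_
    rw [AddCommGrpCat.comp_apply]
    refine (congrArg _ (ht (e 0))).trans ?_
    rw [← AddCommGrpCat.comp_apply, ← Functor.map_comp, ← op_comp]
  obtain ⟨b, hb⟩ := exists_cocycle_correction (U := U) T hf hfg hH1 t0
    (by rw [ht0]; exact d_aug (P := T.X₃) q hq s)
  obtain ⟨τ, hτ⟩ := hglue _ hb
  refine ⟨τ, ?_⟩
  apply hinj
  have h2 := congrArg (((cechComplexFunctor U).map T.g).f 0).hom hτ
  have h3 : (((cechComplexFunctor U).map T.g).f 0).hom
      ((((cechComplexFunctor U).map T.f).f 0).hom b) = 0 := by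
    rw [← AddCommGrpCat.comp_apply, ← HomologicalComplex.comp_f, ← Functor.map_comp,
      T.zero, map_zero']
    rfl
  rw [map_sub, ht0, h3, sub_zero] at h2
  exact (h2.trans (map_aug (P := T.X₂) (Q := T.X₃) q T.g τ)).symm

end Groth.Agent.Cech
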