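import Groth.Agent.Lib.CechInj
set_option autoImplicit false
universe w
open CategoryTheory Limits Opposite

namespace Groth.Agent.Cech

section BigMap

variable {D D' : Type w} [SmallCategory D] [SmallCategory D'] [HasFiniteProducts D]
  (G : D ⥤ D') [PreservesFiniteProducts G]
  (P : D'ᵒᵖ ⥤ AddCommGrpCat.{w}) {ι : Type w} (U : ι → D)

/-- maps from `V` into the image of some member of the family. -/
abbrev SVm (V : D') : Type w := Σ j : ι, (V ⟶ G.obj (U j))

/-- index tuple of a tuple of points. -/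
abbrev idxm {V : D'} {n : ℕ} (s : Fin (n + 1) → SVm G U V) : Fin (n + 1) → ι := fun a => (s a).1

/-- the image of the product cone is a limit cone. -/
noncomputable def isLimMap {n : ℕ} (i : Fin (n + 1) → ι) :
    IsLimit (Fan.mk _ fun a : Fin (n + 1) => G.map (Pi.π (U ∘ i) a) :
      Fan fun a => G.obj ((U ∘ i) a)) :=
  isLimitOfHasProductOfPreservesLimit G (U ∘ i)

/-- the induced map to the image of the product. -/
noncomputable def toProdm {V : D'} {n : ℕ} (s : Fin (n + 1) → SVm G U V) :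
    V ⟶ G.obj (prodObj U (idxm G U s)) :=
  Fan.IsLimit.lift (isLimMap G U (idxm G U s)) (fun a => (s a).2)

lemma toProdm_π {V : D'} {n : ℕ} (s : Fin (n + 1) → SVm G U V) (a : Fin (n + 1)) :
    toProdm G U s ≫ G.map (Pi.π (U ∘ idxm G U s) a) = (s a).2 :=
  Fan.IsLimit.fac (isLimMap G U (idxm G U s)) (fun a => (s a).2) a

lemma hom_ext_map {V : D'} {n : ℕ} (i : Fin (n + 1) → ι) {f g : V ⟶ G.obj (prodObj U i)}
    (h : ∀ a, f ≫ G.map (Pi.π (U ∘ i) a) = g ≫ G.map (Pi.π (U ∘ i) a)) : f = g :=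
  Fan.IsLimit.hom_ext (isLimMap G U i) _ _ h

/-- the comparison map to the combinatorial complex. -/
noncomputable def Phim (n : ℕ) :
    (cx U (G.op ⋙ bigG P)).X n →+ (∀ V : D', (Fin (n + 1) → SVm G U V) → P.obj (op V)) where
  toFun x V s := comp x (idxm G U s) V (toProdm G U s)
  map_zero' := by
    funext V s
    rw [comp_zero]
    rfl
  map_add' x y := by
    funext V s
    rw [comp_add]
    rfl

lemma Phim_apply {n : ℕ} (x : (cx U (G.op ⋙ bigG P)).X n) (V : D')
    (s : Fin (n + 1) → SVm G U V) :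
    Phim G P U n x V s = comp x (idxm G U s) V (toProdm G U s) := rfl

lemma toProdm_eq {V : D'} {n : ℕ} (i : Fin (n + 1) → ι) (g : V ⟶ G.obj (prodObj U i)) :
    toProdm G U (fun a => (⟨i a, g ≫ G.map (Pi.π (U ∘ i) a)⟩ : SVm G U V)) = g := by
  apply hom_ext_map G U i
  intro a
  exact toProdm_π G U (fun a => (⟨i a, g ≫ G.map (Pi.π (U ∘ i) a)⟩ : SVm G U V)) a

lemma Phim_injective (n : ℕ) : Function.Injective (Phim G P U n) := by
  intro x y h
  ext i
  funext V g
  have h1 := congrFun (congrFun h V) (fun a => ⟨i a, g ≫ G.map (Pi.π (U ∘ i) a)⟩)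
  rw [Phim_apply, Phim_apply] at h1
  rw [toProdm_eq] at h1
  exact h1

lemma Phim_surjective (n : ℕ) : Function.Surjective (Phim G P U n) := by
  intro ψ
  refine ⟨mk (fun i V g => ψ V (fun a => ⟨i a, g ≫ G.map (Pi.π (U ∘ i) a)⟩)), ?_⟩
  funext V s
  rw [Phim_apply, comp_mk]
  congr 1
  funext a
  refine Sigma.ext rfl (heq_of_eq ?_)
  exact toProdm_π G U s a

lemma Phim_δ {n : ℕ} (k : Fin (n + 2)) (x : (cx U (G.op ⋙ bigG P)).X n) (V : D')
    (s : Fin (n + 2) → SVm G U V) :
    Phim G P U (n + 1) ((δm U (G.op ⋙ bigG P) k).hom x) V s =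
      Phim G P U n x V (s ∘ k.succAbove) := by
  rw [Phim_apply, Phim_apply, comp_δ]
  show ((bigG P).map (G.map (face U k (idxm G U s))).op).hom _ V _ = _
  rw [bigG_map_apply]
  have h2 : toProdm G U s ≫ (G.map (face U k (idxm G U s))).op.unop =
      toProdm G U (s ∘ k.succAbove) := by
    apply hom_ext_map G U
    intro a
    rw [Quiver.Hom.unop_op, Category.assoc, ← G.map_comp, Pi.lift_π]
    exact (toProdm_π G U s _).trans (toProdm_π G U (s ∘ k.succAbove) a).symm
  rw [h2]
  rfl

lemma Phim_d {n : ℕ} (x : (cx U (G.op ⋙ bigG P)).X n) (V : D') :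
    Phim G P U (n + 1) (((cx U (G.op ⋙ bigG P)).d n (n + 1)).hom x) V =
      dM (Phim G P U n x V) := by
  funext s
  rw [cx_d, hom_sum_apply, map_sum]
  simp only [dM, Finset.sum_apply]
  refine Finset.sum_congr rfl fun k _ => ?_
  rw [AddCommGrpCat.hom_zsmul, AddMonoidHom.smul_apply, map_zsmul]
  show (-1 : ℤ) ^ (k : ℕ) • Phim G P U (n + 1) ((δm U (G.op ⋙ bigG P) k).hom x) V s = _
  rw [Phim_δ]

/-- the pullback of the big coinduced presheaf is Čech-acyclic. -/
theorem isZero_homology_bigG_map (n : ℕ) :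
    IsZero ((cx U (G.op ⋙ bigG P)).homology (n + 1)) := by
  rw [isZero_homology_succ_iff]
  intro x hx
  have h1 : ∀ V, dM (Phim G P U (n + 1) x V) = 0 := by
    intro V
    rw [← Phim_d, hx, map_zero]
    rfl
  choose ψ hψ using fun V => dM_exact (Phim G P U (n + 1) x V) (h1 V)
  obtain ⟨y, hy⟩ := Phim_surjective G P U n ψ
  refine ⟨y, Phim_injective G P U (n + 1) ?_⟩
  funext V
  rw [Phim_d, hy, hψ]

variable {P}

/-- the pullback of an injective presheaf along a finite-product preserving functor is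
Čech-acyclic. -/
theorem isZero_homology_of_injective_map [Injective P] (n : ℕ) :
    IsZero ((cx U (G.op ⋙ P)).homology (n + 1)) := by
  let r : bigG P ⟶ P := Injective.factorThru (𝟙 P) (toBigG P)
  have hr : toBigG P ≫ r = 𝟙 P := Injective.comp_factorThru _ _
  have hr' : Functor.whiskerLeft G.op (toBigG P) ≫ Functor.whiskerLeft G.op r = 𝟙 (G.op ⋙ P) := by
    rw [← Functor.whiskerLeft_comp, hr]
    rfl
  have h2 : HomologicalComplex.homologyMap
        ((cechComplexFunctor U).map (Functor.whiskerLeft G.op (toBigG P))) (n + 1) ≫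
      HomologicalComplex.homologyMap
        ((cechComplexFunctor U).map (Functor.whiskerLeft G.op r)) (n + 1) = 𝟙 _ := by
    rw [← HomologicalComplex.homologyMap_comp, ← Functor.map_comp, hr',
      CategoryTheory.Functor.map_id, HomologicalComplex.homologyMap_id]
  rw [IsZero.iff_id_eq_zero, ← h2]
  rw [(isZero_homology_bigG_map G P U n).eq_of_tgt
    (HomologicalComplex.homologyMap
      ((cechComplexFunctor U).map (Functor.whiskerLeft G.op (toBigG P))) (n + 1)) 0, zero_comp]

end BigMap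

end Groth.Agent.Cech
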