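import Groth.Agent.Lib.CechH0
import Groth.Agent.Lib.CechExt
import Groth.Agent.Lib.CechCartan
set_option autoImplicit false
universe u
open CategoryTheory Limits Opposite Abelian

namespace Groth.Agent.Cech

open Groth.Agent.CohSiteBasics

/-- two surjective homomorphisms with the same kernel have isomorphic targets. -/
lemma nonempty_addEquiv_of_ker_eq {B C₁ C₂ : Type*} [AddCommGroup B] [AddCommGroup C₁]
    [AddCommGroup C₂] (c₁ : B →+ C₁) (c₂ : B →+ C₂) (h₁ : Function.Surjective c₁)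
    (h₂ : Function.Surjective c₂) (h : ∀ b, c₁ b = 0 ↔ c₂ b = 0) : Nonempty (C₁ ≃+ C₂) := by
  have hk : c₁.ker = c₂.ker := by
    ext b
    exact h b
  exact ⟨(QuotientAddGroup.quotientKerEquivOfSurjective c₁ h₁).symm.trans
    ((QuotientAddGroup.quotientAddEquivOfEq hk).trans
      (QuotientAddGroup.quotientKerEquivOfSurjective c₂ h₂))⟩

section

variable {C : Type u} [SmallCategory C] {J : GrothendieckTopology C}
  {D : Type u} [SmallCategory D] [HasFiniteProducts D] (r : D ⥤ C) {ι : Type u} (Y : ι → D)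
  {T' : D} (q : ∀ i, Y i ⟶ T')

/-- the short complex of restricted presheaves. -/
noncomputable abbrev resSC (S : ShortComplex (Sheaf J AddCommGrpCat.{u})) :
    ShortComplex (Dᵒᵖ ⥤ AddCommGrpCat.{u}) :=
  ShortComplex.mk (X₁ := r.op ⋙ S.X₁.obj) (X₂ := r.op ⋙ S.X₂.obj) (X₃ := r.op ⋙ S.X₃.obj)
    (Functor.whiskerLeft r.op S.f.hom) (Functor.whiskerLeft r.op S.g.hom) (by
      ext W : 2
      have := congrArg (fun φ => φ.hom.app (op (r.obj W.unop))) S.zero
      exact this)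

/-- the acyclicity hypothesis of Leray's theorem. -/
def LerayHyp (F : Sheaf J AddCommGrpCat.{u}) : Prop :=
  ∀ (n : ℕ) (a : Fin (n + 1) → ι) (m : ℕ),
    Subsingleton (Ext (freeSheaf J (r.obj (prodObj Y a))) F (m + 1))

lemma lerayHyp_X₃ (F : Sheaf J AddCommGrpCat.{u}) (hF : LerayHyp r Y F) :
    LerayHyp r Y (injSC F).X₃ := by
  intro n a m
  have : Subsingleton (Ext (freeSheaf J (r.obj (prodObj Y a))) (injSC F).X₁ (m + 2)) :=
    hF n a (m + 1)
  exact (shiftEquiv (injSC F) (injSC_shortExact F) (r.obj (prodObj Y a)) m).toEquiv.subsingleton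

lemma shortExact_of_lerayHyp (F : Sheaf J AddCommGrpCat.{u}) (hF : LerayHyp r Y F) :
    (mapSC Y (resSC r (injSC F))).ShortExact :=
  mapSC_shortExact (resSC r (injSC F))
    (fun _ _ => (sections_left_exact (injSC F) (injSC_shortExact F) _).1)
    (fun _ _ => (sections_left_exact (injSC F) (injSC_shortExact F) _).2)
    (fun n a => surjective_of_H1_subsingleton (injSC F) (injSC_shortExact F) _ (hF n a 0))


variable (hq : ∀ {W : D} {i j : ι} (a : W ⟶ Y i) (b : W ⟶ Y j), a ≫ q i = b ≫ q j)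
  (hglue : ∀ (F : Sheaf J AddCommGrpCat.{u}) (x : (cx Y (r.op ⋙ F.obj)).X 0),
    ((cx Y (r.op ⋙ F.obj)).d 0 1).hom x = 0 →
      ∃ τ : F.obj.obj (op (r.obj T')), x = aug (P := r.op ⋙ F.obj) q τ)
  (hinj : ∀ (F : Sheaf J AddCommGrpCat.{u}) (s s' : F.obj.obj (op (r.obj T'))),
    aug (P := r.op ⋙ F.obj) q s = aug (P := r.op ⋙ F.obj) q s' → s = s')
  (hI : ∀ (I : Sheaf J AddCommGrpCat.{u}) [Injective I], Injective (r.op ⋙ I.obj))

include hq hglue hinj in
theorem leray_zero (F : Sheaf J AddCommGrpCat.{u}) :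
    Nonempty ((cx Y (r.op ⋙ F.obj)).homology 0 ≃+ Ext (freeSheaf J (r.obj T')) F 0) :=
  ⟨((AddEquiv.ofBijective (toH0 q (r.op ⋙ F.obj) hq).hom
    (toH0_bijective q (r.op ⋙ F.obj) hq (hglue F) (hinj F))).symm).trans
      (H0Equiv (r.obj T') F).symm⟩

include hq hglue hinj hI in
theorem leray_one (F : Sheaf J AddCommGrpCat.{u}) (hF : LerayHyp r Y F) :
    Nonempty ((cx Y (r.op ⋙ F.obj)).homology 1 ≃+ Ext (freeSheaf J (r.obj T')) F 1) := by
  let S := injSC F
  have hS : S.ShortExact := injSC_shortExact F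
  have hSS := shortExact_of_lerayHyp r Y F hF
  have : Injective (r.op ⋙ S.X₂.obj) := hI S.X₂
  have hz1 : IsZero ((mapSC Y (resSC r S)).X₂.homology 1) :=
    isZero_homology_of_injective (P := r.op ⋙ S.X₂.obj) Y 0
  have hbI := toH0_bijective q (r.op ⋙ S.X₂.obj) hq (hglue S.X₂) (hinj S.X₂)
  have hbQ := toH0_bijective q (r.op ⋙ S.X₃.obj) hq (hglue S.X₃) (hinj S.X₃)
  let c₁ : S.X₃.obj.obj (op (r.obj T')) →+ ((cx Y (r.op ⋙ F.obj)).homology 1 : AddCommGrpCat.{u}) :=
    (toH0 q (r.op ⋙ S.X₃.obj) hq ≫ hSS.δ 0 1 rfl).hom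
  refine nonempty_addEquiv_of_ker_eq c₁ (conn S hS (r.obj T')) ?_ (conn_surjective S hS _) ?_
  · have : Epi (hSS.δ 0 1 rfl) := hSS.epi_δ 0 1 rfl hz1
    have hδ : Function.Surjective (hSS.δ 0 1 rfl).hom :=
      (AddCommGrpCat.epi_iff_surjective _).mp this
    intro z
    obtain ⟨y, rfl⟩ := hδ z
    obtain ⟨s, rfl⟩ := hbQ.2 y
    exact ⟨s, rfl⟩
  · intro s
    refine Iff.trans ?_ (conn_eq_zero_iff S hS (r.obj T') s).symm
    have hnat := toH0_naturality q hq (resSC r S).g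
    constructor
    · intro h0
      have hex := (ShortComplex.ab_exact_iff _).mp (hSS.homology_exact₃ 0 1 rfl)
        ((toH0 q (r.op ⋙ S.X₃.obj) hq).hom s) h0
      obtain ⟨y, hy⟩ := hex
      obtain ⟨t, rfl⟩ := hbI.2 y
      refine ⟨t, hbQ.1 ?_⟩
      rw [← hy]
      exact (ConcreteCategory.congr_hom hnat t).symm
    · rintro ⟨t, rfl⟩
      have h1 := ConcreteCategory.congr_hom hnat t
      show (hSS.δ 0 1 rfl).hom ((toH0 q (r.op ⋙ S.X₃.obj) hq).hom ((S.g.hom.app (op (r.obj T'))).hom t)) = 0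
      have h2 : (toH0 q (r.op ⋙ S.X₃.obj) hq).hom ((S.g.hom.app (op (r.obj T'))).hom t) =
          (HomologicalComplex.homologyMap ((cechComplexFunctor Y).map (resSC r S).g) 0).hom
            ((toH0 q (r.op ⋙ S.X₂.obj) hq).hom t) := h1.symm
      rw [h2]
      exact ConcreteCategory.congr_hom (hSS.comp_δ 0 1 rfl) _


include hq hglue hinj hI in
theorem leray_succ : ∀ (p : ℕ) (F : Sheaf J AddCommGrpCat.{u}), LerayHyp r Y F →
    Nonempty ((cx Y (r.op ⋙ F.obj)).homology (p + 1) ≃+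
      Ext (freeSheaf J (r.obj T')) F (p + 1)) := by
  intro p
  induction p with
  | zero => exact fun F hF => leray_one r Y q hq hglue hinj hI F hF
  | succ p ih =>
    intro F hF
    let S := injSC F
    have hS : S.ShortExact := injSC_shortExact F
    have hSS := shortExact_of_lerayHyp r Y F hF
    have : Injective (r.op ⋙ S.X₂.obj) := hI S.X₂
    have hz1 : IsZero ((mapSC Y (resSC r S)).X₂.homology (p + 1)) :=
      isZero_homology_of_injective (P := r.op ⋙ S.X₂.obj) Y p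
    have hz2 : IsZero ((mapSC Y (resSC r S)).X₂.homology (p + 2)) :=
      isZero_homology_of_injective (P := r.op ⋙ S.X₂.obj) Y (p + 1)
    obtain ⟨e⟩ := ih S.X₃ (lerayHyp_X₃ r Y F hF)
    let e1 : ((cx Y (r.op ⋙ S.X₃.obj)).homology (p + 1) : AddCommGrpCat.{u}) ≃+
        ((cx Y (r.op ⋙ F.obj)).homology (p + 2) : AddCommGrpCat.{u}) :=
      (hSS.δIso (p + 1) (p + 2) (by simp) hz1 hz2).addCommGroupIsoToAddEquiv
    exact ⟨e1.symm.trans (e.trans (shiftEquiv S hS (r.obj T') p))⟩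

include hq hglue hinj hI in
/-- Leray's theorem, in abstract form. -/
theorem leray (p : ℕ) (F : Sheaf J AddCommGrpCat.{u}) (hF : LerayHyp r Y F) :
    Nonempty ((cx Y (r.op ⋙ F.obj)).homology p ≃+ Ext (freeSheaf J (r.obj T')) F p) := by
  cases p with
  | zero => exact leray_zero r Y q hq hglue hinj F
  | succ p => exact leray_succ r Y q hq hglue hinj hI p F hF

end

end Groth.Agent.Cech
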