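import Groth.Agent.Lib.CechLeray
import Groth.Agent.Lib.CechCartanTop
set_option autoImplicit false
universe u
open CategoryTheory Limits Opposite Abelian TopologicalSpace

namespace Groth.Agent.Cech

open Groth.Agent.CohSiteBasics

theorem leray_site {C : Type u} [SmallCategory C] [HasPullbacks C]
    (J : GrothendieckTopology C) (F : Sheaf J AddCommGrpCat.{u}) {U : C} {ι : Type u} (Y : ι → Over U)
    (hY : Sieve.ofArrows (fun i => (Y i).left) (fun i => (Y i).hom) ∈ J U)
    (h : ∀ (p : ℕ) (a : Fin (p + 1) → ι) (q : ℕ),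
      Subsingleton (CohSite.HU F (q + 1) (∏ᶜ fun k => Y (a k)).left))
    (p : ℕ) : Nonempty (CohCx.cechH F.obj Y p ≃+ CohSite.HU F p U) :=
  leray (Over.forget U) Y (qOver Y) (hqOver Y)
    (fun G x hx => exists_aug_eq Y G hY x hx) (fun G => aug_injective Y G hY)
    (fun I _ => by
      have := injective_sheaf_obj J I
      exact injective_over_restr U I.obj) p F h

theorem leray_top {X : TopCat.{u}} (F : CohTop.Ab X) {ι : Type u}
    (U : ι → Opens X)
    (h : ∀ (p : ℕ) (a : Fin (p + 1) → ι) (q : ℕ), Subsingleton (CohTop.HU F (q + 1) (iInf fun k => U (a k))))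
    (p : ℕ) : Nonempty (CohTop.cechH F.obj U p ≃+ CohTop.HU F p (iSup U)) :=
  leray (J := Opens.grothendieckTopology X) (𝟭 (Opens X)) U (qTop U) (hqTop U)
    (fun G x hx => exists_aug_eq_top U G x hx) (fun G => aug_injective_top U G)
    (fun I _ => injective_sheaf_obj (Opens.grothendieckTopology X) I) p F
    (fun n a m => by
      have := h n a m
      rw [← prodObj_eq_iInf] at this
      exact this)

end Groth.Agent.Cech
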