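import Groth.Agent.Lib.CechBasic
set_option autoImplicit false
universe w v v' u u'
open CategoryTheory Limits Opposite

namespace Groth.Agent.Cech

variable {D : Type u} [Category.{v} D] [HasFiniteProducts D]
  {D' : Type u'} [Category.{v'} D'] [HasFiniteProducts D']
  (G : D ⥤ D') [PreservesFiniteProducts G]
  {ι : Type w} (U : ι → D) (P' : D'ᵒᵖ ⥤ AddCommGrpCat.{w})

/-- comparison of products. -/
noncomputable def cmp {n : ℕ} (a : Fin (n + 1) → ι) :
    G.obj (prodObj U a) ≅ prodObj (fun i => G.obj (U i)) a :=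
  PreservesProduct.iso G (U ∘ a)

lemma cmp_hom_π {n : ℕ} (a : Fin (n + 1) → ι) (b : Fin (n + 1)) :
    (cmp G U a).hom ≫ Pi.π ((fun i => G.obj (U i)) ∘ a) b = G.map (Pi.π (U ∘ a) b) := by
  unfold cmp
  rw [PreservesProduct.iso_hom]
  exact piComparison_comp_π G (U ∘ a) b

lemma cmp_face {n : ℕ} (k : Fin (n + 2)) (a : Fin (n + 2) → ι) :
    (cmp G U a).hom ≫ face (fun i => G.obj (U i)) k a =
      G.map (face U k a) ≫ (cmp G U (a ∘ k.succAbove)).hom := by
  refine Pi.hom_ext _ _ (fun b => ?_)
  rw [Category.assoc, Category.assoc, Pi.lift_π, cmp_hom_π]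
  erw [cmp_hom_π]
  rw [← G.map_comp, Pi.lift_π]

lemma face_cmp_inv {n : ℕ} (k : Fin (n + 2)) (a : Fin (n + 2) → ι) :
    face (fun i => G.obj (U i)) k a ≫ (cmp G U (a ∘ k.succAbove)).inv =
      (cmp G U a).inv ≫ G.map (face U k a) := by
  rw [Iso.comp_inv_eq, Category.assoc, ← cmp_face, Iso.inv_hom_id_assoc]

/-- the termwise comparison isomorphism. -/
noncomputable def TIso (n : ℕ) :
    (cx U (G.op ⋙ P')).X n ≅ (cx (fun i => G.obj (U i)) P').X n where
  hom := lift (fun a => proj a ≫ P'.map (cmp G U a).inv.op)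
  inv := lift (fun a => proj a ≫ P'.map (cmp G U a).hom.op)
  hom_inv_id := by
    refine hom_ext' (fun a => ?_)
    rw [Category.assoc, lift_proj, lift_proj_assoc, Category.assoc, ← Functor.map_comp, ← op_comp,
      Iso.hom_inv_id, op_id]
    erw [P'.map_id]
    exact (Category.comp_id _).trans (Category.id_comp _).symm
  inv_hom_id := by
    refine hom_ext' (fun a => ?_)
    rw [Category.assoc, lift_proj, lift_proj_assoc, Category.assoc, ← Functor.map_comp, ← op_comp,
      Iso.inv_hom_id, op_id]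
    erw [P'.map_id]
    exact (Category.comp_id _).trans (Category.id_comp _).symm

lemma TIso_hom_d (n : ℕ) :
    (TIso G U P' n).hom ≫ (cx (fun i => G.obj (U i)) P').d n (n + 1) =
      (cx U (G.op ⋙ P')).d n (n + 1) ≫ (TIso G U P' (n + 1)).hom := by
  refine hom_ext' (fun a => ?_)
  rw [Category.assoc, Category.assoc, d_proj, Preadditive.comp_sum]
  unfold TIso
  dsimp only
  rw [lift_proj, ← Category.assoc, d_proj, Preadditive.sum_comp]
  refine Finset.sum_congr rfl fun k _ => ?_
  rw [Preadditive.comp_zsmul, Preadditive.zsmul_comp, lift_proj_assoc]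
  congr 1
  rw [Category.assoc, Category.assoc, ← Functor.map_comp, ← op_comp, face_cmp_inv, op_comp,
    Functor.map_comp]
  rfl

/-- the Čech complex of `G.op ⋙ P'` is the Čech complex of `P'` for the image family. -/
noncomputable def cxIso : cx U (G.op ⋙ P') ≅ cx (fun i => G.obj (U i)) P' :=
  HomologicalComplex.Hom.isoOfComponents (fun n => TIso G U P' n) (by
    intro i j hij
    obtain rfl : i + 1 = j := hij
    exact TIso_hom_d G U P' i)

end Groth.Agent.Cech
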