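import Mathlib

set_option autoImplicit false
universe v v' u u'
open CategoryTheory Limits Opposite

namespace Groth.Agent.CechNerveMap

variable {C : Type u} [Category.{v} C] {D : Type u'} [Category.{v'} D] (G : C ⥤ D) (f : Arrow C)
  [∀ n : ℕ, HasWidePullback.{0} f.right (fun _ : Fin (n + 1) => f.left) fun _ => f.hom]
  [∀ n : ℕ, HasLimitsOfShape (WidePullbackShape (Fin (n + 1))) D]
  [∀ n : ℕ, PreservesLimit (WidePullbackShape.wideCospan f.right
    (fun _ : Fin (n + 1) => f.left) fun _ => f.hom) G]

/-- comparison map at level `n`. -/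
noncomputable def cmp (n : ℕ) :
    G.obj (widePullback.{0} f.right (fun _ : Fin (n + 1) => f.left) fun _ => f.hom) ⟶
      widePullback.{0} (G.obj f.right) (fun _ : Fin (n + 1) => G.obj f.left) fun _ => G.map f.hom :=
  WidePullback.lift
    (G.map (WidePullback.base _))
    (fun i => G.map (WidePullback.π _ i)) (by
      intro i
      rw [← G.map_comp, WidePullback.π_arrow])

@[reassoc (attr := simp)]
lemma cmp_π (n : ℕ) (i : Fin (n + 1)) :
    cmp G f n ≫ WidePullback.π _ i = G.map (WidePullback.π _ i) :=
  WidePullback.lift_π _ _ _ _ i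

@[reassoc (attr := simp)]
lemma cmp_base (n : ℕ) :
    cmp G f n ≫ WidePullback.base _ = G.map (WidePullback.base _) :=
  WidePullback.lift_base _ _ _ _

/-- the inverse -/
noncomputable def inv (n : ℕ) :
    widePullback.{0} (G.obj f.right) (fun _ : Fin (n + 1) => G.obj f.left) (fun _ => G.map f.hom) ⟶
    G.obj (widePullback.{0} f.right (fun _ : Fin (n + 1) => f.left) fun _ => f.hom) :=
  (isLimitOfPreserves G (limit.isLimit (WidePullbackShape.wideCospan f.right
    (fun _ : Fin (n + 1) => f.left) fun _ => f.hom))).lift
    (WidePullbackShape.mkCone (F := WidePullbackShape.wideCospan f.right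
      (fun _ : Fin (n + 1) => f.left) (fun _ => f.hom) ⋙ G)
      (WidePullback.base (fun _ : Fin (n + 1) => G.map f.hom))
      (fun i => WidePullback.π (fun _ : Fin (n + 1) => G.map f.hom) i) (by
        intro i
        exact WidePullback.π_arrow (fun _ : Fin (n + 1) => G.map f.hom) i))

@[reassoc (attr := simp)]
lemma inv_π (n : ℕ) (i : Fin (n + 1)) :
    inv G f n ≫ G.map (WidePullback.π _ i) = WidePullback.π _ i :=
  (isLimitOfPreserves G (limit.isLimit (WidePullbackShape.wideCospan f.right
    (fun _ : Fin (n + 1) => f.left) fun _ => f.hom))).fac _ (some i)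

@[reassoc (attr := simp)]
lemma inv_base (n : ℕ) :
    inv G f n ≫ G.map (WidePullback.base _) = WidePullback.base _ :=
  (isLimitOfPreserves G (limit.isLimit (WidePullbackShape.wideCospan f.right
    (fun _ : Fin (n + 1) => f.left) fun _ => f.hom))).fac _ none

lemma cmp_inv (n : ℕ) : cmp G f n ≫ inv G f n = 𝟙 _ := by
  apply (isLimitOfPreserves G (limit.isLimit (WidePullbackShape.wideCospan f.right
    (fun _ : Fin (n + 1) => f.left) fun _ => f.hom))).hom_ext
  rintro (_ | i)
  · exact (Category.assoc _ _ _).trans ((congrArg (cmp G f n ≫ ·) (inv_base G f n)).trans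
      ((cmp_base G f n).trans (Category.id_comp _).symm))
  · exact (Category.assoc _ _ _).trans ((congrArg (cmp G f n ≫ ·) (inv_π G f n i)).trans
      ((cmp_π G f n i).trans (Category.id_comp _).symm))

lemma inv_cmp (n : ℕ) : inv G f n ≫ cmp G f n = 𝟙 _ := by
  apply WidePullback.hom_ext
  · intro i
    simp
  · simp

/-- iso at level n -/
@[simps]
noncomputable def isoLevel (n : ℕ) :
    G.obj (widePullback.{0} f.right (fun _ : Fin (n + 1) => f.left) fun _ => f.hom) ≅
      widePullback.{0} (G.obj f.right) (fun _ : Fin (n + 1) => G.obj f.left) fun _ => G.map f.hom where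
  hom := cmp G f n
  inv := inv G f n
  hom_inv_id := cmp_inv G f n
  inv_hom_id := inv_cmp G f n

/-- the iso of simplicial objects -/
noncomputable def simplIso :
    ((SimplicialObject.whiskering C D).obj G).obj f.cechNerve ≅ (Arrow.mk (G.map f.hom)).cechNerve :=
  NatIso.ofComponents (fun n => isoLevel G f n.unop.len) (by
    intro n m θ
    apply WidePullback.hom_ext
    · intro j
      have h1 : G.map (f.cechNerve.map θ) ≫
          G.map (WidePullback.π (fun _ : Fin (m.unop.len + 1) => f.hom) j) =
          G.map (WidePullback.π (fun _ : Fin (n.unop.len + 1) => f.hom) (θ.unop.toOrderHom j)) := by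
        rw [← G.map_comp]
        exact congrArg G.map (WidePullback.lift_π _ _ _ _ j)
      have h2 : (Arrow.mk (G.map f.hom)).cechNerve.map θ ≫
          WidePullback.π (fun _ : Fin (m.unop.len + 1) => (Arrow.mk (G.map f.hom)).hom) j =
          WidePullback.π (fun _ : Fin (n.unop.len + 1) => (Arrow.mk (G.map f.hom)).hom)
            (θ.unop.toOrderHom j) := WidePullback.lift_π _ _ _ _ j
      exact (Category.assoc _ _ _).trans ((congrArg (G.map (f.cechNerve.map θ) ≫ ·)
        (cmp_π G f _ j)).trans (h1.trans ((cmp_π G f _ _).symm.trans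
          ((congrArg (cmp G f _ ≫ ·) h2.symm).trans (Category.assoc _ _ _).symm))))
    · have h1 : G.map (f.cechNerve.map θ) ≫
          G.map (WidePullback.base (fun _ : Fin (m.unop.len + 1) => f.hom)) =
          G.map (WidePullback.base (fun _ : Fin (n.unop.len + 1) => f.hom)) := by
        rw [← G.map_comp]
        exact congrArg G.map (WidePullback.lift_base _ _ _ _)
      have h2 : (Arrow.mk (G.map f.hom)).cechNerve.map θ ≫
          WidePullback.base (fun _ : Fin (m.unop.len + 1) => (Arrow.mk (G.map f.hom)).hom) =
          WidePullback.base (fun _ : Fin (n.unop.len + 1) => (Arrow.mk (G.map f.hom)).hom) :=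
        WidePullback.lift_base _ _ _ _
      exact (Category.assoc _ _ _).trans ((congrArg (G.map (f.cechNerve.map θ) ≫ ·)
        (cmp_base G f _)).trans (h1.trans ((cmp_base G f _).symm.trans
          ((congrArg (cmp G f _ ≫ ·) h2.symm).trans (Category.assoc _ _ _).symm)))))

/-- the iso of augmented simplicial objects -/
noncomputable def augIso :
    ((SimplicialObject.Augmented.whiskering C D).obj G).obj f.augmentedCechNerve ≅
      (Arrow.mk (G.map f.hom)).augmentedCechNerve :=
  Comma.isoMk (simplIso G f) (Iso.refl _) (by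
    apply NatTrans.ext
    funext n
    exact (cmp_base G f n.unop.len).trans ((Category.comp_id _).symm.trans
      (Category.comp_id _).symm))

end Groth.Agent.CechNerveMap
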