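import Mathlib

set_option autoImplicit false
universe v u
open CategoryTheory Limits Opposite Simplicial

namespace Groth.Agent.CechNerveED

variable {C : Type u} [Category.{v} C] (f : Arrow C)
  [∀ n : ℕ, HasWidePullback.{0} f.right (fun _ : Fin (n + 1) => f.left) fun _ => f.hom]
  {B₀ : C} (e : f.left ⟶ B₀) (m : B₀ ⟶ f.right) [Mono m] (hem : e ≫ m = f.hom)

include hem in
lemma π_e (n : ℕ) (i : Fin (n + 1)) :
    WidePullback.π (fun _ : Fin (n + 1) => f.hom) i ≫ e =
      WidePullback.π (fun _ : Fin (n + 1) => f.hom) 0 ≫ e := by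
  rw [← cancel_mono m, Category.assoc, Category.assoc, hem, WidePullback.π_arrow,
    WidePullback.π_arrow]

/-- the modified augmented object -/
noncomputable def aug' : SimplicialObject.Augmented C where
  left := f.cechNerve
  right := B₀
  hom :=
    { app := fun n => WidePullback.π (fun _ : Fin (n.unop.len + 1) => f.hom) 0 ≫ e
      naturality := by
        intro n k θ
        have h1 : f.cechNerve.map θ ≫ WidePullback.π (fun _ : Fin (k.unop.len + 1) => f.hom) 0 =
            WidePullback.π (fun _ : Fin (n.unop.len + 1) => f.hom) (θ.unop.toOrderHom 0) :=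
          WidePullback.lift_π _ _ _ _ _
        have h2 := π_e f e m hem _ (θ.unop.toOrderHom 0)
        exact ((Category.assoc _ _ _).symm.trans ((congrArg (· ≫ e) h1).trans h2)).trans
          (Category.comp_id _).symm }

variable (S : SplitEpi e)

/-- the map `X_n → B₀`. -/
noncomputable def t (n : ℕ) : f.cechNerve.obj (op ⦋n⦌) ⟶ B₀ :=
  WidePullback.π (fun _ : Fin (n + 1) => f.hom) 0 ≫ e

include hem in
lemma π_e' (n : ℕ) (i : Fin (n + 1)) :
    WidePullback.π (fun _ : Fin (n + 1) => f.hom) i ≫ e = t f e n :=
  π_e f e m hem n i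

include hem in
lemma t_m (n : ℕ) : t f e n ≫ m = WidePullback.base (fun _ : Fin (n + 1) => f.hom) := by
  rw [t, Category.assoc, hem, WidePullback.π_arrow]

/-- extra degeneracy maps -/
noncomputable def s (n : ℕ) :
    f.cechNerve.obj (op ⦋n⦌) ⟶ f.cechNerve.obj (op ⦋n + 1⦌) :=
  WidePullback.lift (WidePullback.base _)
    (Fin.cases (t f e n ≫ S.section_) (WidePullback.π _))
    fun i => by
      cases i using Fin.cases
      · simp only [Fin.cases_zero, Category.assoc]
        have h : S.section_ ≫ f.hom = m := by
          rw [← hem, ← Category.assoc, S.id, Category.id_comp]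
        rw [h, t_m f e m hem]
      · simp

@[reassoc]
theorem s_comp_π_0 (n : ℕ) :
    s f e m hem S n ≫ WidePullback.π (fun _ : Fin (n + 1 + 1) => f.hom) 0 = t f e n ≫ S.section_ :=
  (WidePullback.lift_π _ _ _ _ _).trans (by simp)

@[reassoc]
theorem s_comp_π_succ (n : ℕ) (i : Fin (n + 1)) :
    s f e m hem S n ≫ WidePullback.π (fun _ : Fin (n + 1 + 1) => f.hom) i.succ =
      WidePullback.π (fun _ : Fin (n + 1) => f.hom) i :=
  (WidePullback.lift_π _ _ _ _ _).trans (by simp)

@[reassoc]
theorem s_comp_base (n : ℕ) :
    s f e m hem S n ≫ WidePullback.base (fun _ : Fin (n + 1 + 1) => f.hom) =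
      WidePullback.base (fun _ : Fin (n + 1) => f.hom) :=
  WidePullback.lift_base ..

lemma map_π {n k : SimplexCategoryᵒᵖ} (θ : n ⟶ k) (j : Fin (k.unop.len + 1)) :
    f.cechNerve.map θ ≫ WidePullback.π (fun _ : Fin (k.unop.len + 1) => f.hom) j =
      WidePullback.π (fun _ : Fin (n.unop.len + 1) => f.hom) (θ.unop.toOrderHom j) :=
  WidePullback.lift_π _ _ _ _ _

lemma map_base {n k : SimplexCategoryᵒᵖ} (θ : n ⟶ k) :
    f.cechNerve.map θ ≫ WidePullback.base (fun _ : Fin (k.unop.len + 1) => f.hom) =
      WidePullback.base (fun _ : Fin (n.unop.len + 1) => f.hom) :=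
  WidePullback.lift_base _ _ _ _

include hem in
lemma map_t {n k : ℕ} (θ : (op ⦋n⦌ : SimplexCategoryᵒᵖ) ⟶ op ⦋k⦌) :
    f.cechNerve.map θ ≫ t f e k = t f e n := by
  rw [t, ← Category.assoc]
  erw [map_π f θ 0]
  exact π_e' f e m hem n _

lemma δ_π (n : ℕ) (i : Fin (n + 2)) (j : Fin (n + 1)) :
    f.cechNerve.map (SimplexCategory.δ i).op ≫ WidePullback.π (fun _ : Fin (n + 1) => f.hom) j =
      WidePullback.π (fun _ : Fin (n + 1 + 1) => f.hom) (i.succAbove j) :=
  map_π f (SimplexCategory.δ i).op j

lemma σ_π (n : ℕ) (i : Fin (n + 1)) (j : Fin (n + 2)) :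
    f.cechNerve.map (SimplexCategory.σ i).op ≫ WidePullback.π (fun _ : Fin (n + 1 + 1) => f.hom) j =
      WidePullback.π (fun _ : Fin (n + 1) => f.hom) (i.predAbove j) :=
  map_π f (SimplexCategory.σ i).op j

/-- The modified augmented Čech nerve has an extra degeneracy. -/
noncomputable def extraDegeneracy :
    SimplicialObject.Augmented.ExtraDegeneracy (aug' f e m hem) where
  s' := S.section_ ≫ WidePullback.lift f.hom (fun _ ↦ 𝟙 _) (by simp)
  s n := s f e m hem S n
  s'_comp_ε := by
    show (S.section_ ≫ WidePullback.lift f.hom (fun _ ↦ 𝟙 _) _) ≫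
      (WidePullback.π (fun _ : Fin (0 + 1) => f.hom) 0 ≫ e) = 𝟙 _
    rw [Category.assoc, WidePullback.lift_π_assoc, Category.id_comp, S.id]
  s₀_comp_δ₁ := by
    show s f e m hem S 0 ≫ f.cechNerve.map (SimplexCategory.δ 1).op =
      (WidePullback.π (fun _ : Fin (0 + 1) => f.hom) 0 ≫ e) ≫
        S.section_ ≫ WidePullback.lift f.hom (fun _ ↦ 𝟙 _) _
    apply WidePullback.hom_ext
    · intro j
      fin_cases j
      refine (Category.assoc _ _ _).trans ((congrArg (s f e m hem S 0 ≫ ·) (δ_π f 0 1 0)).trans
        ((s_comp_π_0 f e m hem S 0).trans ?_))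
      simp only [Category.assoc]
      rw [WidePullback.lift_π, Category.comp_id, t, Category.assoc]
    · refine (Category.assoc _ _ _).trans ((congrArg (s f e m hem S 0 ≫ ·)
        (map_base f (SimplexCategory.δ 1).op)).trans ((s_comp_base f e m hem S 0).trans ?_))
      simp only [Category.assoc]
      rw [WidePullback.lift_base]
      have h : S.section_ ≫ f.hom = m := by
        rw [← hem, ← Category.assoc, S.id, Category.id_comp]
      rw [h, hem, WidePullback.π_arrow]
  s_comp_δ₀ n := by
    show s f e m hem S n ≫ f.cechNerve.map (SimplexCategory.δ 0).op = 𝟙 _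
    apply WidePullback.hom_ext
    · intro j
      refine (Category.assoc _ _ _).trans ((congrArg (s f e m hem S n ≫ ·) (δ_π f n 0 j)).trans
        ((s_comp_π_succ f e m hem S n j).trans (Category.id_comp _).symm))
    · refine (Category.assoc _ _ _).trans ((congrArg (s f e m hem S n ≫ ·)
        (map_base f (SimplexCategory.δ 0).op)).trans ((s_comp_base f e m hem S n).trans
          (Category.id_comp _).symm))
  s_comp_δ n i := by
    show s f e m hem S (n + 1) ≫ f.cechNerve.map (SimplexCategory.δ i.succ).op =
      f.cechNerve.map (SimplexCategory.δ i).op ≫ s f e m hem S n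
    apply WidePullback.hom_ext
    · intro j
      refine (Category.assoc _ _ _).trans ((congrArg (s f e m hem S (n + 1) ≫ ·)
        (δ_π f (n + 1) i.succ j)).trans ?_)
      refine Eq.trans ?_ (Category.assoc _ _ _).symm
      induction j using Fin.cases with
      | zero =>
        rw [Fin.succ_succAbove_zero]
        refine (s_comp_π_0 f e m hem S (n + 1)).trans ?_
        rw [s_comp_π_0, ← Category.assoc]
        congr 1
        exact (map_t f e m hem _).symm
      | succ k =>
        rw [Fin.succ_succAbove_succ]
        refine (s_comp_π_succ f e m hem S (n + 1) _).trans ?_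
        rw [s_comp_π_succ]
        exact (δ_π f n i k).symm
    · refine (Category.assoc _ _ _).trans ((congrArg (s f e m hem S (n + 1) ≫ ·)
        (map_base f (SimplexCategory.δ i.succ).op)).trans ((s_comp_base f e m hem S (n + 1)).trans ?_))
      refine Eq.trans ?_ (Category.assoc _ _ _).symm
      rw [s_comp_base]
      exact (map_base f (SimplexCategory.δ i).op).symm
  s_comp_σ n i := by
    show s f e m hem S n ≫ f.cechNerve.map (SimplexCategory.σ i.succ).op =
      f.cechNerve.map (SimplexCategory.σ i).op ≫ s f e m hem S (n + 1)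
    apply WidePullback.hom_ext
    · intro j
      refine (Category.assoc _ _ _).trans ((congrArg (s f e m hem S n ≫ ·)
        (σ_π f (n + 1) i.succ j)).trans ?_)
      refine Eq.trans ?_ (Category.assoc _ _ _).symm
      induction j using Fin.cases with
      | zero =>
        rw [Fin.predAbove_right_zero]
        refine (s_comp_π_0 f e m hem S n).trans ?_
        rw [s_comp_π_0, ← Category.assoc]
        congr 1
        exact (map_t f e m hem _).symm
      | succ k =>
        rw [Fin.succ_predAbove_succ]
        refine (s_comp_π_succ f e m hem S n _).trans ?_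
        rw [s_comp_π_succ]
        exact (σ_π f n i k).symm
    · refine (Category.assoc _ _ _).trans ((congrArg (s f e m hem S n ≫ ·)
        (map_base f (SimplexCategory.σ i.succ).op)).trans ((s_comp_base f e m hem S n).trans ?_))
      refine Eq.trans ?_ (Category.assoc _ _ _).symm
      rw [s_comp_base]
      exact (map_base f (SimplexCategory.σ i).op).symm

end Groth.Agent.CechNerveED
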