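import Mathlib
import Groth.Agent.Lib.AugRes
import Groth.Agent.Lib.CechNerveED

set_option autoImplicit false
universe u
open CategoryTheory Limits Opposite Simplicial AlgebraicTopology

namespace Groth.Agent.CechNerveType

variable {S' S : Type u} (g : S' ⟶ S)

/-- the range -/
abbrev R : Type u := Set.range (g : S' → S)

/-- corestriction -/
def e : S' ⟶ R g := TypeCat.ofHom (Set.rangeFactorization g)

/-- inclusion -/
def m : R g ⟶ S := TypeCat.ofHom Subtype.val

lemma hem : e g ≫ m g = (Arrow.mk g).hom := by
  ext x
  rfl

instance : Mono (m g) := (mono_iff_injective _).2 Subtype.val_injective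

/-- the splitting -/
noncomputable def split : SplitEpi (e g) where
  section_ := TypeCat.ofHom (fun y => y.2.choose)
  id := by
    ext y
    exact y.2.choose_spec

/-- modified aug -/
noncomputable abbrev aug' : SimplicialObject.Augmented (Type u) :=
  CechNerveED.aug' (Arrow.mk g) (e g) (m g) (hem g)

/-- comparison to the actual augmented Cech nerve -/
noncomputable def φ : aug' g ⟶ (Arrow.mk g).augmentedCechNerve where
  left := 𝟙 _
  right := m g
  w := by
    apply NatTrans.ext
    funext n
    show 𝟙 _ ≫ WidePullback.base (fun _ : Fin (n.unop.len + 1) => (Arrow.mk g).hom) =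
      (WidePullback.π (fun _ : Fin (n.unop.len + 1) => (Arrow.mk g).hom) 0 ≫ e g) ≫ m g
    rw [Category.id_comp, Category.assoc, hem, WidePullback.π_arrow]
    rfl

theorem res :
    AugRes.Res (((SimplicialObject.Augmented.whiskering (Type u) AddCommGrpCat.{u}).obj
      AddCommGrpCat.free.{u}).obj (Arrow.mk g).augmentedCechNerve) := by
  have ed := CechNerveED.extraDegeneracy (Arrow.mk g) (e g) (m g) (hem g) (split g)
  have hq : QuasiIso (AlternatingFaceMapComplex.ε.app
      (((SimplicialObject.Augmented.whiskering (Type u) AddCommGrpCat.{u}).obj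
        AddCommGrpCat.free.{u}).obj (aug' g))) :=
    (ed.map AddCommGrpCat.free.{u}).homotopyEquiv.quasiIso_hom
  have h1 := ((AugRes.quasiIso_iff _).1 hq).1
  refine AugRes.res_of_map
    (((SimplicialObject.Augmented.whiskering (Type u) AddCommGrpCat.{u}).obj
      AddCommGrpCat.free.{u}).map (φ g)) ?_ ?_ h1
  · show IsIso (Functor.whiskerRight (𝟙 (Arrow.mk g).cechNerve) AddCommGrpCat.free.{u})
    rw [Functor.whiskerRight_id']
    infer_instance
  · exact inferInstanceAs (Mono (AddCommGrpCat.free.{u}.map (m g)))

end Groth.Agent.CechNerveType
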