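import Mathlib
import Groth.Agent.Lib.AugRes
import Groth.Agent.Lib.CechNerveMap
import Groth.Agent.Lib.CechNerveType

set_option autoImplicit false
universe u
open CategoryTheory Limits Opposite Simplicial AlgebraicTopology

namespace Groth.Agent.CechNerveSheaf

variable {C : Type u} [SmallCategory C] (J : GrothendieckTopology C)
  {K' K : Sheaf J (Type u)} (f : K' ⟶ K)

/-- sections over `U` of a sheaf of sets -/
abbrev E (U : Cᵒᵖ) : Sheaf J (Type u) ⥤ Type u :=
  sheafToPresheaf J _ ⋙ (evaluation Cᵒᵖ (Type u)).obj U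

/-- the presheaf-level augmented simplicial object -/
noncomputable abbrev Paug : SimplicialObject.Augmented (Cᵒᵖ ⥤ AddCommGrpCat.{u}) :=
  ((SimplicialObject.Augmented.whiskering _ _).obj
    (sheafToPresheaf J (Type u) ⋙ (Functor.whiskeringRight Cᵒᵖ _ _).obj AddCommGrpCat.free.{u})).obj
    (Arrow.mk f).augmentedCechNerve

lemma evaluation_jointly :
    JointlyReflectIsomorphisms (fun U : Cᵒᵖ => (evaluation Cᵒᵖ AddCommGrpCat.{u}).obj U) where
  isIso f _ := by
    have : ∀ U, IsIso (f.app U) := fun U =>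
      inferInstanceAs (IsIso (((evaluation Cᵒᵖ AddCommGrpCat.{u}).obj U).map f))
    exact NatIso.isIso_of_isIso_app f

lemma res_eval (U : Cᵒᵖ) :
    AugRes.Res (((SimplicialObject.Augmented.whiskering _ _).obj
      ((evaluation Cᵒᵖ AddCommGrpCat.{u}).obj U)).obj (Paug J f)) := by
  have h := CechNerveType.res ((E J U).map f)
  have e := CechNerveMap.augIso (E J U) (Arrow.mk f)
  exact AugRes.res_of_iso (((SimplicialObject.Augmented.whiskering _ _).obj
    AddCommGrpCat.free.{u}).mapIso e.symm) h

lemma res_Paug : AugRes.Res (Paug J f) :=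
  AugRes.res_of_jointly (fun U : Cᵒᵖ => (evaluation Cᵒᵖ AddCommGrpCat.{u}).obj U)
    (evaluation_jointly (C := C)) (Paug J f) (res_eval J f)

/-- the diagonal section -/
noncomputable def diag : K' ⟶ (Arrow.mk f).augmentedCechNerve.left.obj (op ⦋0⦌) :=
  WidePullback.lift (objs := fun _ : Fin (0 + 1) => (Arrow.mk f).left)
      (arrows := fun _ => (Arrow.mk f).hom) (Arrow.mk f).hom (fun _ => 𝟙 _)
      (fun _ => Category.id_comp _)

lemma diag_base : diag J f ≫ (Arrow.mk f).augmentedCechNerve.hom.app (op ⦋0⦌) = f :=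
  WidePullback.lift_base _ _ _ _

lemma epi_base [hf : Epi f] : Epi ((Arrow.mk f).augmentedCechNerve.hom.app (op ⦋0⦌)) := by
  have : Epi (diag J f ≫ (Arrow.mk f).augmentedCechNerve.hom.app (op ⦋0⦌)) := by
    rw [diag_base]
    exact hf
  exact epi_of_epi (diag J f) _

theorem quasiIso [Epi f] :
    QuasiIso ((AlternatingFaceMapComplex.ε (C := Sheaf J AddCommGrpCat.{u})).app
      (((SimplicialObject.Augmented.whiskering _ _).obj
        (Sheaf.composeAndSheafify J AddCommGrpCat.free.{u})).obj
        (Arrow.mk f).augmentedCechNerve)) := by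
  rw [AugRes.quasiIso_iff]
  constructor
  · exact AugRes.res_whisker (presheafToSheaf J AddCommGrpCat.{u}) (Paug J f) (res_Paug J f)
  · have := epi_base J f
    have h2 : Epi ((Sheaf.composeAndSheafify J AddCommGrpCat.free.{u}).map
        ((Arrow.mk f).augmentedCechNerve.hom.app (op ⦋0⦌))) := by
      have : (Sheaf.composeAndSheafify J AddCommGrpCat.free.{u}).IsLeftAdjoint :=
        (Sheaf.adjunction J AddCommGrpCat.adj).isLeftAdjoint
      infer_instance
    exact (inferInstance : Epi ((Sheaf.composeAndSheafify J AddCommGrpCat.free.{u}).map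
        ((Arrow.mk f).augmentedCechNerve.hom.app (op ⦋0⦌)) ≫ 𝟙 _))

end Groth.Agent.CechNerveSheaf
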