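import Mathlib
import Groth.Prelude.Def_CohCx
import Groth.Prelude.Def_CohSite
set_option autoImplicit false
universe u
open CategoryTheory Opposite Limits Abelian

namespace Groth.Agent.CohCxBasics

variable {C : Type u} [SmallCategory C] (J : GrothendieckTopology C)

/-- whiskering a `W`-morphism of presheaves of sets with the free abelian group functor gives a
`W`-morphism of abelian presheaves. -/
lemma W_whiskerRight_free {P Q : Cᵒᵖ ⥤ Type u} (η : P ⟶ Q) (hη : J.W η) :
    J.W (Functor.whiskerRight η AddCommGrpCat.free.{u}) := by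
  intro Z hZ
  let adjW := Adjunction.whiskerRight Cᵒᵖ AddCommGrpCat.adj.{u}
  have hZ' : Presheaf.IsSheaf J (Z ⋙ forget AddCommGrpCat.{u}) :=
    (Presheaf.isSheaf_iff_isSheaf_forget J Z (forget AddCommGrpCat.{u})).mp hZ
  have hbij := hη (Z ⋙ forget AddCommGrpCat.{u}) hZ'
  have hcomm : ∀ g : Q ⋙ AddCommGrpCat.free.{u} ⟶ Z,
      adjW.homEquiv P Z (Functor.whiskerRight η AddCommGrpCat.free.{u} ≫ g) =
        η ≫ adjW.homEquiv Q Z g := by
    intro g
    exact adjW.homEquiv_naturality_left η g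
  have : (fun g : Q ⋙ AddCommGrpCat.free.{u} ⟶ Z =>
      Functor.whiskerRight η AddCommGrpCat.free.{u} ≫ g) =
      (adjW.homEquiv P Z).symm ∘ (fun h => η ≫ h) ∘ (adjW.homEquiv Q Z) := by
    funext g
    simp only [Function.comp_apply]
    rw [← hcomm, Equiv.symm_apply_apply]
  rw [this]
  exact (adjW.homEquiv P Z).symm.bijective.comp (hbij.comp (adjW.homEquiv Q Z).bijective)

/-- the sheaf of sets associated with `U`. -/
noncomputable abbrev hSheaf (U : C) : Sheaf J (Type u) :=
  (presheafToSheaf J (Type u)).obj (yoneda.obj U)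

/-- free abelian sheaf on `h_U` is the free abelian sheaf on `U`. -/
noncomputable def freeSheafIso (U : C) :
    CohCx.freeSheaf J U ≅
      (presheafToSheaf J AddCommGrpCat.{u}).obj ((hSheaf J U).obj ⋙ AddCommGrpCat.free.{u}) :=
  haveI : IsIso ((presheafToSheaf J AddCommGrpCat.{u}).map
      (Functor.whiskerRight (toSheafify J (yoneda.obj U)) AddCommGrpCat.free.{u})) :=
    (J.W_iff _).mp (W_whiskerRight_free J _ (J.W_toSheafify _))
  asIso ((presheafToSheaf J AddCommGrpCat.{u}).map
      (Functor.whiskerRight (toSheafify J (yoneda.obj U)) AddCommGrpCat.free.{u}))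

theorem HU_subsingleton_of_isTotallyAcyclic (F : Sheaf J AddCommGrpCat.{u})
    (hF : CohCx.IsTotallyAcyclic F) (U : C) (p : ℕ) :
    Subsingleton (CohSite.HU F (p + 1) U) := by
  have h := hF (hSheaf J U) p
  refine subsingleton_of_forall_eq 0 (fun (x : Ext (CohCx.freeSheaf J U) F (p + 1)) => ?_)
  have hx : x = (Ext.mk₀ (freeSheafIso J U).hom).comp
      ((Ext.mk₀ (freeSheafIso J U).inv).comp x (zero_add _)) (zero_add _) := by
    rw [← Ext.comp_assoc_of_second_deg_zero, Ext.mk₀_comp_mk₀, Iso.hom_inv_id, Ext.mk₀_id_comp]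
  have h0 : (Ext.mk₀ (freeSheafIso J U).inv).comp x (zero_add (p + 1)) = 0 :=
    Subsingleton.elim (h := h) _ _
  rw [hx, h0, Ext.comp_zero]
  rfl

end Groth.Agent.CohCxBasics
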