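import Groth.Agent.Lib.Acyclic
import Groth.Agent.Lib.CohSiteBasics
import Groth.Agent.Lib.CohCxBasics
set_option autoImplicit false
universe u
open CategoryTheory Opposite Limits Abelian

namespace Groth.Agent.CohCxBasics

variable {C D : Type u} [SmallCategory C] [SmallCategory D]
  (J : GrothendieckTopology C) (K : GrothendieckTopology D) (u : D ⥤ C) [u.IsContinuous K J]

instance push_preservesFiniteLimits : PreservesFiniteLimits (CohSite.push J K u) := by
  have : PreservesLimitsOfSize.{u, u} (CohSite.push J K u) :=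
    (u.sheafAdjunctionContinuous AddCommGrpCat.{u} K J).rightAdjoint_preservesLimits
  infer_instance

variable {J}

lemma isTotallyAcyclic_of_injective (I : Sheaf J AddCommGrpCat.{u}) [Injective I] :
    CohCx.IsTotallyAcyclic I := fun _ _ =>
  subsingleton_of_forall_eq 0 (fun x => Ext.eq_zero_of_injective x)

lemma isTotallyAcyclic_X₃ (S : ShortComplex (Sheaf J AddCommGrpCat.{u})) (hS : S.ShortExact)
    (h1 : CohCx.IsTotallyAcyclic S.X₁) (h2 : CohCx.IsTotallyAcyclic S.X₂) :
    CohCx.IsTotallyAcyclic S.X₃ := by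
  intro L p
  refine subsingleton_of_forall_eq 0 (fun (x₃ : Ext _ S.X₃ (p + 1)) => ?_)
  have h0 : x₃.comp hS.extClass rfl = 0 := Subsingleton.elim (h := h1 L (p + 1)) _ _
  obtain ⟨x₂, hx₂⟩ := Ext.covariant_sequence_exact₃ _ hS x₃ rfl h0
  have : x₂ = 0 := Subsingleton.elim (h := h2 L p) _ _
  rw [← hx₂, this, Ext.zero_comp]

lemma surjective_of_isTotallyAcyclic (S : ShortComplex (Sheaf J AddCommGrpCat.{u}))
    (hS : S.ShortExact) (h1 : CohCx.IsTotallyAcyclic S.X₁) (U : C) :
    Function.Surjective (S.g.hom.app (op U)) := by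
  intro s
  obtain ⟨q, rfl⟩ := (CohSiteBasics.secEquiv U S.X₃).surjective s
  have hsub := HU_subsingleton_of_isTotallyAcyclic J S.X₁ h1 U 0
  have h0 : (Ext.mk₀ q).comp hS.extClass (zero_add 1) = 0 := Subsingleton.elim (h := hsub) _ _
  obtain ⟨x₂, hx₂⟩ := Ext.covariant_sequence_exact₃ _ hS (Ext.mk₀ q) rfl h0
  obtain ⟨b, rfl⟩ := (Ext.mk₀_bijective _ _).surjective x₂
  rw [Ext.mk₀_comp_mk₀] at hx₂
  have hb : b ≫ S.g = q := (Ext.mk₀_bijective _ _).injective hx₂
  refine ⟨CohSiteBasics.secEquiv U S.X₂ b, ?_⟩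
  rw [← CohSiteBasics.secEquiv_comp, hb]

variable (J)

theorem Rpush_isZero_of_isTotallyAcyclic (F : Sheaf J AddCommGrpCat.{u})
    (hF : CohCx.IsTotallyAcyclic F) (p : ℕ) :
    IsZero ((CohSite.Rpush J K u (p + 1)).obj F) := by
  refine Groth.Agent.Acyclic.isZero_rightDerived_succ (G := CohSite.push J K u)
    (P := fun F => CohCx.IsTotallyAcyclic F) ?_ ?_ ?_ F hF p
  · intro I hI
    exact isTotallyAcyclic_of_injective I
  · intro S hS h1 h2
    exact isTotallyAcyclic_X₃ S hS h1 h2
  · intro S hS h1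
    have : ∀ V : Dᵒᵖ, Epi (((CohSite.push J K u).map S.g).hom.app V) := by
      intro V
      rw [AddCommGrpCat.epi_iff_surjective]
      exact surjective_of_isTotallyAcyclic S hS h1 (u.obj V.unop)
    have : Epi ((CohSite.push J K u).map S.g).hom := NatTrans.epi_of_epi_app _
    exact Sheaf.Hom.epi_of_presheaf_epi _ _ _

end Groth.Agent.CohCxBasics
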