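import Groth.Agent.Lib.ExtCompare
set_option autoImplicit false
universe w v u
open CategoryTheory Limits Abelian

namespace Groth.Agent.DeltaCompare

open Groth.Agent.ExtCompare

/-- two surjective homomorphisms with the same kernel have isomorphic targets. -/
lemma nonempty_addEquiv_of_ker_eq {B C₁ C₂ : Type*} [AddCommGroup B] [AddCommGroup C₁]
    [AddCommGroup C₂] (c₁ : B →+ C₁) (c₂ : B →+ C₂) (h₁ : Function.Surjective c₁)
    (h₂ : Function.Surjective c₂) (h : ∀ b, c₁ b = 0 ↔ c₂ b = 0) : Nonempty (C₁ ≃+ C₂) := by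
  have hk : c₁.ker = c₂.ker := by
    ext b
    exact h b
  exact ⟨(QuotientAddGroup.quotientKerEquivOfSurjective c₁ h₁).symm.trans
    ((QuotientAddGroup.quotientAddEquivOfEq hk).trans
      (QuotientAddGroup.quotientKerEquivOfSurjective c₂ h₂))⟩

variable {𝒜 : Type u} [Category.{v} 𝒜] [Abelian 𝒜] [HasExt.{w} 𝒜] [EnoughInjectives 𝒜]
  (T : 𝒜 ⥤ CochainComplex AddCommGrpCat.{w} ℕ) [T.PreservesZeroMorphisms] (CA : 𝒜 → Prop)
  (hCA : ∀ F, CA F → CA (injSC F).X₃)
  (hT : ∀ F, CA F → ((injSC F).map T).ShortExact)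
  (hI : ∀ (I : 𝒜) [Injective I] (n : ℕ), IsZero ((T.obj I).homology (n + 1)))
  (A : 𝒜) (e : ∀ F : 𝒜, (A ⟶ F) ≃+ ((T.obj F).homology 0 : AddCommGrpCat.{w}))
  (he : ∀ {F G : 𝒜} (a : A ⟶ F) (φ : F ⟶ G),
    e G (a ≫ φ) = (HomologicalComplex.homologyMap (T.map φ) 0).hom (e F a))

include hT hI he in
theorem compare_one (F : 𝒜) (hF : CA F) :
    Nonempty (((T.obj F).homology 1 : AddCommGrpCat.{w}) ≃+ Ext A F 1) := by
  have hS : (injSC F).ShortExact := injSC_shortExact F
  have hSS := hT F hF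
  have hz1 : IsZero (((injSC F).map T).X₂.homology 1) := hI (injSC F).X₂ 0
  let c₁ : (A ⟶ (injSC F).X₃) →+ ((T.obj F).homology 1 : AddCommGrpCat.{w}) :=
    ((hSS.δ 0 1 rfl).hom).comp (e (injSC F).X₃).toAddMonoidHom
  let c₂ : (A ⟶ (injSC F).X₃) →+ Ext A (injSC F).X₁ 1 :=
    (δ hS A 0).comp (Ext.addEquiv₀.symm : (A ⟶ (injSC F).X₃) ≃+ Ext A (injSC F).X₃ 0).toAddMonoidHom
  refine nonempty_addEquiv_of_ker_eq c₁ c₂ ?_ ?_ ?_
  · have : Epi (hSS.δ 0 1 rfl) := hSS.epi_δ 0 1 rfl hz1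
    have hδ : Function.Surjective (hSS.δ 0 1 rfl).hom :=
      (AddCommGrpCat.epi_iff_surjective _).mp this
    exact hδ.comp (e (injSC F).X₃).surjective
  · exact (δ_surjective hS A (fun x => Ext.eq_zero_of_injective x)).comp
      (Ext.addEquiv₀.symm : (A ⟶ (injSC F).X₃) ≃+ Ext A (injSC F).X₃ 0).surjective
  · intro s
    have h2 : c₂ s = 0 ↔ ∃ b : A ⟶ (injSC F).X₂, b ≫ (injSC F).g = s := δ_ker hS A s
    refine Iff.trans ?_ h2.symm
    constructor
    · intro h0
      have hex := (ShortComplex.ab_exact_iff _).mp (hSS.homology_exact₃ 0 1 rfl)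
        (e (injSC F).X₃ s) h0
      obtain ⟨y, hy⟩ := hex
      obtain ⟨t, rfl⟩ := (e (injSC F).X₂).surjective y
      refine ⟨t, (e (injSC F).X₃).injective ?_⟩
      rw [he]
      exact hy
    · rintro ⟨t, rfl⟩
      show (hSS.δ 0 1 rfl).hom (e (injSC F).X₃ (t ≫ (injSC F).g)) = 0
      rw [he]
      exact ConcreteCategory.congr_hom (hSS.comp_δ 0 1 rfl) _

include hCA hT hI he in
theorem compare_succ : ∀ (p : ℕ) (F : 𝒜), CA F →
    Nonempty (((T.obj F).homology (p + 1) : AddCommGrpCat.{w}) ≃+ Ext A F (p + 1)) := by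
  intro p
  induction p with
  | zero => exact fun F hF => compare_one T CA hT hI A e he F hF
  | succ p ih =>
    intro F hF
    have hS : (injSC F).ShortExact := injSC_shortExact F
    have hSS := hT F hF
    have hz1 : IsZero (((injSC F).map T).X₂.homology (p + 1)) := hI (injSC F).X₂ p
    have hz2 : IsZero (((injSC F).map T).X₂.homology (p + 2)) := hI (injSC F).X₂ (p + 1)
    obtain ⟨e'⟩ := ih (injSC F).X₃ (hCA F hF)
    let e1 : ((T.obj (injSC F).X₃).homology (p + 1) : AddCommGrpCat.{w}) ≃+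
        ((T.obj F).homology (p + 2) : AddCommGrpCat.{w}) :=
      (hSS.δIso (p + 1) (p + 2) (by simp) hz1 hz2).addCommGroupIsoToAddEquiv
    have hb := δ_bijective hS A p (fun x => Ext.eq_zero_of_injective x)
      (fun x => Ext.eq_zero_of_injective x)
    exact ⟨e1.symm.trans (e'.trans (AddEquiv.ofBijective (δ hS A (p + 1)) hb))⟩

include hCA hT hI he in
/-- comparison of an effaceable δ-functor given by complexes with `Ext`. -/
theorem compare (p : ℕ) (F : 𝒜) (hF : CA F) :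
    Nonempty (((T.obj F).homology p : AddCommGrpCat.{w}) ≃+ Ext A F p) := by
  cases p with
  | zero => exact ⟨(e F).symm.trans Ext.addEquiv₀.symm⟩
  | succ p => exact compare_succ T CA hCA hT hI A e he p F hF

end Groth.Agent.DeltaCompare
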