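import Mathlib
set_option autoImplicit false
universe w
open CategoryTheory Limits

/-! `H⁰` of a cochain complex of abelian groups via an augmentation. -/

namespace Groth.Agent.H0Gen

variable (K : CochainComplex AddCommGrpCat.{w} ℕ) {B : AddCommGrpCat.{w}} (α : B ⟶ K.X 0)
  (hα : α ≫ K.d 0 1 = 0)

/-- the augmentation, to cycles. -/
noncomputable def toCycles : B ⟶ K.cycles 0 := K.liftCycles α 1 (by simp) hα

/-- the augmentation, to `H⁰`. -/
noncomputable def toH0 : B ⟶ K.homology 0 := toCycles K α hα ≫ K.homologyπ 0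

lemma toCycles_i : toCycles K α hα ≫ K.iCycles 0 = α :=
  HomologicalComplex.liftCycles_i _ _ _ _ _

lemma toH0_bijective (hinj : Function.Injective α.hom)
    (hsurj : ∀ x : K.X 0, (K.d 0 1).hom x = 0 → ∃ b, α.hom b = x) :
    Function.Bijective (toH0 K α hα).hom := by
  have hπ : Function.Bijective (K.homologyπ 0).hom :=
    (ConcreteCategory.isIso_iff_bijective _).mp inferInstance
  have hi : Function.Injective (K.iCycles 0).hom :=
    (AddCommGrpCat.mono_iff_injective _).mp inferInstance
  constructor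
  · intro s s' h
    apply hinj
    have h1 : (toCycles K α hα).hom s = (toCycles K α hα).hom s' := hπ.1 h
    have h2 := congrArg (K.iCycles 0).hom h1
    rw [← AddCommGrpCat.comp_apply, ← AddCommGrpCat.comp_apply, toCycles_i] at h2
    exact h2
  · intro z
    obtain ⟨c, rfl⟩ := hπ.2 z
    have hx : (K.d 0 1).hom ((K.iCycles 0).hom c) = 0 :=
      ConcreteCategory.congr_hom (K.iCycles_d 0 1) c
    obtain ⟨b, hb⟩ := hsurj _ hx
    refine ⟨b, ?_⟩
    show (K.homologyπ 0).hom ((toCycles K α hα).hom b) = _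
    congr 1
    apply hi
    rw [← hb, ← AddCommGrpCat.comp_apply, toCycles_i]

lemma toH0_naturality {K L : CochainComplex AddCommGrpCat.{w} ℕ} (φ : K ⟶ L)
    {B B' : AddCommGrpCat.{w}} (α : B ⟶ K.X 0) (hα : α ≫ K.d 0 1 = 0)
    (β : B' ⟶ L.X 0) (hβ : β ≫ L.d 0 1 = 0) (g : B ⟶ B') (h : α ≫ φ.f 0 = g ≫ β) :
    toH0 K α hα ≫ HomologicalComplex.homologyMap φ 0 = g ≫ toH0 L β hβ := by
  have h2 : toCycles K α hα ≫ HomologicalComplex.cyclesMap φ 0 = g ≫ toCycles L β hβ := by
    rw [← cancel_mono (L.iCycles 0)]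
    simp only [Category.assoc, HomologicalComplex.cyclesMap_i, toCycles_i]
    rw [← Category.assoc, toCycles_i, h]
  unfold toH0
  rw [Category.assoc, HomologicalComplex.homologyπ_naturality, ← Category.assoc, h2, Category.assoc]

end Groth.Agent.H0Gen
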