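import Mathlib
import Groth.Agent.Lib.AugRes
import Groth.Agent.Lib.DeltaCompare
import Groth.Agent.Lib.H0Gen

set_option autoImplicit false
universe w v u
open CategoryTheory Limits Opposite Simplicial AlgebraicTopology Abelian

namespace Groth.Agent.HomSimp

variable {𝒜 : Type u} [Category.{v} 𝒜] [Abelian 𝒜]

/-- the cochain complex `Hom(Y_•, F)`, functorially in `F`. -/
noncomputable def T (Y : SimplicialObject 𝒜) : 𝒜 ⥤ CochainComplex AddCommGrpCat.{v} ℕ :=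
  preadditiveYoneda ⋙ (Functor.whiskeringLeft _ _ _).obj Y.rightOp ⋙
    alternatingCofaceMapComplex AddCommGrpCat.{v}

lemma hom_sum_apply {M N : AddCommGrpCat.{v}} {ι : Type*} (s : Finset ι) (f : ι → (M ⟶ N)) (x : M) :
    (∑ i ∈ s, f i).hom x = ∑ i ∈ s, (f i).hom x := by
  have h : (∑ i ∈ s, f i).hom = ∑ i ∈ s, (f i).hom :=
    map_sum (AddCommGrpCat.homAddEquiv (M := M) (N := N)) f s
  rw [h, AddMonoidHom.finsetSum_apply]

variable (Y : SimplicialObject 𝒜)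

/-- the cosimplicial abelian group `Hom(Y_•, F)`. -/
noncomputable def cos (F : 𝒜) : CosimplicialObject AddCommGrpCat.{v} :=
  Y.rightOp ⋙ preadditiveYoneda.obj F

lemma T_obj (F : 𝒜) : (T Y).obj F =
    AlternatingCofaceMapComplex.obj (cos Y F) := rfl

lemma T_map_f {F G : 𝒜} (φ : F ⟶ G) (n : ℕ) (x : Y _⦋n⦌ ⟶ F) :
    (((T Y).map φ).f n).hom x = x ≫ φ := rfl

lemma cos_δ (F : 𝒜) (n : ℕ) (i : Fin (n + 2)) (x : Y _⦋n⦌ ⟶ F) :
    ((cos Y F).δ i).hom x = Y.δ i ≫ x := rfl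

set_option backward.isDefEq.respectTransparency false in
lemma T_d (F : 𝒜) (n : ℕ) (x : Y _⦋n⦌ ⟶ F) :
    (((T Y).obj F).d n (n + 1)).hom x = (AlternatingFaceMapComplex.obj Y).d (n + 1) n ≫ x := by
  rw [AlternatingFaceMapComplex.obj_d_eq, Preadditive.sum_comp]
  have h : ((T Y).obj F).d n (n + 1) = AlternatingCofaceMapComplex.objD (cos Y F) n := by
    exact CochainComplex.of_d (V := AddCommGrpCat.{v}) (fun n => (cos Y F).obj ⦋n⦌)
      (AlternatingCofaceMapComplex.objD (cos Y F)) n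
  rw [h, AlternatingCofaceMapComplex.objD, hom_sum_apply]
  refine Finset.sum_congr rfl fun i _ => ?_
  rw [Preadditive.zsmul_comp, ← cos_δ]
  rfl

lemma isZero_homology_of_injective (I : 𝒜) [Injective I] (n : ℕ)
    (h : (AlternatingFaceMapComplex.obj Y).ExactAt (n + 1)) :
    IsZero (((T Y).obj I).homology (n + 1)) := by
  rw [← HomologicalComplex.exactAt_iff_isZero_homology,
    HomologicalComplex.exactAt_iff' _ n (n + 1) (n + 2) (by simp) (by simp),
    ShortComplex.ab_exact_iff]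
  rw [HomologicalComplex.exactAt_iff' _ (n + 2) (n + 1) n (by simp) (by simp)] at h
  intro (x : Y _⦋n + 1⦌ ⟶ I) hx
  have hx' : (AlternatingFaceMapComplex.obj Y).d (n + 2) (n + 1) ≫ x = 0 :=
    (T_d Y I (n + 1) x).symm.trans hx
  refine ⟨h.descToInjective x hx', ?_⟩
  exact (T_d Y I n _).trans (h.comp_descToInjective x hx')

lemma exists_of_isZero_homology (F : 𝒜) (n : ℕ)
    (hz : IsZero (((T Y).obj F).homology (n + 1))) (c : Y _⦋n + 1⦌ ⟶ F)
    (hc : (AlternatingFaceMapComplex.obj Y).d (n + 2) (n + 1) ≫ c = 0) :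
    ∃ b : Y _⦋n⦌ ⟶ F, (AlternatingFaceMapComplex.obj Y).d (n + 1) n ≫ b = c := by
  rw [← HomologicalComplex.exactAt_iff_isZero_homology,
    HomologicalComplex.exactAt_iff' _ n (n + 1) (n + 2) (by simp) (by simp),
    ShortComplex.ab_exact_iff] at hz
  obtain ⟨b, hb⟩ := hz c ((T_d Y F (n + 1) c).trans hc)
  exact ⟨b, (T_d Y F n b).symm.trans hb⟩

lemma isZero_homology_iff (F : 𝒜) (n : ℕ) :
    IsZero (((T Y).obj F).homology (n + 1)) ↔ ∀ (c : Y _⦋n + 1⦌ ⟶ F),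
      (AlternatingFaceMapComplex.obj Y).d (n + 2) (n + 1) ≫ c = 0 →
      ∃ b : Y _⦋n⦌ ⟶ F, (AlternatingFaceMapComplex.obj Y).d (n + 1) n ≫ b = c := by
  refine ⟨fun hz c hc => exists_of_isZero_homology Y F n hz c hc, fun h => ?_⟩
  rw [← HomologicalComplex.exactAt_iff_isZero_homology,
    HomologicalComplex.exactAt_iff' _ n (n + 1) (n + 2) (by simp) (by simp),
    ShortComplex.ab_exact_iff]
  intro (c : Y _⦋n + 1⦌ ⟶ F) hc
  obtain ⟨b, hb⟩ := h c ((T_d Y F (n + 1) c).symm.trans hc)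
  exact ⟨b, (T_d Y F n b).trans hb⟩

instance : (T Y).PreservesZeroMorphisms where
  map_zero F G := by
    ext n : 1
    refine ConcreteCategory.hom_ext _ _ (fun (x : Y _⦋n⦌ ⟶ F) => ?_)
    exact (T_map_f Y (0 : F ⟶ G) n x).trans comp_zero

section H0

variable (X : SimplicialObject.Augmented 𝒜)

/-- the augmentation `Hom(X_{-1}, F) → Hom(X_0, F)`. -/
noncomputable def αHom (F : 𝒜) : AddCommGrpCat.of (X.right ⟶ F) ⟶ ((T X.left).obj F).X 0 :=
  AddCommGrpCat.ofHom (AddMonoidHom.mk' (fun a : X.right ⟶ F => (X.hom.app (op ⦋0⦌) ≫ a : X.left _⦋0⦌ ⟶ F))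
    (fun a b => Preadditive.comp_add _ _ _ _ a b))

lemma αHom_apply (F : 𝒜) (a : X.right ⟶ F) : (αHom X F).hom a = X.hom.app (op ⦋0⦌) ≫ a := rfl

lemma αHom_d (F : 𝒜) : αHom X F ≫ ((T X.left).obj F).d 0 1 = 0 := by
  refine ConcreteCategory.hom_ext _ _ (fun (a : X.right ⟶ F) => ?_)
  refine (T_d X.left F 0 (X.hom.app (op ⦋0⦌) ≫ a : X.left _⦋0⦌ ⟶ F)).trans ?_
  refine (Category.assoc _ _ _).symm.trans ?_
  refine (congrArg (· ≫ a) (AugRes.d_comp_aug X)).trans ?_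
  exact zero_comp

variable (hex : (AugRes.sc₀ X).Exact) (hepi : Epi (X.hom.app (op ⦋0⦌)))

include hex hepi in
lemma toH0_bijective (F : 𝒜) :
    Function.Bijective (H0Gen.toH0 _ (αHom X F) (αHom_d X F)).hom := by
  refine H0Gen.toH0_bijective _ _ _ ?_ ?_
  · intro (a : X.right ⟶ F) (b : X.right ⟶ F) (hab : X.hom.app (op ⦋0⦌) ≫ a = X.hom.app (op ⦋0⦌) ≫ b)
    exact (cancel_epi _).1 hab
  · intro (x : X.left _⦋0⦌ ⟶ F) hx
    have hx' : (AugRes.sc₀ X).f ≫ x = 0 := (T_d X.left F 0 x).symm.trans hx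
    have : Epi (AugRes.sc₀ X).g := hepi
    exact ⟨hex.desc x hx', hex.g_desc x hx'⟩

/-- `Hom(X_{-1}, F) ≃ H⁰(Hom(X_•, F))`. -/
noncomputable def eH0 (F : 𝒜) :
    (X.right ⟶ F) ≃+ (((T X.left).obj F).homology 0 : AddCommGrpCat.{v}) :=
  AddEquiv.ofBijective (H0Gen.toH0 _ (αHom X F) (αHom_d X F)).hom (toH0_bijective X hex hepi F)

lemma eH0_comp {F G : 𝒜} (a : X.right ⟶ F) (φ : F ⟶ G) :
    eH0 X hex hepi G (a ≫ φ) =
      (HomologicalComplex.homologyMap ((T X.left).map φ) 0).hom (eH0 X hex hepi F a) := by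
  have h := H0Gen.toH0_naturality ((T X.left).map φ) (αHom X F) (αHom_d X F) (αHom X G) (αHom_d X G)
    (AddCommGrpCat.ofHom (AddMonoidHom.mk' (fun a : X.right ⟶ F => a ≫ φ)
      (fun a b => Preadditive.add_comp _ _ _ a b φ)))
    (by
      refine ConcreteCategory.hom_ext _ _ (fun (a : X.right ⟶ F) => ?_)
      exact (Category.assoc _ _ _))
  exact (ConcreteCategory.congr_hom h a).symm

end H0

section Ext

variable [HasExt.{w} 𝒜]

lemma shortExact_map_T (S : ShortComplex 𝒜) (hS : S.ShortExact)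
    (h : ∀ (n : ℕ) (x : Ext (Y _⦋n⦌) S.X₁ 1), x = 0) : (S.map (T Y)).ShortExact := by
  apply HomologicalComplex.shortExact_of_degreewise_shortExact
  intro n
  have := hS.mono_f
  have hmono : Mono ((S.map (T Y)).map (HomologicalComplex.eval _ _ n)).f := by
    rw [AddCommGrpCat.mono_iff_injective]
    intro (x : Y _⦋n⦌ ⟶ S.X₁) (y : Y _⦋n⦌ ⟶ S.X₁) (hxy : x ≫ S.f = y ≫ S.f)
    exact (cancel_mono S.f).1 hxy
  have hepi : Epi ((S.map (T Y)).map (HomologicalComplex.eval _ _ n)).g := by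
    rw [AddCommGrpCat.epi_iff_surjective]
    intro (z : Y _⦋n⦌ ⟶ S.X₃)
    have h0 : (Ext.mk₀ z).comp hS.extClass (zero_add 1) = 0 := h n _
    obtain ⟨x₂, hx₂⟩ := Ext.covariant_sequence_exact₃ _ hS (Ext.mk₀ z) rfl h0
    obtain ⟨b, rfl⟩ := (Ext.mk₀_bijective _ _).surjective x₂
    rw [Ext.mk₀_comp_mk₀] at hx₂
    exact ⟨b, (Ext.mk₀_bijective _ _).injective hx₂⟩
  refine ShortComplex.ShortExact.mk ?_
  rw [ShortComplex.ab_exact_iff]
  intro (y : Y _⦋n⦌ ⟶ S.X₂) (hy : y ≫ S.g = 0)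
  exact ⟨hS.exact.lift y hy, hS.exact.lift_f y hy⟩

end Ext

section Compare

variable [HasExt.{v} 𝒜] [EnoughInjectives 𝒜]

open Groth.Agent.ExtCompare in
/-- If `X_• → X_{-1}` is a resolution and `CA` is a class of objects acyclic for all `Hom(X_n, -)`,
stable under cosyzygies, then `Hom(X_•, F)` computes `Ext(X_{-1}, F)` for `F` in `CA`. -/
theorem compare (X : SimplicialObject.Augmented 𝒜)
    (hq : QuasiIso (AlternatingFaceMapComplex.ε.app X)) (CA : 𝒜 → Prop)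
    (hCA : ∀ F, CA F → CA (injSC F).X₃)
    (hExt : ∀ F, CA F → ∀ (n : ℕ) (x : Ext (X.left _⦋n⦌) F 1), x = 0)
    (p : ℕ) (F : 𝒜) (hF : CA F) :
    Nonempty ((((T X.left).obj F).homology p : AddCommGrpCat.{v}) ≃+ Ext X.right F p) := by
  obtain ⟨⟨h1, h2⟩, h3⟩ := (AugRes.quasiIso_iff X).1 hq
  refine DeltaCompare.compare (T X.left) CA hCA ?_ ?_ X.right (eH0 X h2 h3)
    (fun a φ => eH0_comp X h2 h3 a φ) p F hF
  · intro G hG
    exact shortExact_map_T X.left _ (injSC_shortExact G) (hExt G hG)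
  · intro I _ n
    exact isZero_homology_of_injective X.left I n (h1 n)

end Compare

end Groth.Agent.HomSimp
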