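import Mathlib
import Groth.Prelude.Def_CohCx
import Groth.Agent.Lib.HomSimp
import Groth.Agent.Lib.CechNerveSheaf
import Groth.Agent.Lib.CohCxAcyclic

set_option autoImplicit false
universe u
open CategoryTheory Limits Opposite Simplicial AlgebraicTopology Abelian

namespace Groth.Agent.CechNerveCoh

variable {C : Type u} [SmallCategory C] {J : GrothendieckTopology C}
  {K' K : Sheaf J (Type u)} (f : K' ⟶ K)

/-- the augmented simplicial abelian sheaf `Z[K'_•] → Z[K]`. -/
noncomputable abbrev X : SimplicialObject.Augmented (Sheaf J AddCommGrpCat.{u}) :=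
  ((SimplicialObject.Augmented.whiskering _ _).obj
    (Sheaf.composeAndSheafify J AddCommGrpCat.free.{u})).obj (Arrow.mk f).augmentedCechNerve

lemma T_obj (F : Sheaf J AddCommGrpCat.{u}) :
    (HomSimp.T (X f).left).obj F = CohCx.cechNerveCx F f := rfl

open Groth.Agent.ExtCompare in
theorem nonempty_equiv [Epi f] (F : Sheaf J AddCommGrpCat.{u}) (hF : CohCx.IsTotallyAcyclic F) (p : ℕ) :
    Nonempty (((CohCx.cechNerveCx F f).homology p : AddCommGrpCat.{u}) ≃+ CohCx.HK K F p) := by
  refine HomSimp.compare (X f) (CechNerveSheaf.quasiIso J f) CohCx.IsTotallyAcyclic ?_ ?_ p F hF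
  · intro G hG
    exact CohCxBasics.isTotallyAcyclic_X₃ _ (injSC_shortExact G) hG
      (CohCxBasics.isTotallyAcyclic_of_injective _)
  · intro G hG n x
    exact Subsingleton.elim (h := hG ((Arrow.mk f).cechNerve.obj (op ⦋n⦌)) 0) _ _

end Groth.Agent.CechNerveCoh
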