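import Mathlib
set_option autoImplicit false
universe w v u
open CategoryTheory Limits Abelian

/-! Abstract dimension shifting. -/

namespace Groth.Agent.DimShift

variable {𝒜 : Type u} [Category.{v} 𝒜] [Abelian 𝒜] [HasExt.{w} 𝒜]

/-- Dimension shifting: if every object `G` of a class `CA` embeds in a short exact sequence
`0 → G → X₂ → X₃ → 0` with `X₂` having no higher `Ext` from the test objects, `X₃` again in the
class, and maps from test objects to `X₃` lifting to `X₂`, then the objects of the class have no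
higher `Ext` from the test objects. -/
theorem ext_eq_zero (B : 𝒜 → Prop) (CA : 𝒜 → Prop)
    (h : ∀ G, CA G → ∃ (X₂ X₃ : 𝒜) (f : G ⟶ X₂) (g : X₂ ⟶ X₃) (w : f ≫ g = 0),
      (ShortComplex.mk f g w).ShortExact ∧
      (∀ A, B A → ∀ (n : ℕ) (x : Ext A X₂ (n + 1)), x = 0) ∧
      CA X₃ ∧ ∀ A, B A → ∀ q : A ⟶ X₃, ∃ b : A ⟶ X₂, b ≫ g = q) :
    ∀ (n : ℕ) (G : 𝒜), CA G → ∀ A, B A → ∀ x : Ext A G (n + 1), x = 0 := by
  intro n
  induction n with
  | zero =>
    intro G hG A hA x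
    obtain ⟨X₂, X₃, f, g, w, hS, h2, h3, hl⟩ := h G hG
    obtain ⟨x₃, rfl⟩ := Ext.covariant_sequence_exact₁ A hS x (h2 A hA 0 _) rfl
    obtain ⟨q, rfl⟩ := (Ext.mk₀_bijective _ _).surjective x₃
    obtain ⟨b, rfl⟩ := hl A hA q
    have : (ShortComplex.mk f g w).g = g := rfl
    rw [← Ext.mk₀_comp_mk₀, Ext.comp_assoc_of_second_deg_zero]
    have h0 := hS.comp_extClass
    rw [this] at h0
    rw [h0, Ext.comp_zero]
  | succ n ih =>
    intro G hG A hA x
    obtain ⟨X₂, X₃, f, g, w, hS, h2, h3, hl⟩ := h G hG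
    obtain ⟨x₃, rfl⟩ := Ext.covariant_sequence_exact₁ A hS x (h2 A hA (n + 1) _) rfl
    rw [ih X₃ h3 A hA x₃, Ext.zero_comp]

end Groth.Agent.DimShift
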