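import Groth.Agent.Lib.DimShift
import Groth.Agent.Lib.CohCxAcyclic
import Groth.Agent.Lib.ExtCompare
set_option autoImplicit false
universe u
open CategoryTheory Limits Opposite Abelian

namespace Groth.Agent.PushTot

variable {C D : Type u} [SmallCategory C] [SmallCategory D]
  (J : GrothendieckTopology C) (K : GrothendieckTopology D) (u : D ⥤ C) [u.IsContinuous K J]

/-- the free abelian sheaf / underlying sheaf of sets adjunction. -/
noncomputable def freeAdj :
    Sheaf.composeAndSheafify J AddCommGrpCat.free.{u} ⊣ sheafCompose J (forget AddCommGrpCat.{u}) :=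
  Sheaf.adjunction J AddCommGrpCat.adj.{u}

/-- maps from the free sheaf on the pullback of `L` correspond to maps from the free sheaf on `L`
to the pushforward. -/
noncomputable def θ (L : Sheaf K (Type u)) (G : Sheaf J AddCommGrpCat.{u}) :
    ((Sheaf.composeAndSheafify J AddCommGrpCat.free.{u}).obj
        ((u.sheafPullback (Type u) K J).obj L) ⟶ G) ≃
      ((Sheaf.composeAndSheafify K AddCommGrpCat.free.{u}).obj L ⟶ (CohSite.push J K u).obj G) :=
  ((freeAdj J).homEquiv _ G).trans
    (((u.sheafAdjunctionContinuous (Type u) K J).homEquiv L _).trans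
      ((freeAdj K).homEquiv L ((CohSite.push J K u).obj G)).symm)

lemma θ_comp (L : Sheaf K (Type u)) {G G' : Sheaf J AddCommGrpCat.{u}}
    (a : (Sheaf.composeAndSheafify J AddCommGrpCat.free.{u}).obj
        ((u.sheafPullback (Type u) K J).obj L) ⟶ G) (φ : G ⟶ G') :
    θ J K u L G' (a ≫ φ) = θ J K u L G a ≫ (CohSite.push J K u).map φ := by
  simp only [θ, Equiv.trans_apply]
  rw [Adjunction.homEquiv_naturality_right, Adjunction.homEquiv_naturality_right]
  exact Adjunction.homEquiv_naturality_right_symm (freeAdj K) _ ((CohSite.push J K u).map φ)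

open Groth.Agent.ExtCompare Groth.Agent.CohCxBasics in
/-- if pushforward preserves injectives, it preserves totally acyclic sheaves. -/
theorem push_isTotallyAcyclic
    (hinj : ∀ (I : Sheaf J AddCommGrpCat.{u}), Injective I →
      Injective ((CohSite.push J K u).obj I))
    (F : Sheaf J AddCommGrpCat.{u}) (hF : CohCx.IsTotallyAcyclic F) :
    CohCx.IsTotallyAcyclic ((CohSite.push J K u).obj F) := by
  intro L p
  refine subsingleton_of_forall_eq 0 (fun x => ?_)
  refine DimShift.ext_eq_zero
    (B := fun A => ∃ L : Sheaf K (Type u),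
      A = (Sheaf.composeAndSheafify K AddCommGrpCat.free.{u}).obj L)
    (CA := fun G => ∃ F : Sheaf J AddCommGrpCat.{u}, CohCx.IsTotallyAcyclic F ∧
      G = (CohSite.push J K u).obj F) ?_ p _ ⟨F, hF, rfl⟩ _ ⟨L, rfl⟩ x
  rintro G ⟨F, hF, rfl⟩
  have hS := injSC_shortExact F
  have hlim : PreservesFiniteLimits (CohSite.push J K u) := inferInstance
  rw [Functor.preservesFiniteLimits_iff_forall_exact_map_and_mono] at hlim
  obtain ⟨hex, hmono⟩ := hlim _ hS
  have : Mono ((injSC F).map (CohSite.push J K u)).f := hmono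
  have : Epi ((injSC F).map (CohSite.push J K u)).g := by
    have : ∀ V : Dᵒᵖ, Epi (((CohSite.push J K u).map (injSC F).g).hom.app V) := by
      intro V
      rw [AddCommGrpCat.epi_iff_surjective]
      exact surjective_of_isTotallyAcyclic (injSC F) hS hF (u.obj V.unop)
    have : Epi ((CohSite.push J K u).map (injSC F).g).hom := NatTrans.epi_of_epi_app _
    exact Sheaf.Hom.epi_of_presheaf_epi _ _ ((CohSite.push J K u).map (injSC F).g)
  have hS' : ((injSC F).map (CohSite.push J K u)).ShortExact := ShortComplex.ShortExact.mk hex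
  refine ⟨_, _, (CohSite.push J K u).map (injSC F).f, (CohSite.push J K u).map (injSC F).g,
    ((injSC F).map (CohSite.push J K u)).zero, hS', ?_, ?_, ?_⟩
  · intro A _ n x
    have : Injective ((CohSite.push J K u).obj (injSC F).X₂) := hinj _ inferInstance
    exact Ext.eq_zero_of_injective x
  · exact ⟨(injSC F).X₃, isTotallyAcyclic_X₃ (injSC F) hS hF (isTotallyAcyclic_of_injective _), rfl⟩
  · rintro A ⟨L, rfl⟩ q
    have hsub : Subsingleton (Ext ((Sheaf.composeAndSheafify J AddCommGrpCat.free.{u}).obj
        ((u.sheafPullback (Type u) K J).obj L)) (injSC F).X₁ 1) :=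
      hF ((u.sheafPullback (Type u) K J).obj L) 0
    obtain ⟨b', hb'⟩ := (δ_ker hS _ ((θ J K u L (injSC F).X₃).symm q)).mp
      (@Subsingleton.elim _ hsub _ _)
    refine ⟨θ J K u L _ b', ?_⟩
    rw [← θ_comp, hb', Equiv.apply_symm_apply]

end Groth.Agent.PushTot
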