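import Mathlib

set_option autoImplicit false
universe u
open CategoryTheory Limits Opposite

namespace Groth.Agent.SheafTypeEpi

variable {C : Type u} [SmallCategory C] {J : GrothendieckTopology C}

lemma epi_pullback_fst {A B D : Sheaf J (Type u)} (a : A ⟶ D) (b : B ⟶ D) [Epi b] :
    Epi (pullback.fst a b) := by
  have hb : Sheaf.IsLocallySurjective b := (Sheaf.isLocallySurjective_iff_epi b).2 inferInstance
  rw [← Sheaf.isLocallySurjective_iff_epi]
  constructor
  intro U s
  have h1 := Presheaf.imageSieve_mem J b.hom (a.hom.app (op U) s)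
  refine J.superset_covering ?_ h1
  intro V g hg
  obtain ⟨t, ht⟩ := hg
  have hP := (IsPullback.of_hasPullback a b).map
    (sheafToPresheaf J (Type u) ⋙ (evaluation Cᵒᵖ (Type u)).obj (op V))
  have hn : a.hom.app (op V) (A.obj.map g.op s) = D.obj.map g.op (a.hom.app (op U) s) :=
    ConcreteCategory.congr_hom (a.hom.naturality g.op) s
  obtain ⟨r, hr1, hr2⟩ := Types.exists_of_isPullback hP (A.obj.map g.op s) t (hn.trans ht.symm)
  exact ⟨r, hr1⟩

end Groth.Agent.SheafTypeEpi
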