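import Mathlib
import Groth.Prelude.Def_CohCx
import Groth.Agent.Lib.CechNerveCoh
import Groth.Agent.Lib.SheafTypeEpi
import Groth.Agent.Lib.PushTotAcyclic
import Groth.Agent.Lib.DimShift

set_option autoImplicit false
universe u
open CategoryTheory Limits Opposite Simplicial AlgebraicTopology Abelian

namespace Groth.Agent.CechNerveFlasque

open Groth.Agent.CechNerveCoh

variable {C : Type u} [SmallCategory C] {J : GrothendieckTopology C}

/-- free abelian sheaf functor -/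
noncomputable abbrev Fr : Sheaf J (Type u) ⥤ Sheaf J AddCommGrpCat.{u} :=
  Sheaf.composeAndSheafify J AddCommGrpCat.free.{u}

/-- abstract diagram chase -/
lemma chase {𝒜 : Type*} [Category 𝒜] [Abelian 𝒜] (S : ShortComplex 𝒜) (hS : S.ShortExact)
    {X₂' X₁' X₀' A : 𝒜} (D₂ : X₂' ⟶ X₁') (D₁ : X₁' ⟶ X₀') (ε₀ : X₀' ⟶ A)
    (h21 : D₂ ≫ D₁ = 0) (h10 : D₁ ≫ ε₀ = 0) (hex : (ShortComplex.mk D₁ ε₀ h10).Exact) [Epi ε₀]
    (t₀ : X₀' ⟶ S.X₂) (s : A ⟶ S.X₃) (ht₀ : t₀ ≫ S.g = ε₀ ≫ s)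
    (hvan : ∀ c : X₁' ⟶ S.X₁, D₂ ≫ c = 0 → ∃ b : X₀' ⟶ S.X₁, D₁ ≫ b = c) :
    ∃ r : A ⟶ S.X₂, r ≫ S.g = s := by
  have := hS.mono_f
  have h0 : (D₁ ≫ t₀) ≫ S.g = 0 := by
    rw [Category.assoc, ht₀, ← Category.assoc, h10, zero_comp]
  have hc : hS.exact.lift (D₁ ≫ t₀) h0 ≫ S.f = D₁ ≫ t₀ := hS.exact.lift_f _ _
  have hc2 : D₂ ≫ hS.exact.lift (D₁ ≫ t₀) h0 = 0 := by
    rw [← cancel_mono S.f, Category.assoc, hc, zero_comp, ← Category.assoc, h21, zero_comp]
  obtain ⟨b, hb⟩ := hvan _ hc2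
  have ht₁ : D₁ ≫ (t₀ - b ≫ S.f) = 0 := by
    rw [Preadditive.comp_sub, ← Category.assoc, hb, hc, sub_self]
  have : Epi (ShortComplex.mk D₁ ε₀ h10).g := inferInstanceAs (Epi ε₀)
  refine ⟨hex.desc (t₀ - b ≫ S.f) ht₁, ?_⟩
  have h2 : ε₀ ≫ hex.desc (t₀ - b ≫ S.f) ht₁ = t₀ - b ≫ S.f := hex.g_desc _ ht₁
  rw [← cancel_epi ε₀, ← Category.assoc, h2, Preadditive.sub_comp, Category.assoc, S.zero,
    comp_zero, sub_zero, ht₀]

theorem exists_lift (S : ShortComplex (Sheaf J AddCommGrpCat.{u})) (hS : S.ShortExact)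
    (h1 : ∀ (K' K : Sheaf J (Type u)) (f : K' ⟶ K), Epi f →
      IsZero ((CohCx.cechNerveCx S.X₁ f).homology 1))
    (L : Sheaf J (Type u)) (s : Fr.obj L ⟶ S.X₃) : ∃ r : Fr.obj L ⟶ S.X₂, r ≫ S.g = s := by
  have := hS.mono_f
  have := hS.epi_g
  let adj := PushTot.freeAdj J
  let s' : L ⟶ (sheafCompose J (forget AddCommGrpCat.{u})).obj S.X₃ := adj.homEquiv _ _ s
  let p' := (sheafCompose J (forget AddCommGrpCat.{u})).map S.g
  have hp' : Epi p' := by
    have : Sheaf.IsLocallySurjective S.g := (Sheaf.isLocallySurjective_iff_epi' (φ := S.g)).2 inferInstance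
    have : Sheaf.IsLocallySurjective p' := inferInstance
    infer_instance
  let f : pullback s' p' ⟶ L := pullback.fst s' p'
  have hf : Epi f := SheafTypeEpi.epi_pullback_fst s' p'
  let t : Fr.obj (pullback s' p') ⟶ S.X₂ := (adj.homEquiv _ _).symm (pullback.snd s' p')
  have ht : t ≫ S.g = Fr.map f ≫ s := by
    apply (adj.homEquiv _ _).injective
    rw [Adjunction.homEquiv_naturality_right, Equiv.apply_symm_apply,
      Adjunction.homEquiv_naturality_left]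
    exact pullback.condition.symm
  obtain ⟨⟨h_res, h_ex⟩, h_epi⟩ := (AugRes.quasiIso_iff (X f)).1 (CechNerveSheaf.quasiIso J f)
  have hπ₀ : Fr.map (WidePullback.π (fun _ : Fin (0 + 1) => (Arrow.mk f).hom) 0) ≫ Fr.map f =
      (X f).hom.app (op ⦋0⦌) := by
    rw [← Functor.map_comp]
    have : WidePullback.π (fun _ : Fin (0 + 1) => (Arrow.mk f).hom) 0 ≫ f =
        WidePullback.base (fun _ : Fin (0 + 1) => (Arrow.mk f).hom) :=
      WidePullback.π_arrow _ _
    rw [this]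
    exact (Category.comp_id _).symm
  have : Epi ((X f).hom.app (op ⦋0⦌)) := h_epi
  refine chase S hS ((AlternatingFaceMapComplex.obj (X f).left).d 2 1)
    ((AlternatingFaceMapComplex.obj (X f).left).d 1 0) ((X f).hom.app (op ⦋0⦌))
    (HomologicalComplex.d_comp_d _ _ _ _) (AugRes.d_comp_aug (X f)) h_ex
    (Fr.map (WidePullback.π (fun _ : Fin (0 + 1) => (Arrow.mk f).hom) 0) ≫ t) s ?_ ?_
  · rw [Category.assoc, ht, ← Category.assoc]
    exact congrArg (· ≫ s) hπ₀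
  · intro c hc
    exact HomSimp.exists_of_isZero_homology (X f).left S.X₁ 0 (h1 _ _ f hf) c hc

/-- the Čech-acyclicity condition -/
def CA (G : Sheaf J AddCommGrpCat.{u}) : Prop :=
  ∀ (K' K : Sheaf J (Type u)) (f : K' ⟶ K), Epi f →
    ∀ q : ℕ, IsZero ((CohCx.cechNerveCx G f).homology (q + 1))

open Groth.Agent.ExtCompare in
lemma ext_one_eq_zero (G : Sheaf J AddCommGrpCat.{u}) (hG : CA G) (L : Sheaf J (Type u))
    (x : Ext (Fr.obj L) G 1) : x = 0 := by
  have hS := injSC_shortExact G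
  obtain ⟨x₃, rfl⟩ := Ext.covariant_sequence_exact₁ (Fr.obj L) hS x
    (Ext.eq_zero_of_injective _) rfl
  obtain ⟨q, rfl⟩ := (Ext.mk₀_bijective _ _).surjective x₃
  obtain ⟨b, rfl⟩ := exists_lift (injSC G) hS (fun K' K f hf => hG K' K f hf 0) L q
  rw [← Ext.mk₀_comp_mk₀, Ext.comp_assoc_of_second_deg_zero, hS.comp_extClass, Ext.comp_zero]
  rfl

open Groth.Agent.ExtCompare in
lemma CA_cokernel (G : Sheaf J AddCommGrpCat.{u}) (hG : CA G) : CA (injSC G).X₃ := by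
  intro K' K f hf q
  have hS := injSC_shortExact G
  obtain ⟨⟨h_res, -⟩, -⟩ := (AugRes.quasiIso_iff (X f)).1 (CechNerveSheaf.quasiIso J f)
  have hSS := HomSimp.shortExact_map_T (X f).left (injSC G) hS
    (fun n x => ext_one_eq_zero G hG _ x)
  have hex := hSS.homology_exact₃ (q + 1) (q + 2) rfl
  have hz1 : IsZero (((injSC G).map (HomSimp.T (X f).left)).X₂.homology (q + 1)) :=
    HomSimp.isZero_homology_of_injective (X f).left (injSC G).X₂ q (h_res q)
  have hz3 : IsZero (((injSC G).map (HomSimp.T (X f).left)).X₁.homology (q + 2)) :=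
    hG K' K f hf (q + 1)
  exact hex.isZero_of_both_zeros (hz1.eq_of_src _ _) (hz3.eq_of_tgt _ _)

open Groth.Agent.ExtCompare in
theorem isTotallyAcyclic (F : Sheaf J AddCommGrpCat.{u}) (hF : CA F) :
    CohCx.IsTotallyAcyclic F := by
  have key := DimShift.ext_eq_zero (𝒜 := Sheaf J AddCommGrpCat.{u})
    (fun A => ∃ L : Sheaf J (Type u), A = Fr.obj L) CA (by
      intro G hG
      refine ⟨(injSC G).X₂, (injSC G).X₃, (injSC G).f, (injSC G).g, (injSC G).zero,
        injSC_shortExact G, ?_, CA_cokernel G hG, ?_⟩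
      · intro A _ n x
        exact Ext.eq_zero_of_injective x
      · rintro A ⟨L, rfl⟩ q
        exact exists_lift (injSC G) (injSC_shortExact G) (fun K' K f hf => hG K' K f hf 0) L q)
  intro K p
  exact subsingleton_of_forall_eq 0 (fun x => key p F hF _ ⟨K, rfl⟩ x)

end Groth.Agent.CechNerveFlasque
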