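import Groth.Agent.Lib.PshExt
import Groth.Agent.Lib.CechCartan
set_option autoImplicit false
universe u
open CategoryTheory Limits Opposite Abelian

namespace Groth.Agent.PshExt

open Groth.Agent.CohSiteBasics

variable {C : Type u} [SmallCategory C] {J : GrothendieckTopology C} {X : C} (R : Sieve X)

/-- morphisms out of the free presheaf on `R` are families of sections over `R`. -/
noncomputable def fam (G : Sheaf (⊥ : GrothendieckTopology C) AddCommGrpCat.{u}) :
    (freeBot R.functor ⟶ G) ≃ (R.functor ⟶ G.obj ⋙ forget AddCommGrpCat.{u}) :=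
  ((sheafificationAdjunction (⊥ : GrothendieckTopology C) AddCommGrpCat.{u}).homEquiv
      (R.functor ⋙ AddCommGrpCat.free.{u}) G).trans
    ((Adjunction.whiskerRight Cᵒᵖ AddCommGrpCat.adj.{u}).homEquiv R.functor G.obj)

lemma fam_comp {G G' : Sheaf (⊥ : GrothendieckTopology C) AddCommGrpCat.{u}}
    (a : freeBot R.functor ⟶ G) (φ : G ⟶ G') :
    fam R G' (a ≫ φ) = fam R G a ≫ Functor.whiskerRight φ.hom (forget AddCommGrpCat.{u}) := by
  simp only [fam, Equiv.trans_apply]
  rw [Adjunction.homEquiv_naturality_right]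
  exact Adjunction.homEquiv_naturality_right _ _ _

lemma fam_comp_app {G G' : Sheaf (⊥ : GrothendieckTopology C) AddCommGrpCat.{u}}
    (a : freeBot R.functor ⟶ G) (φ : G ⟶ G') (V : Cᵒᵖ) (f : R.functor.obj V) :
    (fam R G' (a ≫ φ)).app V f = (φ.hom.app V).hom ((fam R G a).app V f) := by
  rw [fam_comp]
  rfl


/-- the family of restrictions of a section to a sieve. -/
def resFam (P : Cᵒᵖ ⥤ AddCommGrpCat.{u}) (s : P.obj (op X)) :
    R.functor ⟶ P ⋙ forget AddCommGrpCat.{u} where
  app V := TypeCat.ofHom (fun f => (P.map f.1.op).hom s)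
  naturality V V' k := by
    ext f
    show (P.map (k.unop ≫ f.1).op).hom s = (P.map k).hom ((P.map f.1.op).hom s)
    rw [op_comp, Functor.map_comp]
    rfl

lemma resFam_app (P : Cᵒᵖ ⥤ AddCommGrpCat.{u}) (s : P.obj (op X)) (V : Cᵒᵖ) (f : R.functor.obj V) :
    (resFam R P s).app V f = (P.map f.1.op).hom s := rfl

/-- short exact sequence built from the presheaf image. -/
lemma shortExact_image {𝒜 : Type*} [Category 𝒜] [Abelian 𝒜] (T : ShortComplex 𝒜) (hT : T.Exact)
    [Mono T.f] :
    (ShortComplex.mk T.f (Abelian.factorThruImage T.g) (by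
      rw [← cancel_mono (Abelian.image.ι T.g), Category.assoc, Abelian.image.fac, zero_comp,
        T.zero])).ShortExact := by
  let S' := ShortComplex.mk T.f (Abelian.factorThruImage T.g) (by
      rw [← cancel_mono (Abelian.image.ι T.g), Category.assoc, Abelian.image.fac, zero_comp,
        T.zero])
  let φ : S' ⟶ T :=
    { τ₁ := 𝟙 _
      τ₂ := 𝟙 _
      τ₃ := Abelian.image.ι T.g
      comm₁₂ := by
        show 𝟙 _ ≫ T.f = T.f ≫ 𝟙 _
        rw [Category.id_comp, Category.comp_id]
      comm₂₃ := by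
        show 𝟙 _ ≫ T.g = Abelian.factorThruImage T.g ≫ Abelian.image.ι T.g
        rw [Abelian.image.fac, Category.id_comp] }
  have : Epi φ.τ₁ := (inferInstance : Epi (𝟙 T.X₁))
  have : IsIso φ.τ₂ := (inferInstance : IsIso (𝟙 T.X₂))
  have : Mono φ.τ₃ := (inferInstance : Mono (Abelian.image.ι T.g))
  have : Mono S'.f := (inferInstance : Mono T.f)
  have : Epi S'.g := (inferInstance : Epi (Abelian.factorThruImage T.g))
  exact ShortComplex.ShortExact.mk ((ShortComplex.exact_iff_of_epi_of_isIso_of_mono φ).mpr hT)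


lemma zero_hom_app (G G' : Sheaf (⊥ : GrothendieckTopology C) AddCommGrpCat.{u}) (V : Cᵒᵖ)
    (x : G.obj.obj V) : ((0 : G ⟶ G').hom.app V).hom x = 0 := rfl

open Groth.Agent.ExtCompare in
/-- if `Ext¹` (in presheaves) out of the free presheaf on every covering sieve of `U` into the
kernel vanishes, then sections over `U` of the middle term surject onto those of the quotient. -/
theorem surjective_of_ext_sieve (S : ShortComplex (Sheaf J AddCommGrpCat.{u})) (hS : S.ShortExact)
    (U : C)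
    (h : ∀ (R : Sieve U), R ∈ J U →
      Subsingleton (Ext (freeBot R.functor) ((Ψ J).obj S.X₁) 1)) :
    Function.Surjective (S.g.hom.app (op U)).hom := by
  intro s
  have : Epi S.g := hS.epi_g
  obtain ⟨R, hRdef⟩ : ∃ R : Sieve U, R = Presheaf.imageSieve S.g.hom s := ⟨_, rfl⟩
  have hR : R ∈ J U := hRdef ▸ imageSieve_mem_of_epi S.g U s
  have hwit : ∀ (V : C) (f : V ⟶ U), R f → ∃ t : S.X₂.obj.obj (op V),
      (S.g.hom.app (op V)).hom t = (S.X₃.obj.map f.op).hom s := by
    intro V f hf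
    rw [hRdef] at hf
    exact hf
  have hlim : PreservesFiniteLimits (Ψ J) := inferInstance
  rw [Functor.preservesFiniteLimits_iff_forall_exact_map_and_mono] at hlim
  obtain ⟨hex, hmono⟩ := hlim S hS
  have : Mono (S.map (Ψ J)).f := hmono
  have hS' := shortExact_image (S.map (Ψ J)) hex
  -- the family of restrictions of `s`
  obtain ⟨a', ha'def⟩ : ∃ a' : freeBot R.functor ⟶ (Ψ J).obj S.X₃,
    fam R _ a' = resFam R S.X₃.obj s := ⟨(fam R _).symm _, Equiv.apply_symm_apply _ _⟩
  have ha' : a' ≫ cokernel.π (S.map (Ψ J)).g = 0 := by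
    have h0 : a' ≫ cokernel.π (S.map (Ψ J)).g = a' ≫ 0 := by
      apply (fam R _).injective
      apply NatTrans.ext
      funext V
      ext f
      refine (fam_comp_app R a' (cokernel.π (S.map (Ψ J)).g) V f).trans ?_
      refine Eq.trans ?_ (fam_comp_app R a' 0 V f).symm
      rw [ha'def]
      obtain ⟨t, ht⟩ := hwit V.unop f.1 f.2
      have e1 : (resFam R S.X₃.obj s).app V f = (S.g.hom.app V).hom t := ht.symm
      have hz : (S.map (Ψ J)).g ≫ cokernel.π (S.map (Ψ J)).g = 0 := cokernel.condition _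
      have h2 := congrArg (fun φ => (φ.hom.app V).hom t) hz
      refine (congrArg _ e1).trans (h2.trans ?_)
      exact (zero_hom_app ((Ψ J).obj S.X₂) _ V t).trans (zero_hom_app ((Ψ J).obj S.X₃) _ V _).symm
    rw [h0, comp_zero]
  have hsub := h R hR
  obtain ⟨b, hb⟩ := (δ_ker hS' (freeBot R.functor) (kernel.lift _ a' ha')).mp
    (@Subsingleton.elim _ hsub _ _)
  have hb' : b ≫ (S.map (Ψ J)).g = a' := by
    have h2 : b ≫ Abelian.factorThruImage (S.map (Ψ J)).g = kernel.lift _ a' ha' := hb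
    calc b ≫ (S.map (Ψ J)).g
        = b ≫ (Abelian.factorThruImage (S.map (Ψ J)).g ≫ Abelian.image.ι (S.map (Ψ J)).g) :=
          congrArg (fun z => b ≫ z) (Abelian.image.fac _).symm
      _ = (b ≫ Abelian.factorThruImage (S.map (Ψ J)).g) ≫ Abelian.image.ι (S.map (Ψ J)).g :=
          (Category.assoc _ _ _).symm
      _ = kernel.lift _ a' ha' ≫ kernel.ι _ := congrArg (fun z => z ≫ kernel.ι _) h2
      _ = a' := kernel.lift_ι _ _ _
  -- glue the family `fam R _ b`
  have hsh : Presieve.IsSheaf J (S.X₂.obj ⋙ forget AddCommGrpCat.{u}) :=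
    (isSheaf_iff_isSheaf_of_type J _).mp ((Presheaf.isSheaf_iff_isSheaf_forget J S.X₂.obj (forget _)).mp S.X₂.property)
  obtain ⟨t', ht', -⟩ := (Presieve.isSheafFor_iff_yonedaSheafCondition.mp (hsh R hR))
    (fam R ((Ψ J).obj S.X₂) b)
  have hsh3 : Presieve.IsSheaf J (S.X₃.obj ⋙ forget AddCommGrpCat.{u}) :=
    (isSheaf_iff_isSheaf_of_type J _).mp ((Presheaf.isSheaf_iff_isSheaf_forget J S.X₃.obj (forget _)).mp S.X₃.property)
  refine ⟨t'.app (op U) (𝟙 U), ?_⟩
  refine (hsh3 R hR).isSeparatedFor.ext ?_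
  intro V f hf
  -- naturality of `t'`
  have hnat : (S.X₂.obj.map f.op).hom (t'.app (op U) (𝟙 U)) = (fam R ((Ψ J).obj S.X₂) b).app (op V) ⟨f, hf⟩ := by
    have h1 := congrArg (fun φ => φ (𝟙 U)) (t'.naturality f.op)
    have h2 := congrArg (fun φ => (φ.app (op V)) ⟨f, hf⟩) ht'
    refine Eq.trans ?_ h2
    refine h1.symm.trans ?_
    show t'.app (op V) (f ≫ 𝟙 U) = t'.app (op V) f
    rw [Category.comp_id]
  have hg := fam_comp_app R b (S.map (Ψ J)).g (op V) ⟨f, hf⟩
  have hnat2 := congrArg (fun φ => φ (t'.app (op U) (𝟙 U))) (congrArg AddCommGrpCat.Hom.hom (S.g.hom.naturality f.op))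
  show (S.X₃.obj.map f.op).hom ((S.g.hom.app (op U)).hom (t'.app (op U) (𝟙 U))) = (S.X₃.obj.map f.op).hom s
  refine hnat2.symm.trans ?_
  show (S.g.hom.app (op V)).hom ((S.X₂.obj.map f.op).hom (t'.app (op U) (𝟙 U))) = _
  rw [hnat]
  refine hg.symm.trans ?_
  rw [hb']
  exact congrArg (fun φ => (φ.app (op V)) ⟨f, hf⟩) ha'def

/-- the vanishing condition on presheaf `Ext` out of covering sieves. -/
def SieveAcyclic (J : GrothendieckTopology C) (G : Sheaf J AddCommGrpCat.{u}) : Prop :=
  ∀ (X : C) (R : Sieve X), R ∈ J X → ∀ q : ℕ,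
    Subsingleton (Ext (freeBot R.functor) ((Ψ J).obj G) (q + 1))

lemma sieveAcyclic_X₃ (F : Sheaf J AddCommGrpCat.{u}) (hF : SieveAcyclic J F)
    (hsurj : ∀ U : C, Function.Surjective ((injSC F).g.hom.app (op U)).hom) :
    SieveAcyclic J (injSC F).X₃ := by
  intro X R hR q
  have hS := injSC_shortExact F
  have hlim : PreservesFiniteLimits (Ψ J) := inferInstance
  rw [Functor.preservesFiniteLimits_iff_forall_exact_map_and_mono] at hlim
  obtain ⟨hex, hmono⟩ := hlim _ hS
  have : Mono ((injSC F).map (Ψ J)).f := hmono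
  have : Epi ((injSC F).map (Ψ J)).g := epi_bot_of_surjective _ hsurj
  have hS' : ((injSC F).map (Ψ J)).ShortExact := ShortComplex.ShortExact.mk hex
  have : Injective ((injSC F).map (Ψ J)).X₂ := by
    show Injective ((Ψ J).obj (injSC F).X₂)
    infer_instance
  have h1 := hF X R hR (q + 1)
  refine ⟨fun x y => ?_⟩
  have hz : ∀ x : Ext (freeBot R.functor) ((Ψ J).obj (injSC F).X₃) (q + 1), x = 0 := by
    intro x
    have hx : x.comp hS'.extClass (rfl : q + 1 + 1 = q + 2) = 0 := @Subsingleton.elim _ h1 _ _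
    obtain ⟨x₂, hx₂⟩ := Ext.covariant_sequence_exact₃ (freeBot R.functor) hS' x rfl hx
    rw [← hx₂, Ext.eq_zero_of_injective x₂, Ext.zero_comp]
    rfl
  exact (hz x).trans (hz y).symm

theorem cAcyclic_of_sieveAcyclic (F : Sheaf J AddCommGrpCat.{u}) (hF : SieveAcyclic J F) :
    CAcyclic J F := by
  intro U q
  exact Groth.Agent.Cech.cartan_abstract Set.univ (SieveAcyclic J)
    (fun G hG V _ => surjective_of_ext_sieve (injSC G) (injSC_shortExact G) V
      (fun R hR => hG V R hR 0))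
    (fun G hG hs => sieveAcyclic_X₃ G hG (fun V => hs V (Set.mem_univ V)))
    q F hF U (Set.mem_univ U)

theorem sieveAcyclic_of_cAcyclic (F : Sheaf J AddCommGrpCat.{u}) (hF : CAcyclic J F) :
    SieveAcyclic J F := by
  intro X R hR q
  obtain ⟨e⟩ := nonempty_ext_sieve_equiv R hR F hF (q + 1)
  have := hF X q
  exact e.symm.toEquiv.subsingleton

end Groth.Agent.PshExt
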