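import Groth.Agent.Lib.DeltaCompare
import Groth.Agent.Lib.PshExtSieve
import Groth.Agent.Lib.CechH0
import Groth.Agent.Lib.CechInjSite
import Groth.Agent.Lib.H0Gen
set_option autoImplicit false
universe u
open CategoryTheory Limits Opposite Abelian

namespace Groth.Agent.CechPsh

open Groth.Agent.Cech Groth.Agent.PshExt

variable {C : Type u} [SmallCategory C] [HasPullbacks C] {X : C} {ι : Type u} (Y : ι → Over X)

/-- the sieve generated by the family. -/
abbrev R : Sieve X := Sieve.ofArrows (fun i => (Y i).left) (fun i => (Y i).hom)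

lemma mem_R_of_hom {W : Over X} {i : ι} (g : W ⟶ Y i) : (R Y).arrows W.hom := by
  rw [← Over.w g]
  exact (R Y).downward_closed (Sieve.ofArrows_mk _ _ i) _

lemma mem_R {n : ℕ} (a : Fin (n + 1) → ι) : (R Y).arrows (prodObj Y a).hom :=
  mem_R_of_hom Y (Pi.π (Y ∘ a) 0)

variable (F : Sheaf (⊥ : GrothendieckTopology C) AddCommGrpCat.{u})

/-- the restricted presheaf on `Over X`. -/
abbrev PX : (Over X)ᵒᵖ ⥤ AddCommGrpCat.{u} := (Over.forget X).op ⋙ F.obj

variable {Y F}

/-- evaluation of a map out of the free presheaf on the sieve at a member of the sieve. -/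
noncomputable def ev (a : freeBot (R Y).functor ⟶ F) (W : Over X) (hW : (R Y).arrows W.hom) :
    F.obj.obj (op W.left) :=
  (fam (R Y) F a).app (op W.left) ⟨W.hom, hW⟩

lemma map_ev (a : freeBot (R Y).functor ⟶ F) {W W' : Over X} (g : W' ⟶ W)
    (hW : (R Y).arrows W.hom) (hW' : (R Y).arrows W'.hom) :
    (F.obj.map g.left.op).hom (ev a W hW) = ev a W' hW' := by
  have h := congrArg (fun φ => φ (⟨W.hom, hW⟩ : (R Y).functor.obj (op W.left)))
    ((fam (R Y) F a).naturality g.left.op)
  refine h.symm.trans ?_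
  show (fam (R Y) F a).app (op W'.left) ⟨g.left ≫ W.hom, _⟩ = _
  unfold ev
  congr 1
  exact Subtype.ext (Over.w g)

lemma ev_comp {G : Sheaf (⊥ : GrothendieckTopology C) AddCommGrpCat.{u}}
    (a : freeBot (R Y).functor ⟶ F) (φ : F ⟶ G) (W : Over X) (hW : (R Y).arrows W.hom) :
    ev (a ≫ φ) W hW = (φ.hom.app (op W.left)).hom (ev a W hW) :=
  fam_comp_app (R Y) a φ (op W.left) ⟨W.hom, hW⟩

lemma ev_add (a b : freeBot (R Y).functor ⟶ F) (W : Over X) (hW : (R Y).arrows W.hom) :
    ev (a + b) W hW = ev a W hW + ev b W hW := by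
  have h : a + b = biprod.lift a b ≫ (biprod.fst + biprod.snd) := by
    rw [Preadditive.comp_add, biprod.lift_fst, biprod.lift_snd]
  rw [h, ev_comp, Sheaf.Hom.add_app]
  have h1 := ev_comp (biprod.lift a b) (biprod.fst : F ⊞ F ⟶ F) W hW
  have h2 := ev_comp (biprod.lift a b) (biprod.snd : F ⊞ F ⟶ F) W hW
  rw [biprod.lift_fst] at h1
  rw [biprod.lift_snd] at h2
  rw [h1, h2]
  rfl

/-- the 0-cochain of a map out of the free presheaf on the sieve. -/
noncomputable def α (a : freeBot (R Y).functor ⟶ F) : (cx Y (PX (X := X) F)).X 0 :=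
  mk (fun e => ev a (prodObj Y e) (mem_R Y e))

lemma comp_α (a : freeBot (R Y).functor ⟶ F) (e : Fin 1 → ι) :
    comp (α a) e = ev a (prodObj Y e) (mem_R Y e) := comp_mk _ _

lemma d_α (a : freeBot (R Y).functor ⟶ F) : ((cx Y (PX (X := X) F)).d 0 1).hom (α a) = 0 := by
  apply cochain_ext
  intro i₂
  rw [comp_d, Fin.sum_univ_two, Cech.comp_zero, comp_α, comp_α]
  simp only [Fin.val_zero, pow_zero, one_smul, Fin.val_one, pow_one, neg_smul]
  have h0 := map_ev a (face Y 0 i₂) (mem_R Y _) (mem_R Y i₂)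
  have h1 := map_ev a (face Y 1 i₂) (mem_R Y _) (mem_R Y i₂)
  show (F.obj.map (face Y 0 i₂).left.op).hom _ + -((F.obj.map (face Y 1 i₂).left.op).hom _) = 0
  rw [h0, h1]
  exact add_neg_cancel _

lemma α_add (a b : freeBot (R Y).functor ⟶ F) : α (a + b) = α a + α b := by
  apply cochain_ext
  intro e
  rw [comp_add, comp_α, comp_α, comp_α]
  exact ev_add a b _ _

lemma α_comp {G : Sheaf (⊥ : GrothendieckTopology C) AddCommGrpCat.{u}}
    (a : freeBot (R Y).functor ⟶ F) (φ : F ⟶ G) :
    α (a ≫ φ) = (((cechComplexFunctor Y).map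
      (Functor.whiskerLeft (Over.forget X).op φ.hom)).f 0).hom (α a) := by
  apply cochain_ext
  intro e
  rw [Cech.comp_map, comp_α, comp_α, ev_comp]
  rfl

lemma ev_eq_of_hom (a : freeBot (R Y).functor ⟶ F) {W : Over X} {i : ι} (g : W ⟶ Y i)
    (hW : (R Y).arrows W.hom) :
    ev a W hW = (F.obj.map (Pi.lift (fun _ : Fin 1 => g) :
      W ⟶ prodObj Y (fun _ : Fin 1 => i)).left.op).hom (comp (α a) (fun _ => i)) := by
  rw [comp_α, map_ev]

lemma α_injective : Function.Injective (α (Y := Y) (F := F)) := by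
  intro a a' h
  apply (fam (R Y) F).injective
  apply NatTrans.ext
  funext V
  ext ⟨f, hf⟩
  obtain ⟨i, g, hfg⟩ := (Sieve.mem_ofArrows_iff _ _ _).mp hf
  have h1 := ev_eq_of_hom a (W := Over.mk f) (i := i) (Over.homMk g hfg.symm) hf
  have h2 := ev_eq_of_hom a' (W := Over.mk f) (i := i) (Over.homMk g hfg.symm) hf
  rw [h] at h1
  exact h1.trans h2.symm

section Surj

variable (x : (cx Y (PX (X := X) F)).X 0)

/-- value on an arrow of the sieve via a chosen factorisation. -/
noncomputable def zval {V : C} (f : V ⟶ X) (hf : (R Y).arrows f) : F.obj.obj (op V) :=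
  (F.obj.map ((Sieve.mem_ofArrows_iff _ _ _).mp hf).choose_spec.choose.op).hom
    (sec0 x (fun _ => ((Sieve.mem_ofArrows_iff _ _ _).mp hf).choose))

variable (hx : ((cx Y (PX (X := X) F)).d 0 1).hom x = 0)

include hx in
lemma zval_eq {V : C} (f : V ⟶ X) (hf : (R Y).arrows f) (i : ι) (g : V ⟶ (Y i).left)
    (h : f = g ≫ (Y i).hom) :
    zval x f hf = (F.obj.map g.op).hom (sec0 x (fun _ => i)) :=
  compatible x hx (W := Over.mk f)
    (Over.homMk ((Sieve.mem_ofArrows_iff _ _ _).mp hf).choose_spec.choose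
      ((Sieve.mem_ofArrows_iff _ _ _).mp hf).choose_spec.choose_spec.symm :
        Over.mk f ⟶ Y ((Sieve.mem_ofArrows_iff _ _ _).mp hf).choose)
    (Over.homMk g h.symm : Over.mk f ⟶ Y i)

include hx in
/-- the family of sections on the sieve attached to a 0-cocycle. -/
noncomputable def τ : (R Y).functor ⟶ F.obj ⋙ forget AddCommGrpCat.{u} where
  app V := TypeCat.ofHom (fun f => zval x f.1 f.2)
  naturality V V' k := by
    ext ⟨f, hf⟩
    obtain ⟨i, g, hfg⟩ := (Sieve.mem_ofArrows_iff _ _ _).mp hf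
    show zval x (k.unop ≫ f) ((R Y).downward_closed hf k.unop) = (F.obj.map k).hom (zval x f hf)
    rw [zval_eq x hx f hf i g hfg,
      zval_eq x hx (k.unop ≫ f) ((R Y).downward_closed hf k.unop) i (k.unop ≫ g)
        (by rw [hfg, Category.assoc]),
      op_comp, Functor.map_comp]
    rfl

lemma α_τ : α ((fam (R Y) F).symm (τ x hx)) = x := by
  apply cochain_ext
  intro e
  obtain ⟨i, rfl⟩ : ∃ i, e = fun _ => i :=
    ⟨e 0, funext (fun b => by rw [Fin.fin_one_eq_zero b])⟩
  rw [comp_α, comp_eq_map_sec0]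
  unfold ev
  rw [Equiv.apply_symm_apply]
  show zval x (prodObj Y fun _ : Fin 1 => i).hom (mem_R Y _) = _
  rw [zval_eq x hx _ (mem_R Y _) i (Pi.π (Y ∘ fun _ : Fin 1 => i) 0).left (Over.w _).symm]
  rfl

end Surj

omit [HasPullbacks C] in
/-- short exact sequences of presheaves (sheaves for the trivial topology) are sectionwise
short exact. -/
lemma sections_shortExact_bot (S : ShortComplex (Sheaf (⊥ : GrothendieckTopology C) AddCommGrpCat.{u}))
    (hS : S.ShortExact) (V : Cᵒᵖ) :
    Function.Injective (S.f.hom.app V).hom ∧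
    (∀ y, (S.g.hom.app V).hom y = 0 → ∃ z, (S.f.hom.app V).hom z = y) ∧
    Function.Surjective (S.g.hom.app V).hom := by
  have : (sheafToPresheaf (⊥ : GrothendieckTopology C) AddCommGrpCat.{u}).IsEquivalence :=
    (sheafBotEquivalence AddCommGrpCat.{u}).isEquivalence_functor
  let Γ : Sheaf (⊥ : GrothendieckTopology C) AddCommGrpCat.{u} ⥤ AddCommGrpCat.{u} :=
    sheafToPresheaf _ _ ⋙ (evaluation Cᵒᵖ AddCommGrpCat.{u}).obj V
  have : Γ.Additive := by dsimp only [Γ]; infer_instance
  have : PreservesFiniteLimits Γ := by dsimp only [Γ]; infer_instance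
  have : PreservesFiniteColimits Γ := by dsimp only [Γ]; infer_instance
  have h := hS.map_of_exact Γ
  have hm : Mono (S.map Γ).f := h.mono_f
  have he : Epi (S.map Γ).g := h.epi_g
  refine ⟨(AddCommGrpCat.mono_iff_injective _).mp hm, ?_, (AddCommGrpCat.epi_iff_surjective _).mp he⟩
  exact (ShortComplex.ab_exact_iff _).mp h.exact

variable (Y) in
/-- the Čech complex functor on presheaves. -/
noncomputable def T : Sheaf (⊥ : GrothendieckTopology C) AddCommGrpCat.{u} ⥤
    CochainComplex AddCommGrpCat.{u} ℕ :=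
  sheafToPresheaf _ _ ⋙ (Functor.whiskeringLeft _ _ _).obj (Over.forget X).op ⋙
    cechComplexFunctor Y

instance : (T Y).PreservesZeroMorphisms where
  map_zero F G := by
    show (cechComplexFunctor Y).map (Functor.whiskerLeft (Over.forget X).op (0 : F ⟶ G).hom) = 0
    have : Functor.whiskerLeft (Over.forget X).op (0 : F ⟶ G).hom = 0 := rfl
    rw [this, map_zero']

variable (Y F) in
/-- `α` as a morphism of abelian groups. -/
noncomputable def αHom : AddCommGrpCat.of (freeBot (R Y).functor ⟶ F) ⟶ ((T Y).obj F).X 0 :=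
  AddCommGrpCat.ofHom (AddMonoidHom.mk' (α (Y := Y) (F := F)) α_add)

lemma αHom_d : αHom Y F ≫ ((T Y).obj F).d 0 1 = 0 := by
  refine ConcreteCategory.hom_ext _ _ (fun a => ?_)
  exact d_α a

variable (Y F) in
/-- maps out of the free presheaf on the sieve are `Ȟ⁰`. -/
noncomputable def eH0 : (freeBot (R Y).functor ⟶ F) ≃+ (((T Y).obj F).homology 0 : AddCommGrpCat.{u}) :=
  AddEquiv.ofBijective (H0Gen.toH0 ((T Y).obj F) (αHom Y F) αHom_d).hom
    (H0Gen.toH0_bijective _ _ _ α_injective (fun x hx => ⟨_, α_τ x hx⟩))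

lemma eH0_comp {G : Sheaf (⊥ : GrothendieckTopology C) AddCommGrpCat.{u}}
    (a : freeBot (R Y).functor ⟶ F) (φ : F ⟶ G) :
    eH0 Y G (a ≫ φ) = (HomologicalComplex.homologyMap ((T Y).map φ) 0).hom (eH0 Y F a) := by
  have h := H0Gen.toH0_naturality ((T Y).map φ) (αHom Y F) αHom_d (αHom Y G) αHom_d
    (AddCommGrpCat.ofHom (AddMonoidHom.mk' (fun a : freeBot (R Y).functor ⟶ F => a ≫ φ)
      (fun a b => Preadditive.add_comp _ _ _ a b φ)))
    (by
      refine ConcreteCategory.hom_ext _ _ (fun a => ?_)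
      exact (α_comp a φ).symm)
  exact (ConcreteCategory.congr_hom h a).symm

/-- Čech cohomology of a presheaf is `Ext` out of the free presheaf on the generated sieve. -/
theorem nonempty_cech_equiv_ext (q : ℕ) :
    Nonempty ((((T Y).obj F).homology q : AddCommGrpCat.{u}) ≃+
      Ext (freeBot (R Y).functor) F q) := by
  refine DeltaCompare.compare (T Y) (fun _ => True) (fun _ _ => trivial) ?_ ?_
    (freeBot (R Y).functor) (eH0 Y) (fun a φ => eH0_comp a φ) q F trivial
  · intro G _
    have hS := ExtCompare.injSC_shortExact G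
    exact mapSC_shortExact (U := Y)
      ((ExtCompare.injSC G).map (sheafToPresheaf _ _ ⋙
        (Functor.whiskeringLeft _ _ _).obj (Over.forget X).op))
      (fun n a => (sections_shortExact_bot _ hS _).1)
      (fun n a => (sections_shortExact_bot _ hS _).2.1)
      (fun n a => (sections_shortExact_bot _ hS _).2.2)
  · intro I _ n
    have h1 := injective_sheaf_obj (⊥ : GrothendieckTopology C) I
    have h2 := injective_over_restr X I.obj
    exact isZero_homology_of_injective (P := (Over.forget X).op ⋙ I.obj) Y n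

end Groth.Agent.CechPsh
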