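import Mathlib
import Groth.Prelude.Def_CohCx
set_option autoImplicit false
universe u
open CategoryTheory Limits Opposite

namespace Groth.Agent.OverPost

variable {C : Type u} [SmallCategory C] {D : Type u} [SmallCategory D] [HasPullbacks C]
  (F : C ⥤ D) [PreservesLimitsOfShape WalkingCospan F] (X : C)

instance : PreservesLimitsOfShape (Discrete WalkingPair) (Over.post F (X := X)) := by
  have : PreservesLimitsOfShape (WidePullbackShape WalkingPair) F :=
    (inferInstance : PreservesLimitsOfShape WalkingCospan F)
  infer_instance

lemma preservesTerminal : PreservesLimit (Functor.empty.{0} (Over X)) (Over.post F (X := X)) := by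
  apply preservesLimit_of_preserves_limit_cone (Over.mkIdTerminal (X := X))
  apply (isLimitMapConeEmptyConeEquiv _ _).symm _
  have e : (Over.post F (X := X)).obj (Over.mk (𝟙 X)) = Over.mk (𝟙 (F.obj X)) := by
    show Over.mk (F.map (𝟙 X)) = Over.mk (𝟙 (F.obj X))
    rw [F.map_id]
  rw [e]
  exact Over.mkIdTerminal

instance : PreservesFiniteProducts (Over.post F (X := X)) := by
  have := preservesTerminal F X
  have : PreservesLimitsOfShape (Discrete PEmpty.{1}) (Over.post F (X := X)) :=
    preservesLimitsOfShape_pempty_of_preservesTerminal _
  exact PreservesFiniteProducts.of_preserves_binary_and_terminal _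

end Groth.Agent.OverPost
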