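import Groth.Agent.Lib.CechMap
import Groth.Agent.Lib.OverPost
import Groth.Agent.Lib.CechCartan
set_option autoImplicit false
universe u
open CategoryTheory Limits Opposite

namespace Groth.Agent.Cech

variable {C D : Type u} [SmallCategory C] [SmallCategory D] [HasPullbacks C] [HasPullbacks D]

/-- the restriction along a fibre-product preserving functor of an injective sheaf is
Čech-acyclic for all families. -/
theorem cechH_push_injective (K : GrothendieckTopology D) (u : C ⥤ D)
    [PreservesLimitsOfShape WalkingCospan u] (I : Sheaf K AddCommGrpCat.{u}) [Injective I]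
    (U : C) {ι : Type u} (Y : ι → Over U) (p : ℕ) :
    IsZero (CohCx.cechH (u.op ⋙ I.obj) Y (p + 1)) := by
  have h1 := injective_sheaf_obj K I
  have h2 := injective_over_restr (u.obj U) I.obj
  have h := isZero_homology_of_injective (P := (Over.forget (u.obj U)).op ⋙ I.obj)
    (fun i => (Over.post u (X := U)).obj (Y i)) p
  let e := cxIso (Over.post u (X := U)) Y ((Over.forget (u.obj U)).op ⋙ I.obj)
  exact h.of_iso ((HomologicalComplex.homologyFunctor _ _ (p + 1)).mapIso e)

/-- Cartan's criterion, for all covering families. -/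
theorem cartan_site_all (J : GrothendieckTopology C) (F : Sheaf J AddCommGrpCat.{u})
    (h3 : ∀ (U : C) (ι : Type u) (Y : ι → Over U),
      Sieve.ofArrows (fun i => (Y i).left) (fun i => (Y i).hom) ∈ J U →
      ∀ p : ℕ, IsZero (CohCx.cechH F.obj Y (p + 1)))
    (U : C) (p : ℕ) : Subsingleton (CohSite.HU F (p + 1) U) := by
  refine cartan_site (J := J) Set.univ
    (fun U ι Y => Sieve.ofArrows (fun i => (Y i).left) (fun i => (Y i).hom) ∈ J U)
    (fun U ι Y hc => ⟨Set.mem_univ _, hc, fun _ _ => Set.mem_univ _⟩) ?_ F h3 U (Set.mem_univ _) p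
  intro U _ T hT
  refine ⟨(Σ V : C, {f : V ⟶ U // T.arrows f}), fun i => Over.mk i.2.1, ?_, fun i => i.2.2⟩
  have : Sieve.ofArrows (fun i : (Σ V : C, {f : V ⟶ U // T.arrows f}) => (Over.mk i.2.1).left)
      (fun i => (Over.mk i.2.1).hom) = T := by
    apply le_antisymm
    · rw [Sieve.ofArrows, Sieve.generate_le_iff]
      rintro V f ⟨i⟩
      exact i.2.2
    · intro V f hf
      exact Sieve.ofArrows_mk _ _ (⟨V, f, hf⟩ : Σ V : C, {f : V ⟶ U // T.arrows f})
  rw [this]
  exact hT

end Groth.Agent.Cech
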