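import Groth.Agent.Lib.CechPush
import Groth.Agent.Lib.ExtCompare
import Groth.Agent.Lib.CohCxAcyclic
set_option autoImplicit false
universe u
open CategoryTheory Limits Opposite Abelian

namespace Groth.Agent.Cech

variable {C D : Type u} [SmallCategory C] [SmallCategory D]
  (J : GrothendieckTopology C) (K : GrothendieckTopology D) (u : C ⥤ D)
  [u.IsContinuous J K] [u.IsCocontinuous J K]

instance push_preservesFiniteColimits : PreservesFiniteColimits (CohSite.push K J u) := by
  have : PreservesColimitsOfSize.{u, u} (CohSite.push K J u) :=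
    (u.sheafAdjunctionCocontinuous AddCommGrpCat.{u} J K).leftAdjoint_preservesColimits
  infer_instance

open Groth.Agent.CohSiteBasics

/-- sections of `F` over `u U` are sections of `g⁻¹F` over `U`. -/
noncomputable def θpush (U : C) (F : Sheaf K AddCommGrpCat.{u}) :
    (freeSheaf K (u.obj U) ⟶ F) ≃ (freeSheaf J U ⟶ (CohSite.push K J u).obj F) :=
  (secEquiv (u.obj U) F).trans (secEquiv U ((CohSite.push K J u).obj F)).symm

lemma θpush_comp (U : C) {F G : Sheaf K AddCommGrpCat.{u}} (a : freeSheaf K (u.obj U) ⟶ F)
    (φ : F ⟶ G) :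
    θpush J K u U G (a ≫ φ) = θpush J K u U F a ≫ (CohSite.push K J u).map φ := by
  apply (secEquiv U ((CohSite.push K J u).obj G)).injective
  rw [secEquiv_comp]
  simp only [θpush, Equiv.trans_apply]
  rw [secEquiv_comp]
  exact (Equiv.apply_symm_apply _ _).trans (congrArg _ (Equiv.apply_symm_apply _ _).symm)

theorem HU_push_equiv [HasPullbacks C] [HasPullbacks D] [PreservesLimitsOfShape WalkingCospan u]
    (F : Sheaf K AddCommGrpCat.{u}) (U : C) (p : ℕ) :
    Nonempty (CohSite.HU ((CohSite.push K J u).obj F) p U ≃+ CohSite.HU F p (u.obj U)) := by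
  obtain ⟨e⟩ := Groth.Agent.ExtCompare.compare (CohSite.push K J u) (freeSheaf K (u.obj U))
    (freeSheaf J U) (θpush J K u U) (θpush_comp J K u U)
    (fun I _ m x => by
      have := cartan_site_all J ((CohSite.push K J u).obj I)
        (fun U ι Y _ p => cechH_push_injective K u I U Y p) U m
      exact @Subsingleton.elim _ this _ _) p F
  exact ⟨e.symm⟩

end Groth.Agent.Cech
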