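import Groth.Agent.Lib.CechInjMap
import Groth.Agent.Lib.CechPushEquiv
set_option autoImplicit false
universe u
open CategoryTheory Limits Opposite Abelian

namespace Groth.Agent.Cech

variable {C D : Type u} [SmallCategory C] [SmallCategory D] [HasPullbacks C]

/-- the restriction along a fibre-product preserving functor of an injective sheaf is
Čech-acyclic for all families (no fibre products needed in the target). -/
theorem cechH_push_injective' (K : GrothendieckTopology D) (u : C ⥤ D)
    [PreservesLimitsOfShape WalkingCospan u] (I : Sheaf K AddCommGrpCat.{u}) [Injective I]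
    (U : C) {ι : Type u} (Y : ι → Over U) (p : ℕ) :
    IsZero (CohCx.cechH (u.op ⋙ I.obj) Y (p + 1)) := by
  have h1 := injective_sheaf_obj K I
  have h2 := injective_over_restr (u.obj U) I.obj
  exact isZero_homology_of_injective_map (Over.post u (X := U))
    (P := (Over.forget (u.obj U)).op ⋙ I.obj) Y p

open Groth.Agent.CohSiteBasics in
theorem HU_push_equiv' (J : GrothendieckTopology C) (K : GrothendieckTopology D) (u : C ⥤ D)
    [u.IsContinuous J K] [u.IsCocontinuous J K] [PreservesLimitsOfShape WalkingCospan u]
    (F : Sheaf K AddCommGrpCat.{u}) (U : C) (p : ℕ) :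
    Nonempty (CohSite.HU ((CohSite.push K J u).obj F) p U ≃+ CohSite.HU F p (u.obj U)) := by
  obtain ⟨e⟩ := Groth.Agent.ExtCompare.compare (CohSite.push K J u) (freeSheaf K (u.obj U))
    (freeSheaf J U) (θpush J K u U) (θpush_comp J K u U)
    (fun I _ m x => by
      have := cartan_site_all J ((CohSite.push K J u).obj I)
        (fun U ι Y _ p => cechH_push_injective' K u I U Y p) U m
      exact @Subsingleton.elim _ this _ _) p F
  exact ⟨e.symm⟩

end Groth.Agent.Cech
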