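import Groth.Agent.Lib.OverShriek
import Groth.Agent.Lib.ExtCompare
import Groth.Agent.Lib.CohSiteBasics

set_option autoImplicit false
universe u
open CategoryTheory Limits Opposite Abelian

namespace Groth.Agent.OverShriek

variable {C : Type u} [SmallCategory C] (J : GrothendieckTopology C) (U : C)

/-- restriction of abelian sheaves to the site of objects over `U`. -/
noncomputable abbrev restr : Sheaf J AddCommGrpCat.{u} ⥤ Sheaf (J.over U) AddCommGrpCat.{u} :=
  (Over.forget U).sheafPushforwardContinuous AddCommGrpCat.{u} (J.over U) J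

instance : (restr J U).Additive where

instance : PreservesFiniteLimits (restr J U) := by
  have : PreservesLimitsOfSize.{u, u} (restr J U) := (shriekAdj U J).rightAdjoint_preservesLimits
  infer_instance

instance : PreservesFiniteColimits (restr J U) := by
  have : PreservesColimitsOfSize.{u, u} (restr J U) :=
    ((Over.forget U).sheafAdjunctionCocontinuous AddCommGrpCat.{u} (J.over U)
      J).leftAdjoint_preservesColimits
  infer_instance

section Const

variable {D : Type u} [SmallCategory D] (K : GrothendieckTopology D) {T : D} (hT : IsTerminal T)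

/-- the constant sheaf `ℤ`. -/
noncomputable abbrev constZ : Sheaf K AddCommGrpCat.{u} :=
  (constantSheaf K AddCommGrpCat.{u}).obj (AddCommGrpCat.of (ULift ℤ))

/-- global sections are corepresented by the constant sheaf `ℤ`. -/
noncomputable def constEquiv (G : Sheaf K AddCommGrpCat.{u}) :
    (constZ K ⟶ G) ≃ G.obj.obj (op T) :=
  (Ext.addEquiv₀.symm.toEquiv).trans (Sheaf.H.equiv₀ G hT).toEquiv

lemma constEquiv_comp {F G : Sheaf K AddCommGrpCat.{u}} (a : constZ K ⟶ F) (φ : F ⟶ G) :
    constEquiv K hT G (a ≫ φ) = φ.hom.app (op T) (constEquiv K hT F a) := by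
  show Sheaf.H.equiv₀ G hT (Ext.mk₀ (a ≫ φ)) =
    φ.hom.app (op T) (Sheaf.H.equiv₀ F hT (Ext.mk₀ a))
  rw [Sheaf.H.equiv₀_naturality, Sheaf.H.map_apply, Ext.mk₀_comp_mk₀]

end Const

open Groth.Agent.CohSiteBasics in
/-- `Hom(ℤ[U], F) ≃ Hom(ℤ, F|_{C/U})`. -/
noncomputable def θ (F : Sheaf J AddCommGrpCat.{u}) :
    (freeSheaf J U ⟶ F) ≃ (constZ (J.over U) ⟶ (restr J U).obj F) :=
  (secEquiv U F).trans (constEquiv (J.over U) Over.mkIdTerminal ((restr J U).obj F)).symm

open Groth.Agent.CohSiteBasics in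
lemma θ_comp {F G : Sheaf J AddCommGrpCat.{u}} (a : freeSheaf J U ⟶ F) (φ : F ⟶ G) :
    θ J U G (a ≫ φ) = θ J U F a ≫ (restr J U).map φ := by
  apply (constEquiv (J.over U) Over.mkIdTerminal _).injective
  rw [constEquiv_comp]
  simp only [θ, Equiv.trans_apply]
  rw [secEquiv_comp]
  have h1 : ∀ (H : Sheaf J AddCommGrpCat.{u})
      (s : ((restr J U).obj H).obj.obj (op (Over.mk (𝟙 U)))),
      constEquiv (J.over U) Over.mkIdTerminal ((restr J U).obj H)
        ((constEquiv (J.over U) Over.mkIdTerminal ((restr J U).obj H)).symm s) = s :=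
    fun H s => Equiv.apply_symm_apply _ s
  exact (h1 G _).trans (Eq.symm (congrArg
    (fun t => ((restr J U).map φ).hom.app (op (Over.mk (𝟙 U))) t) (h1 F _)))

open Groth.Agent.CohSiteBasics in
/-- `H^n(U, F) ≅ H^n(C/U, F|_{C/U})`. -/
theorem HU_equiv_H_over (F : Sheaf J AddCommGrpCat.{u}) (n : ℕ) :
    Nonempty (Ext (freeSheaf J U) F n ≃+ Ext (constZ (J.over U)) ((restr J U).obj F) n) :=
  Groth.Agent.ExtCompare.compare (restr J U) (freeSheaf J U) (constZ (J.over U))
    (θ J U) (θ_comp J U)
    (fun _ _ _ x => Ext.eq_zero_of_injective x) n F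

end Groth.Agent.OverShriek
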