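import Groth.Agent.Lib.CechPush2
import Groth.Agent.Lib.OverRestr
set_option autoImplicit false
universe u
open CategoryTheory Limits Opposite Abelian

namespace Groth.Agent.Cech

open Groth.Agent.CohSiteBasics Groth.Agent.OverShriek

variable {C D : Type u} [SmallCategory C] [SmallCategory D]

/-- global cohomology is cohomology over a terminal object. -/
theorem H_equiv_HU_terminal (J : GrothendieckTopology C) {T : C} (hT : IsTerminal T)
    (G : Sheaf J AddCommGrpCat.{u}) (n : ℕ) :
    Nonempty (Ext (constZ J) G n ≃+ Ext (freeSheaf J T) G n) :=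
  Groth.Agent.ExtCompare.compare (𝟭 (Sheaf J AddCommGrpCat.{u})) (constZ J) (freeSheaf J T)
    (fun G => (constEquiv J hT G).trans (secEquiv T G).symm)
    (fun {F G} a φ => by
      apply (secEquiv T G).injective
      simp only [Equiv.trans_apply, Equiv.apply_symm_apply, Functor.id_obj, Functor.id_map]
      rw [constEquiv_comp, secEquiv_comp, Equiv.apply_symm_apply])
    (fun I _ m x => Ext.eq_zero_of_injective x) n G

theorem H_push_equiv (J : GrothendieckTopology C) (K : GrothendieckTopology D) (u : C ⥤ D)
    [u.IsCocontinuous J K] [u.IsContinuous J K]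
    [HasPullbacks C] [PreservesLimitsOfShape WalkingCospan u]
    [HasTerminal C] [PreservesLimit (Functor.empty.{0} C) u]
    (F : Sheaf K AddCommGrpCat.{u}) (p : ℕ) :
    Nonempty (Sheaf.H ((CohSite.push K J u).obj F) p ≃+ Sheaf.H F p) := by
  have hTD : IsTerminal (u.obj (⊤_ C)) := isLimitOfHasTerminalOfPreservesLimit u
  obtain ⟨e⟩ := Groth.Agent.ExtCompare.compare (CohSite.push K J u) (constZ K) (constZ J)
    (fun G => (constEquiv K hTD G).trans
      (constEquiv J terminalIsTerminal ((CohSite.push K J u).obj G)).symm)
    (fun {F G} a φ => by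
      apply (constEquiv J terminalIsTerminal ((CohSite.push K J u).obj G)).injective
      simp only [Equiv.trans_apply]
      rw [constEquiv_comp, constEquiv_comp]
      exact (Equiv.apply_symm_apply _ _).trans (congrArg _ (Equiv.apply_symm_apply _ _).symm))
    (fun I _ m x => by
      obtain ⟨e'⟩ := H_equiv_HU_terminal J (terminalIsTerminal (C := C))
        ((CohSite.push K J u).obj I) (m + 1)
      have := cartan_site_all J ((CohSite.push K J u).obj I)
        (fun U ι Y _ p => cechH_push_injective' K u I U Y p) (⊤_ C) m
      apply e'.injective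
      exact @Subsingleton.elim _ this _ _) p F
  exact ⟨e.symm⟩

end Groth.Agent.Cech
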