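import Groth.Agent.Lib.Acyclic
import Groth.Agent.Lib.CohTopBasics
set_option autoImplicit false
universe u
open CategoryTheory TopologicalSpace Opposite Limits

namespace Groth.Agent.CohTopBasics

instance push_preservesFiniteLimits {X Y : TopCat.{u}} (f : X ⟶ Y) :
    PreservesFiniteLimits (CohTop.push f) := by
  have : PreservesLimitsOfSize.{u, u} (CohTop.push f) := (pullPushAdj f).rightAdjoint_preservesLimits
  infer_instance

theorem Rpush_isZero_of_isFlasque {X Y : TopCat.{u}} (f : X ⟶ Y) (F : CohTop.Ab X)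
    [TopCat.Sheaf.IsFlasque F] (q : ℕ) : IsZero ((CohTop.Rpush f (q + 1)).obj F) := by
  refine Groth.Agent.Acyclic.isZero_rightDerived_succ (G := CohTop.push f)
    (P := fun F => TopCat.Sheaf.IsFlasque F) ?_ ?_ ?_ F inferInstance q
  · intro I hI
    exact isFlasque_of_injective I
  · intro S hS h1 h2
    exact TopCat.Sheaf.IsFlasque.of_shortExact_of_isFlasque₁₂ hS
  · intro S hS h1
    have : ∀ V : (Opens Y)ᵒᵖ, Epi (((CohTop.push f).map S.g).hom.app V) := by
      intro V
      exact TopCat.Sheaf.IsFlasque.epi_of_shortExact (U := (Opens.map f).obj V.unop) hS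
    have : Epi ((CohTop.push f).map S.g).hom := NatTrans.epi_of_epi_app _
    exact Sheaf.Hom.epi_of_presheaf_epi _ _ _

end Groth.Agent.CohTopBasics
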