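import Groth.Agent.Lib.ExtCompare
import Groth.Agent.Lib.CohTopBasics
set_option autoImplicit false
universe u
open CategoryTheory TopologicalSpace Opposite Limits Abelian

namespace Groth.Agent.CohTopBasics

variable {X : TopCat.{u}} (U : Opens X)

/-- the inclusion of an open subspace -/
abbrev inclU : TopCat.of U ⟶ X := TopCat.ofHom ⟨Subtype.val, continuous_subtype_val⟩

/-- restriction to an open is the inverse image along the inclusion. -/
noncomputable def pullIsoRestr : CohTop.pull (inclU U) ≅ CohTop.restrFunctor U :=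
  Topology.IsOpenEmbedding.sheafPullbackIso AddCommGrpCat.{u} (f := inclU U) U.isOpenEmbedding

instance restr_preservesFiniteLimits : PreservesFiniteLimits (CohTop.restrFunctor U) :=
  haveI := pull_preservesFiniteLimits (inclU U)
  preservesFiniteLimits_of_natIso (pullIsoRestr U)

instance restr_preservesFiniteColimits : PreservesFiniteColimits (CohTop.restrFunctor U) := by
  have : PreservesColimitsOfSize.{u, u} (CohTop.pull (inclU U)) :=
    (pullPushAdj (inclU U)).leftAdjoint_preservesColimits
  have : PreservesFiniteColimits (CohTop.pull (inclU U)) := inferInstance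
  exact preservesFiniteColimits_of_natIso (pullIsoRestr U)

/-- the constant sheaf `ℤ` -/
noncomputable abbrev constZ (Y : TopCat.{u}) : CohTop.Ab Y :=
  (constantSheaf (Opens.grothendieckTopology Y) AddCommGrpCat.{u}).obj (AddCommGrpCat.of (ULift ℤ))

/-- sections of `F` over `U` are global sections of `F|_U`. -/
noncomputable def secRestrIso (F : CohTop.Ab X) :
    F.obj.obj (op U) ≅ ((CohTop.restrFunctor U).obj F).obj.obj (op ⊤) :=
  F.obj.mapIso (eqToIso U.isOpenEmbedding_obj_top).op

/-- `Hom(ℤ[U], F) ≃ Hom(ℤ_U, F|_U)`. -/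
noncomputable def θRestr (F : CohTop.Ab X) :
    (freeSheaf U ⟶ F) ≃ (constZ (TopCat.of U) ⟶ (CohTop.restrFunctor U).obj F) :=
  (secEquiv U F).trans
    ((secRestrIso U F).addCommGroupIsoToAddEquiv.toEquiv.trans (constEquiv _).symm)

lemma θRestr_comp {F G : CohTop.Ab X} (a : freeSheaf U ⟶ F) (φ : F ⟶ G) :
    θRestr U G (a ≫ φ) = θRestr U F a ≫ (CohTop.restrFunctor U).map φ := by
  apply (constEquiv _).injective
  rw [constEquiv_comp]
  simp only [θRestr, Equiv.trans_apply, Equiv.apply_symm_apply]
  rw [secEquiv_comp]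
  have h := φ.hom.naturality (eqToIso U.isOpenEmbedding_obj_top).op.hom
  exact (ConcreteCategory.congr_hom h (secEquiv U F a)).symm

instance restr_isFlasque (F : CohTop.Ab X) [TopCat.Sheaf.IsFlasque F] :
    TopCat.Sheaf.IsFlasque ((CohTop.restrFunctor U).obj F) where
  epi {V W} i := by
    exact TopCat.Presheaf.IsFlasque.epi (F := F.obj)
      ((U.isOpenEmbedding.isOpenMap.functor.map i.unop).op)

theorem HU_equiv_H_restr (F : CohTop.Ab X) (n : ℕ) :
    Nonempty (CohTop.HU F n U ≃+ CohTop.H (CohTop.restr F U) n) :=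
  Groth.Agent.ExtCompare.compare (CohTop.restrFunctor U) (freeSheaf U) (constZ (TopCat.of U))
    (θRestr U) (θRestr_comp U)
    (fun I _ m x => by
      have : TopCat.Sheaf.IsFlasque I := isFlasque_of_injective I
      exact H_eq_zero_of_isFlasque _ m x) n F

end Groth.Agent.CohTopBasics
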