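import Groth.Agent.Lib.OverKInj
import Groth.Agent.Lib.CohTopRestr

set_option autoImplicit false
universe u
open CategoryTheory TopologicalSpace Opposite Limits Abelian

namespace Groth.Agent.CohTopBasics

variable {X : TopCat.{u}} (U : Opens X)

/-- extension by zero from an open subspace. -/
noncomputable def shriekTop : CohTop.Ab (TopCat.of U) ⥤ CohTop.Ab X :=
  (U.sheafEquivOver (A := AddCommGrpCat.{u})).inverse ⋙
    Groth.Agent.OverShriek.shriek U (Opens.grothendieckTopology X)

/-- extension by zero is left adjoint to restriction. -/
noncomputable def shriekTopAdj : shriekTop U ⊣ CohTop.restrFunctor U :=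
  ((U.sheafEquivOver (A := AddCommGrpCat.{u})).symm.toAdjunction.comp
    (Groth.Agent.OverShriek.shriekAdj U (Opens.grothendieckTopology X))).ofNatIsoRight
      (U.overPullbackSheafEquivOver (A := AddCommGrpCat.{u}))

instance : (shriekTop U).Additive := (shriekTopAdj U).left_adjoint_additive

instance : PreservesFiniteLimits (shriekTop U) := by
  dsimp only [shriekTop]
  infer_instance

instance : PreservesFiniteColimits (shriekTop U) := by
  dsimp only [shriekTop]
  infer_instance

instance : (shriekTop U).PreservesMonomorphisms := inferInstance

instance restr_injective (I : CohTop.Ab X) [Injective I] :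
    Injective ((CohTop.restrFunctor U).obj I) :=
  Injective.injective_of_adjoint (shriekTopAdj U) I

/-- restriction to an open preserves K-injective complexes. -/
theorem isKInjective_restr (I : CochainComplex (CohTop.Ab X) ℤ) (hI : I.IsKInjective) :
    CochainComplex.IsKInjective
      (((CohTop.restrFunctor U).mapHomologicalComplex (ComplexShape.up ℤ)).obj I) :=
  Groth.Agent.KInjAdj.isKInjective_map (shriekTopAdj U) I hI

end Groth.Agent.CohTopBasics
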