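import Mathlib

/-! Pushing an injective resolution through a left exact functor for which the object is acyclic. -/

set_option autoImplicit false
universe v u v' u'
open CategoryTheory Abelian Limits

namespace Groth.Agent.InjResMap

variable {C : Type u} [Category.{v} C] [Abelian C] [HasInjectiveResolutions C]
  {D : Type u'} [Category.{v'} D] [Abelian D]
  (Φ : C ⥤ D) [Φ.Additive] [PreservesFiniteLimits Φ]

set_option backward.defeqAttrib.useBackward true in
set_option backward.isDefEq.respectTransparency false in
/-- If `Y` is `Φ`-acyclic and `Φ` sends the terms of an injective resolution `R` of `Y` to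
injectives, then `Φ(R)` is an injective resolution of `Φ Y`. -/
noncomputable def mapOfAcyclic {Y : C} (R : InjectiveResolution Y)
    (hinj : ∀ n, Injective (Φ.obj (R.cocomplex.X n)))
    (hac : ∀ n : ℕ, IsZero ((Φ.rightDerived (n + 1)).obj Y)) :
    InjectiveResolution (Φ.obj Y) where
  cocomplex := (Φ.mapHomologicalComplex _).obj R.cocomplex
  injective := hinj
  ι := (CochainComplex.fromSingle₀Equiv _ _).symm ⟨Φ.map (R.ι.f 0), by
    dsimp
    rw [← Φ.map_comp, HomologicalComplex.Hom.comm, HomologicalComplex.single_obj_d,
      zero_comp, Φ.map_zero]⟩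
  quasiIso := ⟨fun n => by
    cases n with
    | zero =>
      have h : IsIso (R.toRightDerivedZero' Φ) := inferInstance
      dsimp [InjectiveResolution.toRightDerivedZero'] at h
      rw [CochainComplex.isIso_liftCycles_iff] at h
      rw [CochainComplex.quasiIsoAt₀_iff, ShortComplex.quasiIso_iff_of_zeros]
      · refine (ShortComplex.exact_and_mono_f_iff_of_iso ?_).2 h
        exact ShortComplex.isoMk (Iso.refl _) (Iso.refl _) (Iso.refl _)
          (by simp [CochainComplex.fromSingle₀Equiv]) (by simp)
      · rfl
      · rfl
      · dsimp
        rw [HomologicalComplex.shape _ _ _ (by simp), Φ.map_zero]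
    | succ n =>
      rw [quasiIsoAt_iff_exactAt]
      · rw [HomologicalComplex.exactAt_iff_isZero_homology]
        exact IsZero.of_iso (hac n) (R.isoRightDerivedObj Φ (n + 1)).symm
      · apply CochainComplex.exactAt_succ_single_obj⟩

end Groth.Agent.InjResMap
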