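import Groth.Agent.Lib.ClosedPush
import Groth.Agent.Lib.GSS.SectSuppLES

set_option autoImplicit false
universe u
open CategoryTheory CategoryTheory.Limits TopologicalSpace Opposite

namespace Groth.Agent.GSS

open Groth.Agent.CohTopBasics Groth.Agent.ClosedPush

variable {X : TopCat.{u}} (U : Opens X)

lemma inclCompl_isClosedEmbedding : Topology.IsClosedEmbedding (CohCx.inclCompl U) :=
  (U.isOpen.isClosed_compl).isClosedEmbedding_subtypeVal

lemma coe_eq_compl_range : (U : Set X) = (Set.range (CohCx.inclCompl U))ᶜ := by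
  have : Set.range (CohCx.inclCompl U) = (U : Set X)ᶜ := Subtype.range_coe
  rw [this, compl_compl]

lemma isZero_of_isZero_sections {Y : TopCat.{u}} (K : CohTop.Ab Y)
    (h : ∀ V : Opens Y, IsZero (K.obj.obj (op V))) : IsZero K := by
  rw [IsZero.iff_id_eq_zero]
  apply Sheaf.hom_ext
  ext V : 2
  exact (h V.unop).eq_of_src _ _

lemma isZero_sections_of_isZero_pull (K : CohTop.Ab X)
    (hK : IsZero ((CohTop.pull (CohCx.incl U)).obj K)) (V : Opens X) (hV : V ≤ U) :
    IsZero (K.obj.obj (op V)) := by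
  have h1 : (CohTop.pull (CohCx.incl U)).map (𝟙 K) = 0 := hK.eq_of_src _ _
  have h2 := (pull_map_eq_zero_iff U (𝟙 K)).1 h1
  have h3 := app_eq_zero_of_restr_map_eq_zero U (𝟙 K) h2 V hV
  rw [IsZero.iff_id_eq_zero]
  exact h3

lemma isZero_pull_of_isZero_sections (K : CohTop.Ab X)
    (hK : ∀ V : Opens X, V ≤ U → IsZero (K.obj.obj (op V))) :
    IsZero ((CohTop.pull (CohCx.incl U)).obj K) := by
  have h1 : IsZero ((CohTop.restrFunctor U).obj K) := by
    apply isZero_of_isZero_sections
    intro V'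
    refine hK (U.isOpenEmbedding.isOpenMap.functor.obj V') ?_
    rintro _ ⟨y, _, rfl⟩
    exact y.2
  exact IsZero.of_iso h1 ((pullIsoRestr U).app K)

lemma isZero_pull_sectSupp (F : CohTop.Ab X) :
    IsZero ((CohTop.pull (CohCx.incl U)).obj ((LocCohZ.sectSuppF U).obj F)) := by
  have h1 : (CohTop.pull (CohCx.incl U)).map (sectSuppι U F) ≫
      (CohTop.pull (CohCx.incl U)).map ((adjU U).unit.app F) = 0 := by
    rw [← Functor.map_comp, sectSuppι_unit, Functor.map_zero]
  have h2 : (CohTop.pull (CohCx.incl U)).map ((adjU U).unit.app F) ≫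
      (adjU U).counit.app ((CohTop.pull (CohCx.incl U)).obj F) = 𝟙 _ :=
    (adjU U).left_triangle_components F
  have h3 : (CohTop.pull (CohCx.incl U)).map (sectSuppι U F) = 0 := by
    have := congrArg (fun t => t ≫ (adjU U).counit.app ((CohTop.pull (CohCx.incl U)).obj F)) h1
    simp only [Category.assoc, h2, zero_comp] at this
    exact (Category.comp_id _).symm.trans this
  have : Mono ((CohTop.pull (CohCx.incl U)).map (sectSuppι U F)) := inferInstance
  exact IsZero.of_mono_eq_zero _ h3

lemma isZero_pull_push (G : CohTop.Ab (TopCat.of ((U : Set X)ᶜ : Set X))) :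
    IsZero ((CohTop.pull (CohCx.incl U)).obj ((CohTop.push (CohCx.inclCompl U)).obj G)) :=
  isZero_pull_of_isZero_sections U _
    (fun _ hV => isZero_push_sections (CohCx.inclCompl U) U (coe_eq_compl_range U) G hV)

lemma push_comp_unit (G : CohTop.Ab (TopCat.of ((U : Set X)ᶜ : Set X))) {F : CohTop.Ab X}
    (f : (CohTop.push (CohCx.inclCompl U)).obj G ⟶ F) : f ≫ (adjU U).unit.app F = 0 :=
  (comp_unit_eq_zero_iff U f).2 ((isZero_pull_push U G).eq_of_src _ _)

/-- the adjunction `i⁻¹ ⊣ i_*`. -/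
noncomputable abbrev adjZ : CohTop.pull (CohCx.inclCompl U) ⊣ CohTop.push (CohCx.inclCompl U) :=
  pullPushAdj (CohCx.inclCompl U)

/-- `i_*` is fully faithful. -/
noncomputable abbrev ffZ : (CohTop.push (CohCx.inclCompl U)).FullyFaithful :=
  pushFF (CohCx.inclCompl U) (inclCompl_isClosedEmbedding U)

instance isIso_unitZ_sectSupp (F : CohTop.Ab X) :
    IsIso ((adjZ U).unit.app ((LocCohZ.sectSuppF U).obj F)) := by
  have hK := fun V hV => isZero_sections_of_isZero_pull U _ (isZero_pull_sectSupp U F) V hV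
  have := (ffZ U).full
  have := (ffZ U).faithful
  exact Adjunction.isIso_unit_app_of_iso (adjZ U)
    (pushCSheafIso (CohCx.inclCompl U) (inclCompl_isClosedEmbedding U) U (coe_eq_compl_range U) _ hK).symm

/-- `Hom(i_* G, F) ≃ Hom(G, i⁻¹ Γ_Z F)`. -/
noncomputable def closedHomEquiv (G : CohTop.Ab (TopCat.of ((U : Set X)ᶜ : Set X))) (F : CohTop.Ab X) :
    ((CohTop.push (CohCx.inclCompl U)).obj G ⟶ F) ≃
      (G ⟶ (CohTop.pull (CohCx.inclCompl U)).obj ((LocCohZ.sectSuppF U).obj F)) where
  toFun f := (ffZ U).preimage (sectSuppLift U f (push_comp_unit U G f) ≫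
    (adjZ U).unit.app ((LocCohZ.sectSuppF U).obj F))
  invFun h := ((CohTop.push (CohCx.inclCompl U)).map h ≫
    inv ((adjZ U).unit.app ((LocCohZ.sectSuppF U).obj F))) ≫ sectSuppι U F
  left_inv f := by
    show ((CohTop.push (CohCx.inclCompl U)).map ((ffZ U).preimage _) ≫ inv _) ≫ sectSuppι U F = f
    rw [(ffZ U).map_preimage, Category.assoc, Category.assoc, IsIso.hom_inv_id_assoc, sectSuppLift_ι]
  right_inv h := by
    show (ffZ U).preimage (sectSuppLift U (((CohTop.push (CohCx.inclCompl U)).map h ≫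
        inv ((adjZ U).unit.app ((LocCohZ.sectSuppF U).obj F))) ≫ sectSuppι U F)
        (push_comp_unit U G _) ≫ (adjZ U).unit.app ((LocCohZ.sectSuppF U).obj F)) = h
    apply (ffZ U).map_injective
    rw [(ffZ U).map_preimage]
    have : sectSuppLift U (((CohTop.push (CohCx.inclCompl U)).map h ≫
        inv ((adjZ U).unit.app ((LocCohZ.sectSuppF U).obj F))) ≫ sectSuppι U F)
        (push_comp_unit U G _) = (CohTop.push (CohCx.inclCompl U)).map h ≫
        inv ((adjZ U).unit.app ((LocCohZ.sectSuppF U).obj F)) := by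
      apply (cancel_mono (sectSuppι U F)).1
      rw [sectSuppLift_ι]
    rw [this, Category.assoc, IsIso.inv_hom_id, Category.comp_id]

lemma closedHomEquiv_symm_comp (G : CohTop.Ab (TopCat.of ((U : Set X)ᶜ : Set X))) {F F' : CohTop.Ab X}
    (h : G ⟶ (CohTop.pull (CohCx.inclCompl U)).obj ((LocCohZ.sectSuppF U).obj F)) (b : F ⟶ F') :
    (closedHomEquiv U G F').symm (h ≫ (CohTop.pull (CohCx.inclCompl U)).map ((LocCohZ.sectSuppF U).map b)) =
      (closedHomEquiv U G F).symm h ≫ b := by
  show ((CohTop.push (CohCx.inclCompl U)).map (h ≫ _) ≫ inv _) ≫ sectSuppι U F' =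
    (((CohTop.push (CohCx.inclCompl U)).map h ≫ inv _) ≫ sectSuppι U F) ≫ b
  have hnat := (adjZ U).unit.naturality ((LocCohZ.sectSuppF U).map b)
  have h1 : (CohTop.push (CohCx.inclCompl U)).map ((CohTop.pull (CohCx.inclCompl U)).map
      ((LocCohZ.sectSuppF U).map b)) ≫ inv ((adjZ U).unit.app ((LocCohZ.sectSuppF U).obj F')) =
      inv ((adjZ U).unit.app ((LocCohZ.sectSuppF U).obj F)) ≫ (LocCohZ.sectSuppF U).map b := by
    rw [IsIso.comp_inv_eq, Category.assoc, IsIso.eq_inv_comp]
    exact hnat.symm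
  rw [Functor.map_comp, Category.assoc, Category.assoc, Category.assoc, Category.assoc,
    ← Category.assoc ((CohTop.push (CohCx.inclCompl U)).map ((CohTop.pull (CohCx.inclCompl U)).map _)),
    h1, Category.assoc, sectSuppF_map_ι]

/-- the adjunction `i_* ⊣ i⁻¹ Γ_Z`. -/
noncomputable def closedAdj :
    CohTop.push (CohCx.inclCompl U) ⊣ LocCohZ.sectSuppF U ⋙ CohTop.pull (CohCx.inclCompl U) :=
  Adjunction.mkOfHomEquiv
    { homEquiv := closedHomEquiv U
      homEquiv_naturality_left_symm := by
        intro G' G F a h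
        show ((CohTop.push (CohCx.inclCompl U)).map (a ≫ h) ≫ inv _) ≫ sectSuppι U F =
          (CohTop.push (CohCx.inclCompl U)).map a ≫
            (((CohTop.push (CohCx.inclCompl U)).map h ≫ inv _) ≫ sectSuppι U F)
        rw [Functor.map_comp, Category.assoc, Category.assoc, Category.assoc]
      homEquiv_naturality_right := by
        intro G F F' f b
        apply (closedHomEquiv U G F').symm.injective
        rw [Equiv.symm_apply_apply]
        have := closedHomEquiv_symm_comp U G (closedHomEquiv U G F f) b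
        rw [Equiv.symm_apply_apply] at this
        exact this.symm }

end Groth.Agent.GSS
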