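import Mathlib
import Groth.Prelude.Def_CohTop

/-! Pushforward of abelian sheaves along a closed embedding: full faithfulness and the essential
image (sheaves whose sections vanish on opens of the complement). -/

set_option autoImplicit false
universe u
open CategoryTheory CategoryTheory.Limits TopologicalSpace Opposite

namespace Groth.Agent.ClosedPush

variable {Z X : TopCat.{u}} (i : Z ⟶ X) (hi : Topology.IsClosedEmbedding i)

include hi in
lemma isOpen_c (W : Opens Z) : IsOpen ((i '' ((W : Set Z)ᶜ))ᶜ) :=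
  (hi.isClosedMap _ W.isOpen.isClosed_compl).isOpen_compl

/-- the largest open of `X` with trace `W` on `Z`. -/
def cObj (W : Opens Z) : Opens X := ⟨(i '' ((W : Set Z)ᶜ))ᶜ, isOpen_c i hi W⟩

lemma mem_cObj {W : Opens Z} {x : X} : x ∈ cObj i hi W ↔ ∀ z, i z = x → z ∈ W := by
  show x ∈ ((i '' ((W : Set Z)ᶜ))ᶜ : Set X) ↔ _
  constructor
  · intro hx z hz
    by_contra hzW
    exact hx ⟨z, hzW, hz⟩
  · rintro h ⟨z, hzW, hz⟩
    exact hzW (h z hz)

lemma gc_c (V : Opens X) (W : Opens Z) : (Opens.map i).obj V ≤ W ↔ V ≤ cObj i hi W := by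
  constructor
  · intro h x hx
    rw [mem_cObj]
    rintro z rfl
    exact h hx
  · intro h z hz
    exact (mem_cObj i hi).1 (h hz) z rfl

lemma map_cObj (W : Opens Z) : (Opens.map i).obj (cObj i hi W) = W := by
  ext z
  constructor
  · intro hz
    exact (mem_cObj i hi).1 hz z rfl
  · intro hz
    apply (mem_cObj i hi).2
    intro z' hz'
    rw [hi.injective hz']
    exact hz

lemma cObj_mono {W W' : Opens Z} (h : W ≤ W') : cObj i hi W ≤ cObj i hi W' :=
  (gc_c i hi _ _).1 (by rw [map_cObj]; exact h)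

/-- `W ↦ c(W)` as a functor. -/
def cFunctor : Opens Z ⥤ Opens X where
  obj W := cObj i hi W
  map {W W'} f := homOfLE (cObj_mono i hi f.le)
  map_id _ := Subsingleton.elim _ _
  map_comp _ _ := Subsingleton.elim _ _

/-- `i⁻¹ ⊣ c` on opens. -/
def cAdj : Opens.map i ⊣ cFunctor i hi :=
  Adjunction.mkOfHomEquiv
    { homEquiv := fun V W =>
        { toFun := fun f => homOfLE ((gc_c i hi V W).1 f.le)
          invFun := fun g => homOfLE ((gc_c i hi V W).2 g.le)
          left_inv := fun _ => Subsingleton.elim _ _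
          right_inv := fun _ => Subsingleton.elim _ _ }
      homEquiv_naturality_left_symm := fun _ _ => Subsingleton.elim _ _
      homEquiv_naturality_right := fun _ _ => Subsingleton.elim _ _ }

instance : (cFunctor i hi).Faithful := ⟨fun _ => Subsingleton.elim _ _⟩

instance : (cFunctor i hi).Full :=
  ⟨fun {W W'} f => ⟨homOfLE (by
    rw [← map_cObj i hi W, ← map_cObj i hi W']
    exact (Opens.map i).monotone f.le), Subsingleton.elim _ _⟩⟩

/-- presheaf pushforward along a closed embedding is fully faithful. -/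
noncomputable def ffPsh :
    ((Functor.whiskeringLeft (Opens X)ᵒᵖ (Opens Z)ᵒᵖ AddCommGrpCat.{u}).obj (Opens.map i).op).FullyFaithful := by
  have h1 : (Opens.map i).IsLocalization
      ((MorphismProperty.isomorphisms (Opens Z)).inverseImage (Opens.map i)) :=
    (cAdj i hi).isLocalization
  have h2 : (Opens.map i).op.IsLocalization
      ((MorphismProperty.isomorphisms (Opens Z)).inverseImage (Opens.map i)).op := inferInstance
  exact Localization.fullyFaithfulWhiskeringLeft (Opens.map i).op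
    ((MorphismProperty.isomorphisms (Opens Z)).inverseImage (Opens.map i)).op _

/-- `i_*` is fully faithful. -/
noncomputable def pushFF : (CohTop.push i).FullyFaithful where
  preimage ψ := ⟨(ffPsh i hi).preimage ψ.hom⟩
  map_preimage ψ := by
    apply Sheaf.hom_ext
    exact (ffPsh i hi).map_preimage ψ.hom
  preimage_map φ := by
    apply Sheaf.hom_ext
    exact (ffPsh i hi).preimage_map φ.hom

variable (U' : Opens X) (hU : (U' : Set X) = (Set.range i)ᶜ)

include hU in
lemma not_mem_of_map {z : Z} : i z ∉ U' := by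
  intro h
  have : i z ∈ (U' : Set X) := h
  rw [hU] at this
  exact this ⟨z, rfl⟩

include hU in
lemma mem_of_not_range {x : X} (hx : ∀ z, i z ≠ x) : x ∈ U' := by
  show x ∈ (U' : Set X)
  rw [hU]
  rintro ⟨z, hz⟩
  exact hx z hz

include hU in
lemma map_eq_bot_of_le {V : Opens X} (hV : V ≤ U') : (Opens.map i).obj V = ⊥ := by
  ext z
  constructor
  · intro hz
    exact (not_mem_of_map i U' hU (hV hz)).elim
  · intro hz
    exact hz.elim

lemma isZero_of_isTerminal {A : AddCommGrpCat.{u}} (h : IsTerminal A) : IsZero A := by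
  rw [IsZero.iff_id_eq_zero]
  exact h.hom_ext _ _

include hU in
/-- sections of `i_* G` vanish on opens of the complement. -/
lemma isZero_push_sections (G : CohTop.Ab Z) {V : Opens X} (hV : V ≤ U') :
    IsZero (((CohTop.push i).obj G).obj.obj (op V)) :=
  isZero_of_isTerminal (TopCat.Sheaf.isTerminalOfEqEmpty G (map_eq_bot_of_le i U' hU hV))

include hU in
lemma le_cObj (W : Opens Z) : U' ≤ cObj i hi W := by
  intro x hx
  rw [mem_cObj]
  rintro z rfl
  exact (not_mem_of_map i U' hU hx).elim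

include hU in
lemma cObj_map_eq (V : Opens X) : cObj i hi ((Opens.map i).obj V) = V ⊔ U' := by
  apply le_antisymm
  · intro x hx
    by_cases h : ∃ z, i z = x
    · obtain ⟨z, rfl⟩ := h
      exact Or.inl ((mem_cObj i hi).1 hx z rfl)
    · exact Or.inr (mem_of_not_range i U' hU (fun z hz => h ⟨z, hz⟩))
  · exact sup_le ((gc_c i hi _ _).1 le_rfl) (le_cObj i hi U' hU _)

include hU in
lemma cObj_bot_le : cObj i hi ⊥ ≤ U' := by
  intro x hx
  apply mem_of_not_range i U' hU
  intro z hz
  exact ((mem_cObj i hi).1 hx z hz).elim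

lemma cObj_iSup_le {ι : Type u} [Nonempty ι] (W : ι → Opens Z) :
    cObj i hi (iSup W) ≤ ⨆ k, cObj i hi (W k) := by
  intro x hx
  rw [Opens.mem_iSup]
  by_cases h : ∃ z, i z = x
  · obtain ⟨z, rfl⟩ := h
    have hz := (mem_cObj i hi).1 hx z rfl
    rw [Opens.mem_iSup] at hz
    obtain ⟨k, hk⟩ := hz
    refine ⟨k, (mem_cObj i hi).2 ?_⟩
    intro z' hz'
    rw [hi.injective hz']
    exact hk
  · obtain ⟨k⟩ := ‹Nonempty ι›
    refine ⟨k, (mem_cObj i hi).2 ?_⟩
    intro z hz
    exact (h ⟨z, hz⟩).elim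

lemma cObj_inf_le (W W' : Opens Z) : cObj i hi W ⊓ cObj i hi W' ≤ cObj i hi (W ⊓ W') := by
  rintro x ⟨h1, h2⟩
  rw [mem_cObj]
  intro z hz
  exact ⟨(mem_cObj i hi).1 h1 z hz, (mem_cObj i hi).1 h2 z hz⟩

lemma map_map_apply (K : (Opens X)ᵒᵖ ⥤ AddCommGrpCat.{u}) {A B C : (Opens X)ᵒᵖ} (a : A ⟶ B) (b : B ⟶ C)
    (x : K.obj A) : K.map b (K.map a x) = K.map (a ≫ b) x := by
  rw [Functor.map_comp]
  rfl

/-- the presheaf `W ↦ K(c(W))` on `Z`. -/
def cPresheaf (K : CohTop.Ab X) : (Opens Z)ᵒᵖ ⥤ AddCommGrpCat.{u} := (cFunctor i hi).op ⋙ K.obj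

include hU in
theorem cPresheaf_isSheaf (K : CohTop.Ab X)
    (hK : ∀ V : Opens X, V ≤ U' → IsZero (K.obj.obj (op V))) :
    TopCat.Presheaf.IsSheaf (cPresheaf i hi K) := by
  rw [TopCat.Presheaf.isSheaf_iff_isSheafUniqueGluing]
  intro ι W sf hsf
  rcases isEmpty_or_nonempty ι with hι | hι
  · have hb : iSup W = ⊥ := by
      rw [eq_bot_iff]
      exact iSup_le (fun k => isEmptyElim k)
    have hz : IsZero (K.obj.obj (op (cObj i hi (iSup W)))) := by
      apply hK
      rw [hb]
      exact cObj_bot_le i hi U' hU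
    have hsub : ∀ a b : ToType (K.obj.obj (op (cObj i hi (iSup W)))), a = b := by
      intro a b
      have h0 := hz.eq_of_src (𝟙 _) 0
      have ha : a = (0 : K.obj.obj (op (cObj i hi (iSup W))) ⟶ _) a := by
        rw [← h0]; rfl
      have hb' : b = (0 : K.obj.obj (op (cObj i hi (iSup W))) ⟶ _) b := by
        rw [← h0]; rfl
      rw [ha, hb']
      rfl
    exact ⟨(0 : K.obj.obj (op (cObj i hi (iSup W)))), fun k => isEmptyElim k, fun s _ => hsub _ _⟩
  · have hcomp : TopCat.Presheaf.IsCompatible K.obj (fun k => cObj i hi (W k)) sf := by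
      intro k l
      have h := congrArg (fun t => (K.obj.map (homOfLE (cObj_inf_le i hi (W k) (W l))).op) t) (hsf k l)
      have e1 : K.obj.map (homOfLE (cObj_inf_le i hi (W k) (W l))).op
          ((cPresheaf i hi K).map (Opens.infLELeft (W k) (W l)).op (sf k)) =
          K.obj.map (Opens.infLELeft (cObj i hi (W k)) (cObj i hi (W l))).op (sf k) := by
        show K.obj.map _ (K.obj.map _ (sf k)) = _
        rw [map_map_apply]
        rfl
      have e2 : K.obj.map (homOfLE (cObj_inf_le i hi (W k) (W l))).op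
          ((cPresheaf i hi K).map (Opens.infLERight (W k) (W l)).op (sf l)) =
          K.obj.map (Opens.infLERight (cObj i hi (W k)) (cObj i hi (W l))).op (sf l) := by
        show K.obj.map _ (K.obj.map _ (sf l)) = _
        rw [map_map_apply]
        rfl
      exact e1.symm.trans (h.trans e2)
    obtain ⟨s, hs, huniq⟩ := TopCat.Sheaf.existsUnique_gluing' K (fun k => cObj i hi (W k))
      (cObj i hi (iSup W)) (fun k => homOfLE (cObj_mono i hi (le_iSup W k)))
      (cObj_iSup_le i hi W) sf hcomp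
    exact ⟨s, fun k => hs k, fun t ht => huniq t (fun k => ht k)⟩

/-- the sheaf `W ↦ K(c(W))` on `Z`. -/
def cSheaf (K : CohTop.Ab X) (hK : ∀ V : Opens X, V ≤ U' → IsZero (K.obj.obj (op V))) : CohTop.Ab Z :=
  ⟨cPresheaf i hi K, cPresheaf_isSheaf i hi U' hU K hK⟩

lemma isIso_map_of_eq_sup (K : CohTop.Ab X) (hK : ∀ V : Opens X, V ≤ U' → IsZero (K.obj.obj (op V)))
    (V V'' : Opens X) (e : V'' = V ⊔ U') (h : V ≤ V'') : IsIso (K.obj.map (homOfLE h).op) := by
  subst e
  have hpb := IsPullback.of_isLimit (TopCat.Sheaf.isLimitPullbackCone K V U')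
  have hiso : IsIso (K.obj.map (homOfLE (inf_le_right : V ⊓ U' ≤ U')).op) :=
    ⟨⟨0, (hK U' le_rfl).eq_of_src _ _, (hK (V ⊓ U') inf_le_right).eq_of_src _ _⟩⟩
  exact hpb.isIso_fst_of_isIso hiso

lemma le_cObj_map (V : Opens X) : V ≤ cObj i hi ((Opens.map i).obj V) := (gc_c i hi _ _).1 le_rfl

include hU in
lemma isIso_map_le_cObj_map (K : CohTop.Ab X)
    (hK : ∀ V : Opens X, V ≤ U' → IsZero (K.obj.obj (op V))) (V : Opens X) :
    IsIso (K.obj.map (homOfLE (le_cObj_map i hi V)).op) :=
  isIso_map_of_eq_sup U' K hK V _ (cObj_map_eq i hi U' hU V) _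

/-- `i_* (K ∘ c) ≅ K` for `K` vanishing on the complement. -/
noncomputable def pushCSheafIso (K : CohTop.Ab X)
    (hK : ∀ V : Opens X, V ≤ U' → IsZero (K.obj.obj (op V))) :
    (CohTop.push i).obj (cSheaf i hi U' hU K hK) ≅ K :=
  (fullyFaithfulSheafToPresheaf _ _).preimageIso
    (NatIso.ofComponents
      (fun V => @asIso _ _ _ _ (K.obj.map (homOfLE (le_cObj_map i hi V.unop)).op)
        (isIso_map_le_cObj_map i hi U' hU K hK V.unop))
      (by
        intro V V' f
        show K.obj.map _ ≫ K.obj.map _ = K.obj.map _ ≫ K.obj.map _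
        rw [← Functor.map_comp, ← Functor.map_comp]
        rfl))

end Groth.Agent.ClosedPush

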