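import Groth.Agent.Lib.ClosedPush
import Groth.Agent.Lib.CohTopClosedEmb

set_option autoImplicit false
universe u
open CategoryTheory CategoryTheory.Limits TopologicalSpace Opposite

namespace Groth.Agent.ClosedPush

open Groth.Agent.CohTopBasics

variable {Z X : TopCat.{u}} (i : Z ⟶ X) (hi : Topology.IsClosedEmbedding i)

/-- the open complement of the range. -/
def complOpen : Opens X := ⟨(Set.range i)ᶜ, hi.isClosed_range.isOpen_compl⟩

lemma complOpen_coe : (complOpen i hi : Set X) = (Set.range i)ᶜ := rfl

lemma mem_complOpen {x : X} : x ∈ complOpen i hi ↔ x ∉ Set.range i := Iff.rfl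

/-- stalks vanish on `U'` iff sections vanish on opens inside `U'`. -/
lemma stalk_isZero_iff (F : CohTop.Ab X) (U' : Opens X) :
    (∀ x : X, x ∈ U' → IsZero (CohTop.stalk F x)) ↔
      ∀ V : Opens X, V ≤ U' → IsZero (F.obj.obj (op V)) := by
  constructor
  · intro h V hV
    have : Subsingleton (F.obj.obj (op V)) := by
      refine ⟨fun s t => ?_⟩
      apply TopCat.Presheaf.section_ext F V
      intro x hx
      have := AddCommGrpCat.subsingleton_of_isZero (h x (hV hx))
      exact Subsingleton.elim _ _
    exact AddCommGrpCat.isZero_of_subsingleton _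
  · intro h x hx
    have : Subsingleton (CohTop.stalk F x) := by
      have key : ∀ t : CohTop.stalk F x, t = 0 := by
        intro t
        obtain ⟨V, hxV, s, rfl⟩ := TopCat.Presheaf.exists_germ_eq F.obj t
        have hz := h (V ⊓ U') inf_le_right
        have := AddCommGrpCat.subsingleton_of_isZero hz
        have h1 := TopCat.Presheaf.germ_res_apply F.obj (homOfLE (inf_le_left : V ⊓ U' ≤ V)) x ⟨hxV, hx⟩ s
        rw [← h1]
        have h2 : F.obj.map (homOfLE (inf_le_left : V ⊓ U' ≤ V)).op s = 0 := Subsingleton.elim _ _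
        rw [h2, map_zero]
      exact ⟨fun a b => (key a).trans (key b).symm⟩
    exact AddCommGrpCat.isZero_of_subsingleton _

include hi in
theorem essImage_iff (F : CohTop.Ab X) :
    (CohTop.push i).essImage F ↔ ∀ x : X, x ∉ Set.range i → IsZero (CohTop.stalk F x) := by
  have hst := stalk_isZero_iff F (complOpen i hi)
  constructor
  · rintro ⟨G, ⟨e⟩⟩
    have hsec : ∀ V : Opens X, V ≤ complOpen i hi → IsZero (F.obj.obj (op V)) := by
      intro V hV
      have h1 := isZero_push_sections i (complOpen i hi) (complOpen_coe i hi) G hV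
      exact IsZero.of_iso h1
        (((sheafToPresheaf _ _).mapIso e).app (op V)).symm
    exact fun x hx => hst.2 hsec x hx
  · intro h
    have hsec := hst.1 (fun x hx => h x hx)
    exact ⟨cSheaf i hi (complOpen i hi) (complOpen_coe i hi) F hsec,
      ⟨pushCSheafIso i hi (complOpen i hi) (complOpen_coe i hi) F hsec⟩⟩

include hi in
theorem closed_push_all :
    PreservesFiniteColimits (CohTop.push i) ∧ (CohTop.push i).Full ∧ (CohTop.push i).Faithful ∧
      (∀ F : CohTop.Ab X, (CohTop.push i).essImage F ↔ ∀ x : X, x ∉ Set.range i → IsZero (CohTop.stalk F x)) ∧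
      Nonempty (CohTop.push i ⋙ CohTop.pull i ≅ 𝟭 (CohTop.Ab Z)) := by
  have hfull := (pushFF i hi).full
  have hfaith := (pushFF i hi).faithful
  refine ⟨Groth.Agent.CohTopBasics.push_preservesFiniteColimits_of_isClosedEmbedding i hi, hfull, hfaith,
    essImage_iff i hi, ⟨asIso (pullPushAdj i).counit⟩⟩

end Groth.Agent.ClosedPush
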