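import Groth.Agent.Lib.DerAdj
import Groth.Agent.Lib.CohTopRestrInj
import Groth.Prelude.Def_CohCx
set_option autoImplicit false
universe u
open CategoryTheory TopologicalSpace Opposite Limits Abelian

namespace Groth.Agent.CohTopBasics

variable {X : TopCat.{u}} (U : Opens X)

/-- `Hom(ℤ[U], F) ≃ Hom(ℤ[⊤], F|_U)`. -/
noncomputable def θTop (F : CohTop.Ab X) :
    (freeSheaf U ⟶ F) ≃ (freeSheaf (⊤ : Opens (TopCat.of U)) ⟶ (CohTop.restrFunctor U).obj F) :=
  (secEquiv U F).trans
    ((secRestrIso U F).addCommGroupIsoToAddEquiv.toEquiv.trans (secEquiv ⊤ _).symm)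

lemma θTop_comp {F G : CohTop.Ab X} (a : freeSheaf U ⟶ F) (φ : F ⟶ G) :
    θTop U G (a ≫ φ) = θTop U F a ≫ (CohTop.restrFunctor U).map φ := by
  apply (secEquiv ⊤ _).injective
  rw [secEquiv_comp]
  simp only [θTop, Equiv.trans_apply, Equiv.apply_symm_apply]
  rw [secEquiv_comp]
  have h := φ.hom.naturality (eqToIso U.isOpenEmbedding_obj_top).op.hom
  exact (ConcreteCategory.congr_hom h (secEquiv U F a)).symm

/-- extension by zero of the free sheaf on the whole open subspace is the free sheaf on the open. -/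
noncomputable def shriekFreeIso :
    (shriekTop U).obj (freeSheaf (⊤ : Opens (TopCat.of U))) ≅ freeSheaf U :=
  Coyoneda.ext _ _
    (fun f => (θTop U _).symm ((shriekTopAdj U).homEquiv _ _ f))
    (fun g => ((shriekTopAdj U).homEquiv _ _).symm (θTop U _ g))
    (fun f => by simp)
    (fun g => by simp)
    (fun f g => by
      rw [θTop_comp]
      exact Adjunction.homEquiv_naturality_right_symm _ _ _)

section Add

variable {𝒞 : Type*} [Category 𝒞] [Preadditive 𝒞]

/-- precomposition with an isomorphism, additively. -/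
def preAddEquiv {A A' : 𝒞} (e : A ≅ A') (B : 𝒞) : (A ⟶ B) ≃+ (A' ⟶ B) where
  toFun f := e.inv ≫ f
  invFun g := e.hom ≫ g
  left_inv f := by simp
  right_inv g := by simp
  map_add' f g := Preadditive.comp_add _ _ _ _ _ _

/-- postcomposition with an isomorphism, additively. -/
def postAddEquiv (A : 𝒞) {B B' : 𝒞} (e : B ≅ B') : (A ⟶ B) ≃+ (A ⟶ B') where
  toFun f := f ≫ e.hom
  invFun g := g ≫ e.inv
  left_inv f := by simp
  right_inv g := by simp
  map_add' f g := Preadditive.add_comp _ _ _ _ _ _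

end Add

theorem HDU_restr_equiv
    [HasDerivedCategory.{u} (CohTop.Ab X)] [HasDerivedCategory.{u} (CohTop.Ab (TopCat.of U))]
    [hl : PreservesFiniteLimits (CohTop.restrFunctor U)]
    [hc : PreservesFiniteColimits (CohTop.restrFunctor U)]
    (K : DerivedCategory (CohTop.Ab X)) (p : ℤ) :
    Nonempty (CohCx.HDU K p U ≃+
      CohCx.HDU ((CohTop.restrFunctor U).mapDerivedCategory.obj K) p ⊤) := by
  let adj := Groth.Agent.DerAdj.adjDer (shriekTopAdj U)
  have : (shriekTop U).mapDerivedCategory.Additive := inferInstance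
  let e1 := preAddEquiv ((DerivedCategory.singleFunctor (CohTop.Ab X) 0).mapIso (shriekFreeIso U)).symm
    ((shiftFunctor (DerivedCategory (CohTop.Ab X)) p).obj K)
  let e2 := preAddEquiv (((shriekTop U).mapDerivedCategorySingleFunctor 0).app
    (freeSheaf (⊤ : Opens (TopCat.of U)))).symm
    ((shiftFunctor (DerivedCategory (CohTop.Ab X)) p).obj K)
  let e3 := adj.homAddEquiv ((DerivedCategory.singleFunctor (CohTop.Ab (TopCat.of U)) 0).obj
    (freeSheaf (⊤ : Opens (TopCat.of U)))) ((shiftFunctor (DerivedCategory (CohTop.Ab X)) p).obj K)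
  let e4 := postAddEquiv ((DerivedCategory.singleFunctor (CohTop.Ab (TopCat.of U)) 0).obj
    (freeSheaf (⊤ : Opens (TopCat.of U))))
    (((CohTop.restrFunctor U).mapDerivedCategory.commShiftIso p).app K)
  exact ⟨e1.trans (e2.trans (e3.trans e4))⟩

end Groth.Agent.CohTopBasics
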