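import Groth.Agent.Lib.CohTopBasics
set_option autoImplicit false
universe u
open CategoryTheory TopologicalSpace Opposite Limits TopCat.Presheaf

namespace Groth.Agent.CohTopBasics

lemma subsingleton_of_eq_bot {Z : TopCat.{u}} (G : CohTop.Ab Z) {W : Opens Z} (h : W = ⊥) :
    Subsingleton (G.obj.obj (op W)) :=
  AddCommGrpCat.subsingleton_of_isZero (TopCat.Sheaf.isTerminalOfEqEmpty G h).isZero

/-- every abelian sheaf on a discrete space is flasque. -/
theorem isFlasque_of_discrete {Z : TopCat.{u}} [DiscreteTopology Z] (G : CohTop.Ab Z) :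
    TopCat.Sheaf.IsFlasque G where
  epi {U V} i := by
    rw [AddCommGrpCat.epi_iff_surjective]
    intro s
    have hVU : V.unop ≤ U.unop := leOfHom i.unop
    let W : Opens Z := ⟨(U.unop : Set Z) \ (V.unop : Set Z), isOpen_discrete _⟩
    have hWU : W ≤ U.unop := fun x hx => hx.1
    have hVW : V.unop ⊓ W = ⊥ := by
      ext x
      simp only [W, Opens.coe_inf, Opens.coe_mk, Set.mem_inter_iff, Set.mem_diff, Opens.coe_bot,
        Set.mem_empty_iff_false, iff_false]
      tauto
    have hWV : W ⊓ V.unop = ⊥ := by rw [inf_comm]; exact hVW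
    let f : Fin 2 → Opens Z := ![V.unop, W]
    let sf : (k : Fin 2) → G.obj.obj (op (f k))
      | 0 => s
      | 1 => 0
    have hcompat : IsCompatible G.obj f sf := by
      simp only [IsCompatible, Fin.forall_fin_two]
      refine ⟨⟨rfl, ?_⟩, ?_, rfl⟩
      · exact Subsingleton.elim (h := subsingleton_of_eq_bot G hVW) _ _
      · exact Subsingleton.elim (h := subsingleton_of_eq_bot G hWV) _ _
    have hcover : U.unop ≤ iSup f := by
      intro x hx
      by_cases hxV : x ∈ V.unop
      · exact Opens.mem_iSup.mpr ⟨0, hxV⟩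
      · exact Opens.mem_iSup.mpr ⟨1, ⟨hx, hxV⟩⟩
    obtain ⟨t, ht, -⟩ := TopCat.Sheaf.existsUnique_gluing' G f U.unop
      (fun k => match k with
        | 0 => homOfLE hVU
        | 1 => homOfLE hWU) hcover sf hcompat
    refine ⟨t, ?_⟩
    have := ht 0
    have hi : i = (homOfLE hVU).op := Subsingleton.elim _ _
    rw [hi]
    exact this
variable {X : TopCat.{u}} (F : CohTop.Ab X) {Z : TopCat.{u}} (f : Z ⟶ X)

/-- presheaf of discontinuous sections: `V ↦ ∏_{z ∈ V} F_{f z}`. -/
noncomputable def godPresheaf : (Opens Z)ᵒᵖ ⥤ AddCommGrpCat.{u} where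
  obj V := AddCommGrpCat.of (∀ z : V.unop, (CohTop.stalk F (f z.1) : AddCommGrpCat.{u}))
  map {U V} i := AddCommGrpCat.ofHom
    { toFun := fun g z => g ⟨z.1, leOfHom i.unop z.2⟩
      map_zero' := rfl
      map_add' := fun _ _ => rfl }
  map_id _ := rfl
  map_comp _ _ := rfl

lemma godPresheaf_isSheaf : TopCat.Presheaf.IsSheaf (godPresheaf F f) := by
  rw [TopCat.Presheaf.isSheaf_iff_isSheafUniqueGluing]
  intro ι U sf hsf
  classical
  have hex : ∀ z : (iSup U : Opens Z), ∃ i, z.1 ∈ U i := fun z => Opens.mem_iSup.mp z.2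
  have key : ∀ (i j : ι) (z : Z) (hi : z ∈ U i) (hj : z ∈ U j),
      (sf i : ∀ z : U i, (CohTop.stalk F (f z.1) : AddCommGrpCat.{u})) ⟨z, hi⟩ =
        (sf j : ∀ z : U j, (CohTop.stalk F (f z.1) : AddCommGrpCat.{u})) ⟨z, hj⟩ := by
    intro i j z hi hj
    have := congrFun (hsf i j) ⟨z, ⟨hi, hj⟩⟩
    exact this
  let s : ∀ z : (iSup U : Opens Z), (CohTop.stalk F (f z.1) : AddCommGrpCat.{u}) := fun z =>
    (sf (hex z).choose : ∀ z : U (hex z).choose, (CohTop.stalk F (f z.1) : AddCommGrpCat.{u}))
      ⟨z.1, (hex z).choose_spec⟩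
  refine ⟨s, ?_, ?_⟩
  · intro i
    funext z
    exact key _ _ _ _ _
  · intro t ht
    funext z
    have := congrFun (ht (hex z).choose) ⟨z.1, (hex z).choose_spec⟩
    exact this

noncomputable def godSheaf : CohTop.Ab Z := ⟨godPresheaf F f, godPresheaf_isSheaf F f⟩

/-- the canonical map `F ⟶ f_* (godSheaf)`, `s ↦ (germ_{f z} s)_z`. -/
noncomputable def toGod : F ⟶ (CohTop.push f).obj (godSheaf F f) where
  hom :=
  { app := fun U => AddCommGrpCat.ofHom
      { toFun := fun s z => TopCat.Presheaf.germ F.obj U.unop (f z.1) z.2 s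
        map_zero' := by funext z; exact map_zero _
        map_add' := fun a b => by funext z; exact map_add _ _ _ }
    naturality := fun U V i => by
      ext s
      funext z
      exact (TopCat.Presheaf.germ_res_apply F.obj i.unop (f z.1) z.2 s) }

lemma toGod_app_injective (hf : Function.Surjective f) (U : (Opens X)ᵒᵖ) :
    Function.Injective ((toGod F f).hom.app U) := by
  intro s t hst
  refine TopCat.Presheaf.section_ext F U.unop s t ?_
  intro x hx
  obtain ⟨z, rfl⟩ := hf x
  exact congrFun hst ⟨z, hx⟩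

lemma toGod_mono (hf : Function.Surjective f) : Mono (toGod F f) := by
  have : Mono (toGod F f).hom := by
    rw [NatTrans.mono_iff_mono_app]
    intro U
    rw [AddCommGrpCat.mono_iff_injective]
    exact toGod_app_injective F f hf U
  exact (sheafToPresheaf _ _).mono_of_mono_map this

/-- first step of the Godement resolution: the unit `F ⟶ f_* f⁻¹ F` is mono for surjective `f`. -/
theorem unit_mono_of_surjective (hf : Function.Surjective f) :
    Mono ((TopCat.Sheaf.pullbackPushforwardAdjunction AddCommGrpCat.{u} f).unit.app F) := by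
  have := toGod_mono F f hf
  have h := Adjunction.homEquiv_unit (TopCat.Sheaf.pullbackPushforwardAdjunction AddCommGrpCat.{u} f)
    (X := F) (Y := godSheaf F f)
    (f := ((TopCat.Sheaf.pullbackPushforwardAdjunction AddCommGrpCat.{u} f).homEquiv _ _).symm
      (toGod F f))
  rw [Equiv.apply_symm_apply] at h
  exact @mono_of_mono_fac _ _ _ _ _ _ _ _ this h.symm

end Groth.Agent.CohTopBasics
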