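import Groth.Agent.Lib.CohTopBasics
set_option autoImplicit false
universe u
open CategoryTheory TopologicalSpace Opposite Limits

namespace Groth.Agent.CohTopBasics

variable (X : TopCat.{u}) (A : Type u) [AddCommGroup A]

/-- the presheaf `U ↦ A` for `U` nonempty, `0` for `U` empty. -/
noncomputable def irrPresheaf : (Opens X)ᵒᵖ ⥤ AddCommGrpCat.{u} where
  obj U := AddCommGrpCat.of (PLift ((U.unop : Set X).Nonempty) → A)
  map {U V} i := AddCommGrpCat.ofHom
    { toFun := fun g h => g ⟨h.down.mono (leOfHom i.unop)⟩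
      map_zero' := rfl
      map_add' := fun _ _ => rfl }
  map_id _ := rfl
  map_comp _ _ := rfl

lemma irrPresheaf_map_apply {U V : (Opens X)ᵒᵖ} (i : U ⟶ V)
    (g : PLift ((U.unop : Set X).Nonempty) → A) (h : PLift ((V.unop : Set X).Nonempty)) :
    ((irrPresheaf X A).map i g : PLift ((V.unop : Set X).Nonempty) → A) h =
      g ⟨h.down.mono (leOfHom i.unop)⟩ := rfl

variable [IrreducibleSpace X]

lemma irrPresheaf_isSheaf : TopCat.Presheaf.IsSheaf (irrPresheaf X A) := by
  rw [TopCat.Presheaf.isSheaf_iff_isSheafUniqueGluing]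
  intro ι U sf hsf
  classical
  -- value of the glued section
  have key : ∀ (i j : ι) (hi : (U i : Set X).Nonempty) (hj : (U j : Set X).Nonempty),
      (sf i : PLift ((U i : Set X).Nonempty) → A) ⟨hi⟩ =
        (sf j : PLift ((U j : Set X).Nonempty) → A) ⟨hj⟩ := by
    intro i j hi hj
    have hij : ((U i ⊓ U j : Opens X) : Set X).Nonempty :=
      nonempty_preirreducible_inter (U i).isOpen (U j).isOpen hi hj
    have := congrFun (hsf i j) ⟨hij⟩
    exact this
  let s : PLift ((iSup U : Opens X) : Set X).Nonempty → A := fun h =>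
    have hex : ∃ i, (U i : Set X).Nonempty := by
      obtain ⟨x, hx⟩ := h.down
      obtain ⟨i, hi⟩ := Opens.mem_iSup.mp hx
      exact ⟨i, x, hi⟩
    (sf hex.choose : PLift ((U hex.choose : Set X).Nonempty) → A) ⟨hex.choose_spec⟩
  refine ⟨s, ?_, ?_⟩
  · intro i
    funext h
    exact key _ _ _ _
  · intro t ht
    funext h
    have hex : ∃ i, (U i : Set X).Nonempty := by
      obtain ⟨x, hx⟩ := h.down
      obtain ⟨i, hi⟩ := Opens.mem_iSup.mp hx
      exact ⟨i, x, hi⟩
    have := congrFun (ht hex.choose) ⟨hex.choose_spec⟩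
    exact this

/-- the sheaf `U ↦ A` (`U ≠ ∅`) on an irreducible space. -/
noncomputable def irrSheaf : CohTop.Ab X := ⟨irrPresheaf X A, irrPresheaf_isSheaf X A⟩

instance irrSheaf_isFlasque : TopCat.Sheaf.IsFlasque (irrSheaf X A) where
  epi {U V} i := by
    rw [AddCommGrpCat.epi_iff_surjective]
    intro g
    classical
    refine ⟨fun _ => if h : (V.unop : Set X).Nonempty then
      (g : PLift ((V.unop : Set X).Nonempty) → A) ⟨h⟩ else 0, ?_⟩
    funext h
    show (if h' : (V.unop : Set X).Nonempty then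
      (g : PLift ((V.unop : Set X).Nonempty) → A) ⟨h'⟩ else 0) = _
    rw [dif_pos h.down]

omit [IrreducibleSpace X] in
lemma isFlasque_of_iso {F G : CohTop.Ab X} (e : F ≅ G) [TopCat.Sheaf.IsFlasque F] :
    TopCat.Sheaf.IsFlasque G where
  epi {U V} i := by
    have h : G.obj.map i = e.inv.hom.app U ≫ F.obj.map i ≫ e.hom.hom.app V := by
      rw [e.hom.hom.naturality, ← Category.assoc, ← NatTrans.comp_app,
        ← ObjectProperty.FullSubcategory.comp_hom, e.inv_hom_id]
      simp
    rw [h]
    have : IsIso (e.inv.hom.app U) :=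
      ⟨e.hom.hom.app U, by
        rw [← NatTrans.comp_app, ← ObjectProperty.FullSubcategory.comp_hom, e.inv_hom_id]; rfl, by
        rw [← NatTrans.comp_app, ← ObjectProperty.FullSubcategory.comp_hom, e.hom_inv_id]; rfl⟩
    have : IsIso (e.hom.hom.app V) :=
      ⟨e.inv.hom.app V, by
        rw [← NatTrans.comp_app, ← ObjectProperty.FullSubcategory.comp_hom, e.hom_inv_id]; rfl, by
        rw [← NatTrans.comp_app, ← ObjectProperty.FullSubcategory.comp_hom, e.inv_hom_id]; rfl⟩
    infer_instance

/-- the comparison from the constant presheaf. -/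
noncomputable def constToIrr :
    (Functor.const (Opens X)ᵒᵖ).obj (AddCommGrpCat.of A) ⟶ irrPresheaf X A where
  app U := AddCommGrpCat.ofHom
    { toFun := fun a _ => a
      map_zero' := rfl
      map_add' := fun _ _ => rfl }
  naturality _ _ _ := rfl

instance : Presheaf.IsLocallyInjective (Opens.grothendieckTopology X) (constToIrr X A) where
  equalizerSieve_mem {U} a b h := by
    intro x hx
    have hab : a = b := congrFun h ⟨⟨x, hx⟩⟩
    exact ⟨U.unop, 𝟙 _, by subst hab; rfl, hx⟩

instance : Presheaf.IsLocallySurjective (Opens.grothendieckTopology X) (constToIrr X A) where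
  imageSieve_mem {U} g := by
    intro x hx
    refine ⟨U, 𝟙 _, ⟨(g : PLift ((U : Set X).Nonempty) → A) ⟨⟨x, hx⟩⟩, ?_⟩, hx⟩
    rfl

/-- on an irreducible space the constant sheaf is the explicit sheaf `irrSheaf`. -/
theorem nonempty_constIsoIrr : Nonempty (CohTop.const X A ≅ irrSheaf X A) := by
  have h1 : IsIso ((presheafToSheaf (Opens.grothendieckTopology X) AddCommGrpCat.{u}).map
      (constToIrr X A)) :=
    ((Opens.grothendieckTopology X).W_iff _).mp
      (GrothendieckTopology.W_of_isLocallyBijective _ (constToIrr X A))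
  have h2 : IsIso (sheafificationAdjunction (Opens.grothendieckTopology X)
      AddCommGrpCat.{u}).counit := inferInstance
  have h3 : IsIso ((sheafificationAdjunction (Opens.grothendieckTopology X)
      AddCommGrpCat.{u}).counit.app (irrSheaf X A)) := inferInstance
  exact ⟨@asIso _ _ _ _ _ h1 ≪≫ @asIso _ _ _ _ _ h3⟩

instance const_isFlasque : TopCat.Sheaf.IsFlasque (CohTop.const X A) := by
  obtain ⟨e⟩ := nonempty_constIsoIrr X A
  exact isFlasque_of_iso X e.symm

end Groth.Agent.CohTopBasics
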