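import Groth.Prelude.Def_DeltaF
import Mathlib

set_option autoImplicit false
universe v v' u u'
open CategoryTheory CategoryTheory.Limits
open DeltaF

namespace S8535Lib

variable {A : Type u} [Category.{v} A] [Abelian A]
    {B : Type u'} [Category.{v'} B] [Abelian B]

/-- the cokernel SES of a mono -/
noncomputable def sesOf {X Y : A} (u : X ⟶ Y) : ShortComplex A :=
  ShortComplex.mk u (cokernel.π u) (cokernel.condition u)

lemma sesOf_shortExact {X Y : A} (u : X ⟶ Y) [Mono u] : (sesOf u).ShortExact where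
  exact := ShortComplex.exact_of_g_is_cokernel _ (cokernelIsCokernel u)
  mono_f := by dsimp [sesOf]; infer_instance
  epi_g := by dsimp [sesOf]; infer_instance

lemma epi_δ (T : CohDeltaFunctor A B ℕ) (S : ShortComplex A) (hS : S.ShortExact) (m : ℕ)
    (h0 : (T.F (m + 1)).map S.f = 0) : Epi (T.δ S hS m (m + 1) rfl) := by
  have := T.exact₁ S hS m (m + 1) rfl
  exact (ShortComplex.exact_iff_epi _ (by exact h0)).1 this

/-- L1: mono in degree m+1 at X from effacement -/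
lemma mono_succ' (T T' : CohDeltaFunctor A B ℕ) (φ : T ⟶ T') (m : ℕ) (S : ShortComplex A)
    (hS : S.ShortExact)
    (hu : (T.F (m + 1)).map S.f = 0)
    (hY : Epi ((φ.app m).app S.X₂)) (hZ : Mono ((φ.app m).app S.X₃)) :
    Mono ((φ.app (m + 1)).app S.X₁) := by
  have hδ : Epi (T.δ S hS m (m + 1) rfl) := epi_δ T _ hS m hu
  refine Preadditive.mono_of_cancel_zero _ (fun {W} k hk => ?_)
  obtain ⟨W₁, π₁, hπ₁, z, hz⟩ := surjective_up_to_refinements_of_epi (T.δ S hS m (m + 1) rfl) k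
  have h1 : (z ≫ (φ.app m).app S.X₃) ≫ T'.δ S hS m (m + 1) rfl = 0 := by
    have := φ.comm S hS m (m + 1) rfl
    rw [Category.assoc, ← this, ← Category.assoc, ← hz, Category.assoc, hk, comp_zero]
  obtain ⟨W₂, π₂, hπ₂, y', hy'⟩ := (T'.exact₃ S hS m (m + 1) rfl).exact_up_to_refinements _ h1
  obtain ⟨W₃, π₃, hπ₃, y, hy⟩ := surjective_up_to_refinements_of_epi ((φ.app m).app S.X₂) y'
  have h2 : π₃ ≫ π₂ ≫ z = y ≫ (T.F m).map S.g := by
    rw [← cancel_mono ((φ.app m).app S.X₃)]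
    have hn := (φ.app m).naturality S.g
    change π₂ ≫ z ≫ (φ.app m).app S.X₃ = y' ≫ (T'.F m).map S.g at hy'
    rw [Category.assoc, Category.assoc, Category.assoc, hy', ← Category.assoc, hy, Category.assoc, hn]
  have h3 : (π₃ ≫ π₂ ≫ π₁) ≫ k = 0 := by
    rw [Category.assoc, Category.assoc, hz, ← Category.assoc, ← Category.assoc, Category.assoc π₃, h2, Category.assoc]
    have := T.comp_δ S hS m (m + 1) rfl
    rw [this, comp_zero]
  have : Epi (π₃ ≫ π₂ ≫ π₁) := epi_comp' hπ₃ (epi_comp' hπ₂ hπ₁)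
  rw [← cancel_epi (π₃ ≫ π₂ ≫ π₁), h3, comp_zero]

lemma mono_succ (T T' : CohDeltaFunctor A B ℕ) (φ : T ⟶ T') (m : ℕ) {X Y : A} (u : X ⟶ Y) [Mono u]
    (hu : (T.F (m + 1)).map u = 0)
    (hY : Epi ((φ.app m).app Y)) (hZ : Mono ((φ.app m).app (cokernel u))) :
    Mono ((φ.app (m + 1)).app X) :=
  mono_succ' T T' φ m (sesOf u) (sesOf_shortExact u) hu hY hZ

/-- L2: epi in degree m+1 at X from effacement of T' -/
lemma epi_succ' (T T' : CohDeltaFunctor A B ℕ) (φ : T ⟶ T') (m : ℕ) (S : ShortComplex A)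
    (hS : S.ShortExact)
    (hu : (T'.F (m + 1)).map S.f = 0)
    (hZ : Epi ((φ.app m).app S.X₃)) :
    Epi ((φ.app (m + 1)).app S.X₁) := by
  have hδ : Epi (T'.δ S hS m (m + 1) rfl) := epi_δ T' _ hS m hu
  have := φ.comm S hS m (m + 1) rfl
  have : Epi (T.δ S hS m (m + 1) rfl ≫ (φ.app (m + 1)).app S.X₁) := by
    rw [this]; exact epi_comp _ _
  exact epi_of_epi (T.δ S hS m (m + 1) rfl) _

lemma epi_succ (T T' : CohDeltaFunctor A B ℕ) (φ : T ⟶ T') (m : ℕ) {X Y : A} (u : X ⟶ Y) [Mono u]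
    (hu : (T'.F (m + 1)).map u = 0)
    (hZ : Epi ((φ.app m).app (cokernel u))) :
    Epi ((φ.app (m + 1)).app X) :=
  epi_succ' T T' φ m (sesOf u) (sesOf_shortExact u) hu hZ

variable (T T' : CohDeltaFunctor A B ℕ) (φ : T ⟶ T')

lemma isIso_of_mono_epi (i : ℕ) (h1 : Mono (φ.app i)) (h2 : Epi (φ.app i)) : IsIso (φ.app i) :=
  isIso_of_mono_of_epi _

lemma mono_succ_of_isIso (hT : T.IsEffaceable) (m : ℕ) (h : IsIso (φ.app m)) : Mono (φ.app (m + 1)) := by
  rw [NatTrans.mono_iff_mono_app]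
  intro X
  obtain ⟨Y, u, hu, h0⟩ := hT m X
  exact mono_succ T T' φ m u h0 inferInstance inferInstance

lemma epi_succ_of_epi (m : ℕ) (h : Epi (φ.app m))
    (hT' : ∀ X : A, ∃ (Y : A) (u : X ⟶ Y), Mono u ∧ (T'.F (m + 1)).map u = 0) :
    Epi (φ.app (m + 1)) := by
  rw [NatTrans.epi_iff_epi_app]
  intro X
  obtain ⟨Y, u, hu, h0⟩ := hT' X
  rw [NatTrans.epi_iff_epi_app] at h
  exact epi_succ T T' φ m u h0 (h _)

lemma b_imp_a (hT : T.IsEffaceable) (n : ℕ) (h0 : Mono (φ.app 0)) (he : ∀ i : ℕ, i ≤ n → Epi (φ.app i)) :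
    (∀ i : ℕ, i ≤ n → IsIso (φ.app i)) ∧ Mono (φ.app (n + 1)) := by
  induction n with
  | zero =>
    have : IsIso (φ.app 0) := isIso_of_mono_epi T T' φ 0 h0 (he 0 le_rfl)
    refine ⟨fun i hi => ?_, mono_succ_of_isIso T T' φ hT 0 this⟩
    obtain rfl : i = 0 := by omega
    exact this
  | succ n ih =>
    obtain ⟨h1, h2⟩ := ih (fun i hi => he i (by omega))
    have : IsIso (φ.app (n + 1)) := isIso_of_mono_epi T T' φ _ h2 (he _ le_rfl)
    refine ⟨fun i hi => ?_, mono_succ_of_isIso T T' φ hT _ this⟩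
    rcases Nat.lt_or_ge i (n + 1) with h | h
    · exact h1 i (by omega)
    · obtain rfl : i = n + 1 := by omega
      exact this

lemma c_imp_a (hT : T.IsEffaceable) (n : ℕ) (h0 : IsIso (φ.app 0))
    (he : ∀ i : ℕ, 0 < i → i ≤ n → ∀ X : A, ∃ (Y : A) (u : X ⟶ Y), Mono u ∧ (T'.F i).map u = 0) :
    (∀ i : ℕ, i ≤ n → IsIso (φ.app i)) ∧ Mono (φ.app (n + 1)) := by
  induction n with
  | zero =>
    refine ⟨fun i hi => ?_, mono_succ_of_isIso T T' φ hT 0 h0⟩
    obtain rfl : i = 0 := by omega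
    exact h0
  | succ n ih =>
    obtain ⟨h1, h2⟩ := ih (fun i hi hi' => he i hi (by omega))
    have hepi : Epi (φ.app (n + 1)) := by
      have := h1 n le_rfl
      exact epi_succ_of_epi T T' φ n inferInstance (he (n + 1) (by omega) le_rfl)
    have : IsIso (φ.app (n + 1)) := isIso_of_mono_epi T T' φ _ h2 hepi
    refine ⟨fun i hi => ?_, mono_succ_of_isIso T T' φ hT _ this⟩
    rcases Nat.lt_or_ge i (n + 1) with h | h
    · exact h1 i (by omega)
    · obtain rfl : i = n + 1 := by omega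
      exact this

lemma a_imp_c (hT : T.IsEffaceable) (n : ℕ) (h : ∀ i : ℕ, i ≤ n → IsIso (φ.app i)) :
    IsIso (φ.app 0) ∧ ∀ i : ℕ, 0 < i → i ≤ n → ∀ X : A, ∃ (Y : A) (u : X ⟶ Y), Mono u ∧ (T'.F i).map u = 0 := by
  refine ⟨h 0 (Nat.zero_le _), fun i hi hin X => ?_⟩
  obtain ⟨j, rfl⟩ : ∃ j, i = j + 1 := ⟨i - 1, by omega⟩
  obtain ⟨Y, u, hu, h0⟩ := hT j X
  refine ⟨Y, u, hu, ?_⟩
  have := h _ hin
  have : IsIso ((φ.app (j + 1)).app X) := inferInstance
  rw [← cancel_epi ((φ.app (j + 1)).app X), ← (φ.app (j + 1)).naturality u, h0, zero_comp, comp_zero]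

end S8535Lib
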