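import Mathlib
import Groth.Prelude.Def_DeltaF
set_option autoImplicit false
universe v u v' u'
open CategoryTheory Limits

namespace Groth.Agent.DeltaFUniv

open DeltaF

variable {A : Type u} [Category.{v} A] [Abelian A] {B : Type u'} [Category.{v'} B] [Abelian B]
  (T T' : CohDeltaFunctor A B ℕ)

/-- the short exact sequence attached to a monomorphism. -/
noncomputable abbrev sesOf {X P : A} (v : X ⟶ P) : ShortComplex A :=
  ShortComplex.mk v (cokernel.π v) (cokernel.condition v)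

lemma sesOf_shortExact {X P : A} (v : X ⟶ P) [Mono v] : (sesOf v).ShortExact :=
  ShortComplex.ShortExact.mk (ShortComplex.exact_cokernel v)

/-- the connecting map in consecutive degrees. -/
noncomputable abbrev dl (S : ShortComplex A) (hS : S.ShortExact) (n : ℕ) :
    (T.F n).obj S.X₃ ⟶ (T.F (n + 1)).obj S.X₁ := T.δ S hS n (n + 1) rfl

lemma epi_dl (S : ShortComplex A) (hS : S.ShortExact) (n : ℕ) (h : (T.F (n + 1)).map S.f = 0) :
    Epi (dl T S hS n) :=
  (ShortComplex.exact_iff_epi _ h).mp (T.exact₁ S hS n (n + 1) rfl)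

variable {T T'}

/-- the transfer lemma along a morphism of short exact sequences. -/
lemma transfer {n : ℕ} (f : ∀ X : A, (T.F n).obj X ⟶ (T'.F n).obj X)
    (hf : ∀ {X Y : A} (φ : X ⟶ Y), (T.F n).map φ ≫ f Y = f X ≫ (T'.F n).map φ)
    {S₁ S₂ : ShortComplex A} (h₁ : S₁.ShortExact) (h₂ : S₂.ShortExact) (Φ : S₁ ⟶ S₂)
    (g : (T.F (n + 1)).obj S₂.X₁ ⟶ (T'.F (n + 1)).obj S₂.X₁)
    (hg : dl T S₂ h₂ n ≫ g = f S₂.X₃ ≫ dl T' S₂ h₂ n) :
    dl T S₁ h₁ n ≫ (T.F (n + 1)).map Φ.τ₁ ≫ g =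
      f S₁.X₃ ≫ dl T' S₁ h₁ n ≫ (T'.F (n + 1)).map Φ.τ₁ := by
  have e1 := T.δ_natural h₁ h₂ Φ n (n + 1) rfl
  have e2 := T'.δ_natural h₁ h₂ Φ n (n + 1) rfl
  calc dl T S₁ h₁ n ≫ (T.F (n + 1)).map Φ.τ₁ ≫ g
      = ((T.F n).map Φ.τ₃ ≫ dl T S₂ h₂ n) ≫ g := by rw [e1, Category.assoc]
    _ = (T.F n).map Φ.τ₃ ≫ f S₂.X₃ ≫ dl T' S₂ h₂ n := by rw [Category.assoc, hg]
    _ = f S₁.X₃ ≫ (T'.F n).map Φ.τ₃ ≫ dl T' S₂ h₂ n := by
        rw [← Category.assoc, hf, Category.assoc]
    _ = f S₁.X₃ ≫ dl T' S₁ h₁ n ≫ (T'.F (n + 1)).map Φ.τ₁ := by rw [e2]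

/-- the strong specification of the next component at `X`. -/
def Good {n : ℕ} (f : ∀ X : A, (T.F n).obj X ⟶ (T'.F n).obj X) (X : A)
    (g : (T.F (n + 1)).obj X ⟶ (T'.F (n + 1)).obj X) : Prop :=
  ∀ (S : ShortComplex A) (hS : S.ShortExact) (φ : S.X₁ ⟶ X),
    dl T S hS n ≫ (T.F (n + 1)).map φ ≫ g = f S.X₃ ≫ dl T' S hS n ≫ (T'.F (n + 1)).map φ

lemma exists_spec {n : ℕ} (f : ∀ X : A, (T.F n).obj X ⟶ (T'.F n).obj X)
    (hf : ∀ {X Y : A} (φ : X ⟶ Y), (T.F n).map φ ≫ f Y = f X ≫ (T'.F n).map φ)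
    (S : ShortComplex A) (hS : S.ShortExact) (h : (T.F (n + 1)).map S.f = 0) :
    ∃ g : (T.F (n + 1)).obj S.X₁ ⟶ (T'.F (n + 1)).obj S.X₁,
      dl T S hS n ≫ g = f S.X₃ ≫ dl T' S hS n := by
  have hex := T.exact₃ S hS n (n + 1) rfl
  have : Epi (ShortComplex.mk _ _ (T.comp_δ S hS n (n + 1) rfl)).g := epi_dl T S hS n h
  refine ⟨hex.desc (f S.X₃ ≫ dl T' S hS n) ?_, hex.g_desc _ _⟩
  show (T.F n).map S.g ≫ f S.X₃ ≫ dl T' S hS n = 0
  rw [← Category.assoc, hf, Category.assoc, T'.comp_δ S hS n (n + 1) rfl, comp_zero]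

/-- from an effacement one gets a good component. -/
lemma exists_good {n : ℕ} (f : ∀ X : A, (T.F n).obj X ⟶ (T'.F n).obj X)
    (hf : ∀ {X Y : A} (φ : X ⟶ Y), (T.F n).map φ ≫ f Y = f X ≫ (T'.F n).map φ)
    (X : A) {Y : A} (u : X ⟶ Y) [Mono u] (hu : (T.F (n + 1)).map u = 0) :
    ∃ g, Good f X g := by
  obtain ⟨g, hg⟩ := exists_spec f hf (sesOf u) (sesOf_shortExact u) hu
  refine ⟨g, fun S hS φ => ?_⟩
  have := hS.mono_f
  have := hS.epi_g
  -- the pushout effacement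
  let P := pushout S.f (φ ≫ u)
  let inl : S.X₂ ⟶ P := pushout.inl _ _
  let inr : Y ⟶ P := pushout.inr _ _
  have hcond : S.f ≫ inl = (φ ≫ u) ≫ inr := pushout.condition
  have : Mono inr := inferInstance
  let v : X ⟶ P := u ≫ inr
  have hv : (T.F (n + 1)).map v = 0 := by
    rw [Functor.map_comp, hu, zero_comp]
  obtain ⟨gv, hgv⟩ := exists_spec f hf (sesOf v) (sesOf_shortExact v) hv
  -- the two morphisms of short exact sequences
  let Φ₂ : sesOf u ⟶ sesOf v :=
    { τ₁ := 𝟙 X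
      τ₂ := inr
      τ₃ := cokernel.desc u (inr ≫ cokernel.π v) (by
        rw [← Category.assoc]; exact cokernel.condition v)
      comm₁₂ := by simp [v]
      comm₂₃ := by simp }
  have h0 : S.f ≫ inl ≫ cokernel.π v = 0 := by
    rw [← Category.assoc, hcond, Category.assoc, Category.assoc]
    have : u ≫ inr ≫ cokernel.π v = 0 := by
      rw [← Category.assoc]; exact cokernel.condition v
    rw [this, comp_zero]
  let Φ₁ : S ⟶ sesOf v :=
    { τ₁ := φ
      τ₂ := inl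
      τ₃ := hS.exact.desc (inl ≫ cokernel.π v) h0
      comm₁₂ := by
        show φ ≫ u ≫ inr = S.f ≫ inl
        rw [hcond, Category.assoc]
      comm₂₃ := (hS.exact.g_desc _ _).symm }
  have e2 := transfer f hf (sesOf_shortExact u) (sesOf_shortExact v) Φ₂ gv hgv
  have hgg : gv = g := by
    have : Epi (dl T (sesOf u) (sesOf_shortExact u) n) := epi_dl T _ _ n hu
    rw [← cancel_epi (dl T (sesOf u) (sesOf_shortExact u) n), hg]
    simpa [Φ₂] using e2
  have e1 := transfer f hf hS (sesOf_shortExact v) Φ₁ gv hgv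
  rw [hgg] at e1
  exact e1

end Groth.Agent.DeltaFUniv

namespace Groth.Agent.DeltaFUniv

open DeltaF

variable {A : Type u} [Category.{v} A] [Abelian A] {B : Type u'} [Category.{v'} B] [Abelian B]
  {T T' : CohDeltaFunctor A B ℕ}

/-- the recursive construction of the components. -/
noncomputable def fam (t : T.F 0 ⟶ T'.F 0) : ∀ (n : ℕ) (X : A), (T.F n).obj X ⟶ (T'.F n).obj X
  | 0, X => t.app X
  | n + 1, X => by
    classical
    exact if h : ∃ g, Good (fam t n) X g then h.choose else 0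

theorem fam_props (hT : T.IsEffaceable) (t : T.F 0 ⟶ T'.F 0) :
    ∀ n, (∀ {X Y : A} (φ : X ⟶ Y), (T.F n).map φ ≫ fam t n Y = fam t n X ≫ (T'.F n).map φ) ∧
      ∀ X, Good (fam t n) X (fam t (n + 1) X) := by
  have hstep : ∀ n, (∀ {X Y : A} (φ : X ⟶ Y),
      (T.F n).map φ ≫ fam t n Y = fam t n X ≫ (T'.F n).map φ) →
      ((∀ X, Good (fam t n) X (fam t (n + 1) X)) ∧
        (∀ {X Y : A} (φ : X ⟶ Y),
          (T.F (n + 1)).map φ ≫ fam t (n + 1) Y = fam t (n + 1) X ≫ (T'.F (n + 1)).map φ)) := by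
    intro n hn
    have hgood : ∀ X, Good (fam t n) X (fam t (n + 1) X) := by
      intro X
      obtain ⟨Y, u, hu, h0⟩ := hT n X
      have h := exists_good (fam t n) hn X u h0
      have : fam t (n + 1) X = h.choose := by
        rw [fam]
        exact dif_pos h
      rw [this]
      exact h.choose_spec
    refine ⟨hgood, ?_⟩
    intro X X' φ
    obtain ⟨Y, u, hu, h0⟩ := hT n X
    have : Epi (dl T (sesOf u) (sesOf_shortExact u) n) := epi_dl T _ _ n h0
    rw [← cancel_epi (dl T (sesOf u) (sesOf_shortExact u) n)]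
    have e1 := hgood X' (sesOf u) (sesOf_shortExact u) φ
    have e2 := hgood X (sesOf u) (sesOf_shortExact u) (𝟙 X)
    rw [CategoryTheory.Functor.map_id, CategoryTheory.Functor.map_id, Category.id_comp,
      Category.comp_id] at e2
    rw [e1, ← Category.assoc _ _ ((T'.F (n + 1)).map φ), ← e2, Category.assoc]
  have hnat : ∀ n, ∀ {X Y : A} (φ : X ⟶ Y),
      (T.F n).map φ ≫ fam t n Y = fam t n X ≫ (T'.F n).map φ := by
    intro n
    induction n with
    | zero => exact fun φ => t.naturality φ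
    | succ n ih => exact (hstep n ih).2
  exact fun n => ⟨hnat n, (hstep n (hnat n)).1⟩

/-- an effaceable cohomological δ-functor is universal. -/
theorem isUniversal (T : CohDeltaFunctor A B ℕ) (hT : T.IsEffaceable) : T.IsUniversal := by
  intro T' t
  have hp := fam_props hT t
  let τ : T ⟶ T' :=
    { app := fun n => { app := fam t n, naturality := fun X Y φ => (hp n).1 φ }
      comm := fun S hS n₀ n₁ h => by
        subst h
        have := (hp n₀).2 S.X₁ S hS (𝟙 _)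
        rw [CategoryTheory.Functor.map_id, CategoryTheory.Functor.map_id, Category.id_comp,
          Category.comp_id] at this
        exact this }
  have huniq : ∀ (τ₁ τ₂ : T ⟶ T'), τ₁.app 0 = τ₂.app 0 → ∀ n, τ₁.app n = τ₂.app n := by
    intro τ₁ τ₂ h0 n
    induction n with
    | zero => exact h0
    | succ n ih =>
      ext X
      obtain ⟨Y, u, hu, hu0⟩ := hT n X
      have : Epi (dl T (sesOf u) (sesOf_shortExact u) n) := epi_dl T _ _ n hu0
      rw [← cancel_epi (dl T (sesOf u) (sesOf_shortExact u) n)]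
      have c1 := τ₁.comm (sesOf u) (sesOf_shortExact u) n (n + 1) rfl
      have c2 := τ₂.comm (sesOf u) (sesOf_shortExact u) n (n + 1) rfl
      rw [ih] at c1
      exact c1.trans c2.symm
  refine ⟨τ, ?_, ?_⟩
  · ext X
    rfl
  · intro τ' hτ'
    apply CohDeltaFunctor.hom_ext
    intro n
    exact huniq τ' τ (hτ'.trans (by ext X; rfl)) n

end Groth.Agent.DeltaFUniv
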