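import Mathlib
set_option autoImplicit false
universe w v u
open CategoryTheory Limits

namespace Groth.Agent.DeltaUniv

lemma exists_lift_of_surjective {X Y Z : Type*} [AddCommGroup X] [AddCommGroup Y] [AddCommGroup Z]
    (π : X →+ Y) (hπ : Function.Surjective π) (h : X →+ Z) (hk : ∀ x, π x = 0 → h x = 0) :
    ∃ g : Y →+ Z, ∀ x, g (π x) = h x := by
  refine ⟨π.liftOfRightInverse (Function.surjInv hπ) (Function.rightInverse_surjInv hπ)
    ⟨h, fun x hx => hk x hx⟩, fun x => ?_⟩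
  exact AddMonoidHom.liftOfRightInverse_comp_apply _ _ _ _ _

variable (𝒜 : Type u) [Category.{v} 𝒜] [Abelian 𝒜]

/-- the skeleton of a δ-functor: groups, maps and connecting maps which are natural for morphisms of
short exact sequences. -/
structure DF where
  obj : 𝒜 → ℕ → Type w
  [grp : ∀ A p, AddCommGroup (obj A p)]
  map : ∀ {A B : 𝒜} (_ : A ⟶ B) (p : ℕ), obj A p →+ obj B p
  map_id : ∀ (A : 𝒜) (p : ℕ) (x : obj A p), map (𝟙 A) p x = x
  δ : ∀ (S : ShortComplex 𝒜) (_ : S.ShortExact) (p : ℕ), obj S.X₃ p →+ obj S.X₁ (p + 1)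
  δ_nat : ∀ (S S' : ShortComplex 𝒜) (hS : S.ShortExact) (hS' : S'.ShortExact) (φ : S ⟶ S') (p : ℕ)
    (x : obj S.X₃ p), δ S' hS' p (map φ.τ₃ p x) = map φ.τ₁ (p + 1) (δ S hS p x)

attribute [instance] DF.grp

variable {𝒜} [EnoughInjectives 𝒜]

/-- The short complex `0 → F → I(F) → Q → 0`. -/
noncomputable abbrev iSC (F : 𝒜) : ShortComplex 𝒜 :=
  ShortComplex.mk (Injective.ι F) (cokernel.π (Injective.ι F)) (cokernel.condition _)

lemma iSC_shortExact (F : 𝒜) : (iSC F).ShortExact :=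
  ShortComplex.ShortExact.mk (ShortComplex.exact_cokernel (Injective.ι F))

/-- a morphism from a short exact sequence to the chosen injective embedding sequence. -/
lemma exists_hom (S : ShortComplex 𝒜) (hS : S.ShortExact) {B : 𝒜} (φ : S.X₁ ⟶ B) :
    ∃ Φ : S ⟶ iSC B, Φ.τ₁ = φ := by
  have := hS.mono_f
  have := hS.epi_g
  let τ₂ : S.X₂ ⟶ (iSC B).X₂ := Injective.factorThru (φ ≫ (iSC B).f) S.f
  have h₂ : S.f ≫ τ₂ = φ ≫ (iSC B).f := Injective.comp_factorThru _ _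
  have h0 : S.f ≫ τ₂ ≫ (iSC B).g = 0 := by
    rw [← Category.assoc, h₂, Category.assoc, (iSC B).zero, comp_zero]
  let τ₃ : S.X₃ ⟶ (iSC B).X₃ := hS.exact.desc (τ₂ ≫ (iSC B).g) h0
  have h₃ : S.g ≫ τ₃ = τ₂ ≫ (iSC B).g := hS.exact.g_desc _ _
  exact ⟨⟨φ, τ₂, τ₃, h₂.symm, h₃.symm⟩, rfl⟩

variable (T R : DF.{w} 𝒜)
  (hTs : ∀ (S : ShortComplex 𝒜) (hS : S.ShortExact) [Injective S.X₂] (p : ℕ),
    Function.Surjective (T.δ S hS p))
  (hTk : ∀ (S : ShortComplex 𝒜) (hS : S.ShortExact) (p : ℕ) (x : T.obj S.X₃ p),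
    T.δ S hS p x = 0 → ∃ z, T.map S.g p z = x)
  (hR : ∀ (S : ShortComplex 𝒜) (hS : S.ShortExact) (p : ℕ) (z : R.obj S.X₂ p),
    R.δ S hS p (R.map S.g p z) = 0)

/-- naturality in degree `p`. -/
def Nat (f : ∀ (p : ℕ) (A : 𝒜), T.obj A p →+ R.obj A p) (p : ℕ) : Prop :=
  ∀ (A B : 𝒜) (φ : A ⟶ B) (x : T.obj A p), f p B (T.map φ p x) = R.map φ p (f p A x)

/-- compatibility with the connecting maps from degree `p` to degree `p + 1`. -/
def Del (f : ∀ (p : ℕ) (A : 𝒜), T.obj A p →+ R.obj A p) (p : ℕ) : Prop :=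
  ∀ (S : ShortComplex 𝒜) (hS : S.ShortExact) (x : T.obj S.X₃ p),
    f (p + 1) S.X₁ (T.δ S hS p x) = R.δ S hS p (f p S.X₃ x)

include hTs in
/-- uniqueness of morphisms of δ-functors out of an effaceable one. -/
theorem unique (f f' : ∀ (p : ℕ) (A : 𝒜), T.obj A p →+ R.obj A p)
    (hf : ∀ p, Del T R f p) (hf' : ∀ p, Del T R f' p) (h0 : ∀ A, f 0 A = f' 0 A) :
    ∀ p A, f p A = f' p A := by
  intro p
  induction p with
  | zero => exact h0
  | succ p ih =>
    intro A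
    ext y
    obtain ⟨x, rfl⟩ := hTs (iSC A) (iSC_shortExact A) p y
    have h1 := hf p (iSC A) (iSC_shortExact A) x
    have h2 := hf' p (iSC A) (iSC_shortExact A) x
    exact h1.trans ((congrArg _ (DFunLike.congr_fun (ih _) x)).trans h2.symm)

/-- the specification of the next step at the object `A`. -/
def Spec {p : ℕ} (fp : ∀ A : 𝒜, T.obj A p →+ R.obj A p) (A : 𝒜)
    (g : T.obj A (p + 1) →+ R.obj A (p + 1)) : Prop :=
  ∀ x, g (T.δ (iSC A) (iSC_shortExact A) p x) =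
    R.δ (iSC A) (iSC_shortExact A) p (fp (iSC A).X₃ x)

include hTs hTk hR in
lemma exists_spec {p : ℕ} (fp : ∀ A : 𝒜, T.obj A p →+ R.obj A p)
    (hn : ∀ (A B : 𝒜) (φ : A ⟶ B) (x : T.obj A p), fp B (T.map φ p x) = R.map φ p (fp A x))
    (A : 𝒜) : ∃ g, Spec T R fp A g := by
  refine exists_lift_of_surjective (T.δ (iSC A) (iSC_shortExact A) p)
    (hTs (iSC A) (iSC_shortExact A) p)
    ((R.δ (iSC A) (iSC_shortExact A) p).comp (fp (iSC A).X₃)) (fun x hx => ?_)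
  obtain ⟨z, rfl⟩ := hTk _ _ _ x hx
  rw [AddMonoidHom.comp_apply, hn]
  exact hR _ _ _ _

/-- the key computation. -/
lemma key {p : ℕ} (fp : ∀ A : 𝒜, T.obj A p →+ R.obj A p)
    (hn : ∀ (A B : 𝒜) (φ : A ⟶ B) (x : T.obj A p), fp B (T.map φ p x) = R.map φ p (fp A x))
    (S : ShortComplex 𝒜) (hS : S.ShortExact) {B : 𝒜} (φ : S.X₁ ⟶ B)
    (g : T.obj B (p + 1) →+ R.obj B (p + 1)) (hg : Spec T R fp B g) (x : T.obj S.X₃ p) :
    g (T.map φ (p + 1) (T.δ S hS p x)) = R.map φ (p + 1) (R.δ S hS p (fp S.X₃ x)) := by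
  obtain ⟨Φ, rfl⟩ := exists_hom S hS φ
  rw [← T.δ_nat S (iSC B) hS (iSC_shortExact B) Φ p x, hg, hn,
    R.δ_nat S (iSC B) hS (iSC_shortExact B) Φ p]

/-- the recursive construction. -/
noncomputable def ext (f0 : ∀ A : 𝒜, T.obj A 0 →+ R.obj A 0) :
    ∀ (p : ℕ) (A : 𝒜), T.obj A p →+ R.obj A p
  | 0, A => f0 A
  | p + 1, A => by
    classical
    exact if h : ∃ g, Spec T R (ext f0 p) A g then h.choose else 0

include hTs hTk hR in
theorem ext_props (f0 : ∀ A : 𝒜, T.obj A 0 →+ R.obj A 0)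
    (h0 : ∀ (A B : 𝒜) (φ : A ⟶ B) (x : T.obj A 0), f0 B (T.map φ 0 x) = R.map φ 0 (f0 A x)) :
    ∀ p, Nat T R (ext T R f0) p ∧ Del T R (ext T R f0) p := by
  have hstep : ∀ p, Nat T R (ext T R f0) p →
      (Del T R (ext T R f0) p ∧ Nat T R (ext T R f0) (p + 1)) := by
    intro p hn
    have hspec : ∀ A, Spec T R (ext T R f0 p) A (ext T R f0 (p + 1) A) := by
      intro A
      have h := exists_spec T R hTs hTk hR (ext T R f0 p) hn A
      have : ext T R f0 (p + 1) A = h.choose := by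
        rw [ext]
        exact dif_pos h
      rw [this]
      exact h.choose_spec
    constructor
    · intro S hS x
      have := key T R (ext T R f0 p) hn S hS (𝟙 S.X₁) _ (hspec S.X₁) x
      rw [T.map_id, R.map_id] at this
      exact this
    · intro A B φ y
      obtain ⟨x, rfl⟩ := hTs (iSC A) (iSC_shortExact A) p y
      rw [key T R (ext T R f0 p) hn (iSC A) (iSC_shortExact A) φ _ (hspec B) x, hspec A x]
  have hnat : ∀ p, Nat T R (ext T R f0) p := by
    intro p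
    induction p with
    | zero => exact h0
    | succ p ih => exact (hstep p ih).2
  exact fun p => ⟨hnat p, (hstep p (hnat p)).1⟩

end Groth.Agent.DeltaUniv
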