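import Mathlib
set_option autoImplicit false
universe w₁ w₂ v₁ v₂ u₁ u₂
open CategoryTheory Limits

namespace Groth.Agent.DerAdj

section HC

variable {𝒜 : Type u₁} [Category.{v₁} 𝒜] [Preadditive 𝒜] {ℬ : Type u₂} [Category.{v₂} ℬ] [Preadditive ℬ]
  {L : 𝒜 ⥤ ℬ} {R : ℬ ⥤ 𝒜} [L.Additive] [R.Additive] (adj : L ⊣ R)
  {ι : Type*} (c : ComplexShape ι)

/-- an adjunction of additive functors induces an adjunction on homological complexes. -/
noncomputable def adjHC : L.mapHomologicalComplex c ⊣ R.mapHomologicalComplex c :=
  Adjunction.mkOfUnitCounit
    { unit :=
        { app := fun K =>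
            { f := fun i => adj.unit.app (K.X i)
              comm' := fun i j _ => by
                dsimp
                exact (adj.unit.naturality (K.d i j)).symm }
          naturality := fun K K' φ => by
            ext i
            dsimp
            exact adj.unit.naturality (φ.f i) }
      counit :=
        { app := fun K =>
            { f := fun i => adj.counit.app (K.X i)
              comm' := fun i j _ => by
                dsimp
                exact (adj.counit.naturality (K.d i j)).symm }
          naturality := fun K K' φ => by
            ext i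
            dsimp
            exact adj.counit.naturality (φ.f i) }
      left_triangle := by
        ext K i
        dsimp
        rw [Category.id_comp]
        exact adj.left_triangle_components (K.X i)
      right_triangle := by
        ext K i
        dsimp
        rw [Category.id_comp]
        exact adj.right_triangle_components (K.X i) }

end HC

section Der

variable {𝒜 : Type u₁} [Category.{v₁} 𝒜] [Abelian 𝒜] {ℬ : Type u₂} [Category.{v₂} ℬ] [Abelian ℬ]
  [HasDerivedCategory.{w₁} 𝒜] [HasDerivedCategory.{w₂} ℬ]
  {L : 𝒜 ⥤ ℬ} {R : ℬ ⥤ 𝒜} [L.Additive] [R.Additive]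
  [PreservesFiniteLimits L] [PreservesFiniteColimits L]
  [PreservesFiniteLimits R] [PreservesFiniteColimits R] (adj : L ⊣ R)

/-- an adjunction of exact functors induces an adjunction on derived categories. -/
noncomputable def adjDer : L.mapDerivedCategory ⊣ R.mapDerivedCategory := by
  letI : CatCommSq (L.mapHomologicalComplex (ComplexShape.up ℤ)) DerivedCategory.Q
      DerivedCategory.Q L.mapDerivedCategory := ⟨L.mapDerivedCategoryFactors.symm⟩
  letI : CatCommSq (R.mapHomologicalComplex (ComplexShape.up ℤ)) DerivedCategory.Q
      DerivedCategory.Q R.mapDerivedCategory := ⟨R.mapDerivedCategoryFactors.symm⟩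
  exact (adjHC adj (ComplexShape.up ℤ)).localization DerivedCategory.Q
    (HomologicalComplex.quasiIso 𝒜 (ComplexShape.up ℤ)) DerivedCategory.Q
    (HomologicalComplex.quasiIso ℬ (ComplexShape.up ℤ)) L.mapDerivedCategory R.mapDerivedCategory

end Der

end Groth.Agent.DerAdj
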