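import Mathlib

/-! Equalizer locus of two morphisms into a scheme whose diagonal is an open immersion. -/

open CategoryTheory CategoryTheory.Limits AlgebraicGeometry

universe u

namespace Groth.Agent.Lib.DiagOpen

variable {X Y S : Scheme.{u}}

/-- the equalizer locus of `f` and `g` (as a set): preimage of the diagonal. -/
noncomputable def eqLocus (p : Y ⟶ S) [IsOpenImmersion (pullback.diagonal p)]
    (f g : X ⟶ Y) (hfg : f ≫ p = g ≫ p) : X.Opens :=
  (pullback.lift f g hfg) ⁻¹ᵁ (pullback.diagonal p).opensRange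

theorem eqLocus_ι_comp (p : Y ⟶ S) [IsOpenImmersion (pullback.diagonal p)]
    (f g : X ⟶ Y) (hfg : f ≫ p = g ≫ p) :
    (eqLocus p f g hfg).ι ≫ f = (eqLocus p f g hfg).ι ≫ g := by
  set U := eqLocus p f g hfg with hU
  set h : X ⟶ pullback p p := pullback.lift f g hfg with hh
  have hr : Set.range (U.ι ≫ h) ⊆ Set.range (pullback.diagonal p) := by
    rintro _ ⟨u, rfl⟩
    have : (U.ι u) ∈ U := by simpa using u.2
    exact this
  let k := IsOpenImmersion.lift (pullback.diagonal p) (U.ι ≫ h) hr
  have hk : k ≫ pullback.diagonal p = U.ι ≫ h := IsOpenImmersion.lift_fac _ _ hr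
  have h1 : U.ι ≫ f = k := by
    have : U.ι ≫ f = (U.ι ≫ h) ≫ pullback.fst p p := by
      rw [Category.assoc, hh, pullback.lift_fst]
    rw [this, ← hk, Category.assoc, pullback.diagonal_fst, Category.comp_id]
  have h2 : U.ι ≫ g = k := by
    have : U.ι ≫ g = (U.ι ≫ h) ≫ pullback.snd p p := by
      rw [Category.assoc, hh, pullback.lift_snd]
    rw [this, ← hk, Category.assoc, pullback.diagonal_snd, Category.comp_id]
  rw [h1, h2]

theorem mem_eqLocus (p : Y ⟶ S) [IsOpenImmersion (pullback.diagonal p)]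
    (f g : X ⟶ Y) (hfg : f ≫ p = g ≫ p) (x : X)
    (hx : X.fromSpecResidueField x ≫ f = X.fromSpecResidueField x ≫ g) :
    x ∈ eqLocus p f g hfg := by
  set h : X ⟶ pullback p p := pullback.lift f g hfg with hh
  change h x ∈ Set.range (pullback.diagonal p)
  have key : X.fromSpecResidueField x ≫ h =
      (X.fromSpecResidueField x ≫ f) ≫ pullback.diagonal p := by
    apply pullback.hom_ext
    · simp only [Category.assoc, hh, pullback.lift_fst, pullback.diagonal_fst, Category.comp_id]
    · simp only [Category.assoc, hh, pullback.lift_snd, pullback.diagonal_snd, Category.comp_id, hx]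
  obtain ⟨s⟩ : Nonempty (Spec (X.residueField x)) := inferInstance
  have hs : X.fromSpecResidueField x s = x := by simp
  rw [← hs, ← Scheme.Hom.comp_apply, key, Scheme.Hom.comp_apply]
  exact ⟨_, rfl⟩

theorem range_subset_eqLocus (p : Y ⟶ S) [IsOpenImmersion (pullback.diagonal p)]
    (f g : X ⟶ Y) (hfg : f ≫ p = g ≫ p) {T : Scheme.{u}} (t : T ⟶ X) (ht : t ≫ f = t ≫ g) :
    Set.range t ⊆ (eqLocus p f g hfg : Set X) := by
  rintro _ ⟨z, rfl⟩
  set h : X ⟶ pullback p p := pullback.lift f g hfg with hh
  change h (t z) ∈ Set.range (pullback.diagonal p)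
  have key : t ≫ h = (t ≫ f) ≫ pullback.diagonal p := by
    apply pullback.hom_ext
    · simp only [Category.assoc, hh, pullback.lift_fst, pullback.diagonal_fst, Category.comp_id]
    · simp only [Category.assoc, hh, pullback.lift_snd, pullback.diagonal_snd, Category.comp_id, ht]
  rw [← Scheme.Hom.comp_apply, key, Scheme.Hom.comp_apply]
  exact ⟨_, rfl⟩

theorem eq_of_eqLocus_eq_univ (p : Y ⟶ S) [IsOpenImmersion (pullback.diagonal p)]
    (f g : X ⟶ Y) (hfg : f ≫ p = g ≫ p) (h : (eqLocus p f g hfg : Set X) = Set.univ) : f = g := by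
  apply Scheme.hom_ext_of_forall
  intro z
  exact ⟨eqLocus p f g hfg, by rw [← SetLike.mem_coe, h]; trivial, eqLocus_ι_comp p f g hfg⟩

/-- Two morphisms into a scheme with open diagonal that agree after precomposition with a
surjective morphism are equal. -/
theorem eq_of_surjective_comp_eq (p : Y ⟶ S) [IsOpenImmersion (pullback.diagonal p)]
    (f g : X ⟶ Y) (hfg : f ≫ p = g ≫ p) {T : Scheme.{u}} (t : T ⟶ X) [Surjective t]
    (ht : t ≫ f = t ≫ g) : f = g := by
  apply eq_of_eqLocus_eq_univ p f g hfg
  apply Set.eq_univ_of_univ_subset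
  rw [← t.surjective.range_eq]
  exact range_subset_eqLocus p f g hfg t ht

end Groth.Agent.Lib.DiagOpen
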