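import Mathlib
import Groth.Prelude.Def_Flat

/-! Helper lemmas on universal homeomorphisms (`FlatMor.IsUnivHomeo`). -/

open CategoryTheory CategoryTheory.Limits AlgebraicGeometry MorphismProperty

universe u

namespace Groth.Agent.Lib.UnivHomeo

theorem isUnivHomeo_eq :
    FlatMor.IsUnivHomeo.{u} =
      (@UniversallyOpen ⊓ @UniversallyInjective ⊓ @Surjective : MorphismProperty Scheme.{u}) := by
  ext X Y f
  constructor
  · intro h
    have hle₁ : (topologically (fun f => IsHomeomorph f) : MorphismProperty Scheme.{u}) ≤
        topologically @IsOpenMap := fun _ _ g (hg : IsHomeomorph g) => hg.isOpenMap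
    have hle₂ : (topologically (fun f => IsHomeomorph f) : MorphismProperty Scheme.{u}) ≤
        topologically (Function.Injective ·) :=
      fun _ _ g (hg : IsHomeomorph g) => hg.bijective.injective
    refine ⟨⟨⟨?_⟩, ?_⟩, ?_⟩
    · exact universally_mono hle₁ _ h
    · rw [universallyInjective_eq]
      exact universally_mono hle₂ _ h
    · exact ⟨((universally_le _ _ h : IsHomeomorph f)).bijective.surjective⟩
  · rintro ⟨⟨h₁, h₂⟩, h₃⟩
    intro X' Y' i₁ i₂ f' sq
    have h₁' : UniversallyOpen f' := MorphismProperty.of_isPullback sq.flip h₁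
    have h₂' : UniversallyInjective f' := MorphismProperty.of_isPullback sq.flip h₂
    have h₃' : Surjective f' := MorphismProperty.of_isPullback sq.flip h₃
    exact ⟨f'.continuous, f'.isOpenMap, f'.injective, f'.surjective⟩

instance : (topologically (fun f => IsHomeomorph f) : MorphismProperty Scheme.{u}).IsStableUnderComposition :=
  topologically_isStableUnderComposition _ (fun _ _ hf hg => hg.comp hf)

instance : FlatMor.IsUnivHomeo.{u}.IsStableUnderBaseChange := by
  unfold FlatMor.IsUnivHomeo; infer_instance

instance : FlatMor.IsUnivHomeo.{u}.IsStableUnderComposition := by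
  unfold FlatMor.IsUnivHomeo; infer_instance

theorem of_isImmersion_of_surjective {X Y : Scheme.{u}} (f : X ⟶ Y) [IsImmersion f] [Surjective f] :
    FlatMor.IsUnivHomeo f := by
  intro X' Y' i₁ i₂ f' sq
  have h₁' : IsImmersion f' := MorphismProperty.of_isPullback (P := @IsImmersion) sq.flip ‹_›
  have h₃' : Surjective f' := MorphismProperty.of_isPullback (P := @Surjective) sq.flip ‹_›
  exact (f'.isEmbedding.toHomeomorphOfSurjective f'.surjective).isHomeomorph

instance : FlatMor.IsUnivHomeo.{u}.ContainsIdentities where
  id_mem X := of_isImmersion_of_surjective (𝟙 X)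

instance : FlatMor.IsUnivHomeo.{u}.IsMultiplicative where

theorem le_diagonal : FlatMor.IsUnivHomeo.{u} ≤ FlatMor.IsUnivHomeo.{u}.diagonal := by
  intro X Y f hf
  have hf' := hf
  rw [isUnivHomeo_eq] at hf'
  have : UniversallyInjective f := hf'.1.2
  have : Surjective (pullback.diagonal f) := (UniversallyInjective.iff_diagonal f).mp this
  exact of_isImmersion_of_surjective (pullback.diagonal f)

instance : FlatMor.IsUnivHomeo.{u}.HasOfPostcompProperty FlatMor.IsUnivHomeo.{u} :=
  hasOfPostcompProperty_iff_le_diagonal.mpr le_diagonal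

end Groth.Agent.Lib.UnivHomeo
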