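import Mathlib
import Groth.Prelude.Def_Flat
import Groth.Agent.Lib.UnivHomeo
import Groth.Agent.Lib.DiagOpen
import Groth.Agent.S0416
import Groth.Agent.S0425

/-! Unique lifting of morphisms into étale schemes along universal homeomorphisms. -/

open CategoryTheory CategoryTheory.Limits AlgebraicGeometry MorphismProperty

universe u

namespace Groth.Agent.Lib.EtaleLift

instance : HasOfPostcompProperty @UniversallyInjective (⊤ : MorphismProperty Scheme.{u}) := by
  rw [hasOfPostcompProperty_iff_le_diagonal]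
  intro X Y f _
  exact (inferInstance : UniversallyInjective (pullback.diagonal f))

instance : HasOfPostcompProperty @UniversallyOpen (@Etale : MorphismProperty Scheme.{u}) := by
  rw [hasOfPostcompProperty_iff_le_diagonal]
  intro X Y f (hf : Etale f)
  exact (inferInstance : UniversallyOpen (pullback.diagonal f))

/-- A section of an étale morphism is an open immersion. -/
theorem isOpenImmersion_of_section {X Y : Scheme.{u}} (p : X ⟶ Y) [Etale p] (s : Y ⟶ X)
    (hs : s ≫ p = 𝟙 Y) : IsOpenImmersion s := by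
  have h1 : Etale (s ≫ p) := by rw [hs]; infer_instance
  have h2 : Etale s := Etale.of_comp s p
  have h3 : Mono s := mono_of_mono_fac hs
  exact IsOpenImmersion.of_flat_of_mono s

/-- If `t₀ ≫ u = q` with `q` a universal homeomorphism, `u` étale and `t₀` surjective, then `t₀`
is a universal homeomorphism. -/
theorem isUnivHomeo_of_comp_etale {A B C : Scheme.{u}} (t₀ : A ⟶ B) (u : B ⟶ C) [Etale u]
    [Surjective t₀] (hq : FlatMor.IsUnivHomeo (t₀ ≫ u)) : FlatMor.IsUnivHomeo t₀ := by
  have hq' := hq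
  rw [Groth.Agent.Lib.UnivHomeo.isUnivHomeo_eq] at hq' ⊢
  obtain ⟨⟨h₁, h₂⟩, h₃⟩ := hq'
  refine ⟨⟨?_, ?_⟩, ‹_›⟩
  · exact MorphismProperty.of_postcomp (W := @UniversallyOpen) (W' := @Etale) t₀ u ‹_› h₁
  · exact MorphismProperty.of_postcomp (W := @UniversallyInjective) (W' := ⊤) t₀ u trivial h₂

/-- Unique lifting along universal homeomorphisms into étale schemes. -/
theorem exists_lift {S X Y Y' : Scheme.{u}} (x : X ⟶ S) [Etale x] (y : Y ⟶ S) (q : Y' ⟶ Y)
    (hq : FlatMor.IsUnivHomeo q) (ψ : Y' ⟶ X) (hψ : ψ ≫ x = q ≫ y) :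
    ∃ φ : Y ⟶ X, φ ≫ x = y ∧ q ≫ φ = ψ := by
  let p₁ : pullback y x ⟶ Y := pullback.fst y x
  let p₂ : pullback y x ⟶ X := pullback.snd y x
  let t : Y' ⟶ pullback y x := pullback.lift q ψ hψ.symm
  have ht₁ : t ≫ p₁ = q := pullback.lift_fst _ _ _
  have ht₂ : t ≫ p₂ = ψ := pullback.lift_snd _ _ _
  -- openness of the range of `t`
  let q' : pullback p₁ q ⟶ pullback y x := pullback.fst p₁ q
  let p₁' : pullback p₁ q ⟶ Y' := pullback.snd p₁ q
  have hq' : FlatMor.IsUnivHomeo q' := MorphismProperty.pullback_fst _ _ hq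
  have hq'homeo : IsHomeomorph q' := MorphismProperty.universally_le _ _ hq'
  let γ : Y' ⟶ pullback p₁ q := pullback.lift t (𝟙 Y') (by rw [ht₁, Category.id_comp])
  have hγ₁ : γ ≫ q' = t := pullback.lift_fst _ _ _
  have hγ₂ : γ ≫ p₁' = 𝟙 Y' := pullback.lift_snd _ _ _
  have hγopen : IsOpenImmersion γ := isOpenImmersion_of_section p₁' γ hγ₂
  have hrange : IsOpen (Set.range t) := by
    have : Set.range t = q' '' Set.range γ := by
      rw [← hγ₁, Scheme.Hom.comp_base, TopCat.coe_comp, Set.range_comp]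
    rw [this]
    exact hq'homeo.isOpenMap _ γ.isOpenEmbedding.isOpen_range
  let V : (pullback y x).Opens := ⟨Set.range t, hrange⟩
  have hrV : Set.range t ⊆ Set.range V.ι := by
    rw [Scheme.Opens.range_ι]
    exact fun _ h => h
  let t₀ : Y' ⟶ V := IsOpenImmersion.lift V.ι t hrV
  have ht₀ : t₀ ≫ V.ι = t := IsOpenImmersion.lift_fac _ _ _
  have hsurj : Surjective t₀ := by
    constructor
    intro v
    obtain ⟨y', hy'⟩ : V.ι v ∈ Set.range t := v.2
    refine ⟨y', ?_⟩
    apply V.ι.injective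
    rw [← Scheme.Hom.comp_apply, ht₀]
    exact hy'
  let u : (V : Scheme.{u}) ⟶ Y := V.ι ≫ p₁
  have hu : Etale u := inferInstance
  have htu : t₀ ≫ u = q := by
    simp only [u, ← Category.assoc, ht₀, ht₁]
  have ht₀UH : FlatMor.IsUnivHomeo t₀ := isUnivHomeo_of_comp_etale t₀ u (htu ▸ hq)
  have huUH : FlatMor.IsUnivHomeo u := (Groth.Agent.S0416.result t₀ u).1 (htu ▸ hq) ht₀UH
  have huiso : IsIso u := Groth.Agent.S0425.result u huUH
  refine ⟨inv u ≫ V.ι ≫ p₂, ?_, ?_⟩
  · rw [Category.assoc, Category.assoc, IsIso.inv_comp_eq]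
    simp only [u, p₁, p₂, Category.assoc, pullback.condition]
  · rw [← htu, Category.assoc, IsIso.hom_inv_id_assoc, ← Category.assoc, ht₀, ht₂]

end Groth.Agent.Lib.EtaleLift
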