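import Mathlib

/-! Diagram chases comparing the covariant long exact `Ext`-sequences of a short exact sequence
along a morphism in the first variable. -/

set_option autoImplicit false
universe w v u
open CategoryTheory CategoryTheory.Limits Abelian

namespace Groth.Agent.ExtChase

variable {C : Type u} [Category.{v} C] [Abelian C] [HasExt.{w} C]
variable {A A' : C} (φ : A' ⟶ A) {T : ShortComplex C} (hT : T.ShortExact)

/-- restriction along `φ`. -/
noncomputable abbrev r (G : C) (i : ℕ) : Ext A G i →+ Ext A' G i := (Ext.mk₀ φ).precomp G (zero_add i)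

lemma r_apply (G : C) (i : ℕ) (x : Ext A G i) : r φ G i x = (Ext.mk₀ φ).comp x (zero_add i) := rfl

/-- the connecting map. -/
noncomputable abbrev δ (B : C) (i : ℕ) : Ext B T.X₃ i →+ Ext B T.X₁ (i + 1) := hT.extClass.postcomp B rfl

/-- pushforward along `f`. -/
noncomputable abbrev pf (B : C) (i : ℕ) : Ext B T.X₁ i →+ Ext B T.X₂ i := (Ext.mk₀ T.f).postcomp B (add_zero i)

/-- pushforward along `g`. -/
noncomputable abbrev pg (B : C) (i : ℕ) : Ext B T.X₂ i →+ Ext B T.X₃ i := (Ext.mk₀ T.g).postcomp B (add_zero i)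

lemma r_δ (i : ℕ) (x : Ext A T.X₃ i) : r φ T.X₁ (i + 1) (δ hT A i x) = δ hT A' i (r φ T.X₃ i x) := by
  show (Ext.mk₀ φ).comp (x.comp hT.extClass rfl) (zero_add (i + 1)) =
    ((Ext.mk₀ φ).comp x (zero_add i)).comp hT.extClass rfl
  rw [Ext.comp_assoc _ _ _ (zero_add i) rfl (by omega)]

lemma r_pf (i : ℕ) (x : Ext A T.X₁ i) : r φ T.X₂ i (pf A i x) = pf A' i (r φ T.X₁ i x) := by
  show (Ext.mk₀ φ).comp (x.comp (Ext.mk₀ T.f) (add_zero i)) (zero_add i) =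
    ((Ext.mk₀ φ).comp x (zero_add i)).comp (Ext.mk₀ T.f) (add_zero i)
  rw [Ext.comp_assoc _ _ _ (zero_add i) (add_zero i) (by omega)]

lemma r_pg (i : ℕ) (x : Ext A T.X₂ i) : r φ T.X₃ i (pg A i x) = pg A' i (r φ T.X₂ i x) := by
  show (Ext.mk₀ φ).comp (x.comp (Ext.mk₀ T.g) (add_zero i)) (zero_add i) =
    ((Ext.mk₀ φ).comp x (zero_add i)).comp (Ext.mk₀ T.g) (add_zero i)
  rw [Ext.comp_assoc _ _ _ (zero_add i) (add_zero i) (by omega)]

lemma pg_pf (B : C) (i : ℕ) (x : Ext B T.X₁ i) : pg B i (pf B i x) = 0 := by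
  show (x.comp (Ext.mk₀ T.f) (add_zero i)).comp (Ext.mk₀ T.g) (add_zero i) = 0
  rw [Ext.comp_assoc_of_second_deg_zero, Ext.mk₀_comp_mk₀, T.zero, Ext.mk₀_zero, Ext.comp_zero]

include hT in
lemma exact_pf_pg (B : C) (i : ℕ) (y : Ext B T.X₂ i) (hy : pg B i y = 0) : ∃ x, pf B i x = y :=
  Ext.covariant_sequence_exact₂ B hT y hy

lemma exact_pg_δ (B : C) (i : ℕ) (z : Ext B T.X₃ i) (hz : δ hT B i z = 0) : ∃ y, pg B i y = z :=
  Ext.covariant_sequence_exact₃ B hT z rfl hz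

lemma exact_δ_pf (B : C) (i : ℕ) (x : Ext B T.X₁ (i + 1)) (hx : pf B (i + 1) x = 0) :
    ∃ z, δ hT B i z = x :=
  Ext.covariant_sequence_exact₁ B hT x hx rfl

lemma δ_bijective (B : C) (i : ℕ) (h1 : ∀ x : Ext B T.X₂ i, x = 0)
    (h2 : ∀ x : Ext B T.X₂ (i + 1), x = 0) : Function.Bijective (δ hT B i) := by
  constructor
  · rw [injective_iff_map_eq_zero]
    intro z hz
    obtain ⟨y, rfl⟩ := exact_pg_δ hT B i z hz
    rw [h1 y, map_zero]
  · intro x
    exact exact_δ_pf hT B i x (h2 _)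

include hT in
/-- degree `≥ 1`: when `Ext^i(-, X₂)` and `Ext^{i+1}(-, X₂)` vanish, bijectivity of the restriction
on `Ext^{i+1}(-, X₁)` gives bijectivity on `Ext^i(-, X₃)`. -/
lemma r_bijective_of_succ (i : ℕ) (h1 : ∀ x : Ext A T.X₂ i, x = 0)
    (h2 : ∀ x : Ext A T.X₂ (i + 1), x = 0) (h1' : ∀ x : Ext A' T.X₂ i, x = 0)
    (h2' : ∀ x : Ext A' T.X₂ (i + 1), x = 0)
    (hb : Function.Bijective (r φ T.X₁ (i + 1))) : Function.Bijective (r φ T.X₃ i) := by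
  have hd := δ_bijective hT A i h1 h2
  have hd' := δ_bijective hT A' i h1' h2'
  constructor
  · intro x y hxy
    apply hd.1
    apply hb.1
    rw [r_δ, r_δ, hxy]
  · intro x'
    obtain ⟨w, hw⟩ := hb.2 (δ hT A' i x')
    obtain ⟨x, rfl⟩ := hd.2 w
    refine ⟨x, hd'.1 ?_⟩
    rw [← r_δ, hw]

include hT in
/-- degree `0`. -/
lemma r_bijective_zero (hF0 : Function.Surjective (r φ T.X₁ 0)) (hJ0 : Function.Bijective (r φ T.X₂ 0))
    (hF1 : Function.Bijective (r φ T.X₁ 1)) (hJ1 : ∀ x : Ext A T.X₂ 1, x = 0) :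
    Function.Bijective (r φ T.X₃ 0) := by
  constructor
  · rw [injective_iff_map_eq_zero]
    intro x hx
    have h1 : δ hT A 0 x = 0 := by
      apply hF1.1
      rw [r_δ, hx, map_zero, map_zero]
    obtain ⟨y, rfl⟩ := exact_pg_δ hT A 0 x h1
    rw [r_pg] at hx
    obtain ⟨z', hz'⟩ := exact_pf_pg hT A' 0 _ hx
    obtain ⟨z, rfl⟩ := hF0 z'
    rw [← r_pf] at hz'
    have : y = pf A 0 z := (hJ0.1 hz').symm
    rw [this, pg_pf]
  · intro x'
    obtain ⟨w, hw⟩ := hF1.2 (δ hT A' 0 x')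
    obtain ⟨x₀, rfl⟩ := exact_δ_pf hT A 0 w (hJ1 _)
    have h0 : δ hT A' 0 (x' - r φ T.X₃ 0 x₀) = 0 := by
      rw [map_sub, ← r_δ, hw, sub_self]
    obtain ⟨y', hy'⟩ := exact_pg_δ hT A' 0 _ h0
    obtain ⟨y, rfl⟩ := hJ0.2 y'
    refine ⟨x₀ + pg A 0 y, ?_⟩
    rw [map_add, r_pg, hy']
    abel

end Groth.Agent.ExtChase
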