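import Mathlib
import Groth.Agent.Lib.ExtRes

set_option autoImplicit false
universe w v u
open CategoryTheory Abelian Limits Opposite

namespace Groth.Agent.ExtRes

section
variable {C : Type u} [Category.{v} C] [Abelian C] [HasExt.{w} C] {X Y : C}
  (R : InjectiveResolution Y)

lemma mk_eq_zero_iff (n : ℕ) (f : Z R X n) :
    mk R n f = 0 ↔ ∃ g : X ⟶ R.cocomplex.X ((ComplexShape.up ℕ).prev n),
      g ≫ R.cocomplex.d ((ComplexShape.up ℕ).prev n) n = f.1 := by
  cases n with
  | zero =>
    rw [mk_eq_zero_iff_zero]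
    constructor
    · intro h
      exact ⟨0, by rw [zero_comp, h]⟩
    · rintro ⟨g, hg⟩
      rw [← hg, R.cocomplex.shape _ _ (by simp), comp_zero]
  | succ n =>
    rw [mk_eq_zero_iff_succ]
    have h0 : (ComplexShape.up ℕ).prev (n + 1) = n := by simp
    rw [h0]

noncomputable def equivOfSurj {G : Type*} [AddCommGroup G] (n : ℕ)
    (φ : Z R X n →+ G) (hφ : Function.Surjective φ)
    (hker : ∀ f : Z R X n, φ f = 0 ↔ mk R n f = 0) : Ext X Y n ≃+ G :=
  (QuotientAddGroup.quotientKerEquivOfSurjective _ (mk_surjective R n)).symm.trans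
    ((QuotientAddGroup.quotientAddEquivOfEq (show (mk R (X := X) n).ker = φ.ker by
        ext f; simp only [AddMonoidHom.mem_ker]; exact (hker f).symm)).trans
      (QuotientAddGroup.quotientKerEquivOfSurjective φ hφ))

lemma equivOfSurj_mk {G : Type*} [AddCommGroup G] (n : ℕ)
    (φ : Z R X n →+ G) (hφ : Function.Surjective φ)
    (hker : ∀ f : Z R X n, φ f = 0 ↔ mk R n f = 0) (f : Z R X n) :
    equivOfSurj R n φ hφ hker (mk R n f) = φ f := by
  have : (QuotientAddGroup.quotientKerEquivOfSurjective _ (mk_surjective R (X := X) n)).symm (mk R n f)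
      = QuotientAddGroup.mk f := by
    rw [AddEquiv.symm_apply_eq]; rfl
  simp only [equivOfSurj, AddEquiv.trans_apply, this]
  rfl
end

section AbLemmas

lemma abHomologyIso_hom_π (S : ShortComplex Ab.{v}) (z : AddMonoidHom.ker S.g.hom) :
    S.abHomologyIso.hom (S.homologyπ (S.abCyclesIso.inv z)) = QuotientAddGroup.mk z := by
  have h := S.abLeftHomologyData.homologyπ_comp_homologyIso_hom
  have h2 := ConcreteCategory.congr_hom h (S.abCyclesIso.inv z)
  simp only [ConcreteCategory.comp_apply] at h2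
  refine h2.trans ?_
  have h3 : S.abLeftHomologyData.cyclesIso.hom (S.abCyclesIso.inv z) = z := by
    have := ConcreteCategory.congr_hom S.abCyclesIso.inv_hom_id z
    simp only [ConcreteCategory.comp_apply] at this
    exact this
  rw [h3]
  rfl

lemma homologyπ_abCyclesIso_inv_eq_zero_iff (S : ShortComplex Ab.{v}) (z : AddMonoidHom.ker S.g.hom) :
    S.homologyπ (S.abCyclesIso.inv z) = 0 ↔ ∃ x : S.X₁, S.f x = z.1 := by
  have hinj : Function.Injective S.abHomologyIso.hom :=
    (ConcreteCategory.bijective_of_isIso S.abHomologyIso.hom).1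
  rw [← hinj.eq_iff, map_zero, abHomologyIso_hom_π, QuotientAddGroup.eq_zero_iff,
    AddMonoidHom.mem_range]
  constructor
  · rintro ⟨x, hx⟩
    exact ⟨x, congrArg Subtype.val hx⟩
  · rintro ⟨x, hx⟩
    exact ⟨x, Subtype.ext hx⟩

lemma cyclesMap_abCyclesIso_inv {S₁ S₂ : ShortComplex Ab.{v}} (φ : S₁ ⟶ S₂)
    (z : AddMonoidHom.ker S₁.g.hom) (z' : AddMonoidHom.ker S₂.g.hom) (h : φ.τ₂ z.1 = z'.1) :
    ShortComplex.cyclesMap φ (S₁.abCyclesIso.inv z) = S₂.abCyclesIso.inv z' := by
  apply (AddCommGrpCat.mono_iff_injective S₂.iCycles).1 inferInstance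
  rw [ShortComplex.abCyclesIso_inv_apply_iCycles]
  have := ConcreteCategory.congr_hom (ShortComplex.cyclesMap_i φ) (S₁.abCyclesIso.inv z)
  simp only [ConcreteCategory.comp_apply] at this
  rw [this, ShortComplex.abCyclesIso_inv_apply_iCycles, h]

lemma homologyMap_π_abCyclesIso_inv {S₁ S₂ : ShortComplex Ab.{v}} (φ : S₁ ⟶ S₂)
    (z : AddMonoidHom.ker S₁.g.hom) (z' : AddMonoidHom.ker S₂.g.hom) (h : φ.τ₂ z.1 = z'.1) :
    ShortComplex.homologyMap φ (S₁.homologyπ (S₁.abCyclesIso.inv z)) =
      S₂.homologyπ (S₂.abCyclesIso.inv z') := by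
  have := ConcreteCategory.congr_hom (ShortComplex.homologyπ_naturality φ) (S₁.abCyclesIso.inv z)
  simp only [ConcreteCategory.comp_apply] at this
  rw [this, cyclesMap_abCyclesIso_inv φ z z' h]

end AbLemmas

section
variable {C : Type u} [Category.{v} C] [Abelian C] [HasExt.{v} C] (P : C)

/-- the complex Hom(P, I^•) -/
noncomputable abbrev homCx {Y : C} (R : InjectiveResolution Y) : CochainComplex AddCommGrpCat.{v} ℕ :=
  ((preadditiveCoyoneda.obj (op P)).mapHomologicalComplex (ComplexShape.up ℕ)).obj R.cocomplex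

variable {Y : C} (R : InjectiveResolution Y) (n : ℕ)

omit [HasExt.{v} C] in
lemma comp_d_next_iff (f : P ⟶ R.cocomplex.X n) :
    f ≫ R.cocomplex.d n ((ComplexShape.up ℕ).next n) = 0 ↔ f ≫ R.cocomplex.d n (n + 1) = 0 := by
  have : ∀ m, m = n + 1 → (f ≫ R.cocomplex.d n m = 0 ↔ f ≫ R.cocomplex.d n (n + 1) = 0) := by
    rintro _ rfl; rfl
  exact this _ (by simp)

/-- cocycles as elements of the kernel -/
noncomputable def toKer : Z R P n →+ AddMonoidHom.ker ((homCx P R).sc n).g.hom where
  toFun f := ⟨f.1, by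
    rw [AddMonoidHom.mem_ker]
    exact (comp_d_next_iff P R n f.1).2 f.2⟩
  map_zero' := rfl
  map_add' _ _ := rfl

omit [HasExt.{v} C] in
lemma toKer_surjective : Function.Surjective (toKer P R n) := by
  rintro ⟨z, hz⟩
  refine ⟨⟨z, ?_⟩, rfl⟩
  rw [AddMonoidHom.mem_ker] at hz
  exact (comp_d_next_iff P R n z).1 hz

/-- the class of a cocycle in the homology of `Hom(P, I^•)`. -/
noncomputable def toDer : Z R P n →+ ((homCx P R).homology n : AddCommGrpCat.{v}) :=
  (((homCx P R).sc n).homologyπ.hom).comp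
    ((((homCx P R).sc n).abCyclesIso.inv.hom).comp (toKer P R n))

omit [HasExt.{v} C] in
lemma toDer_surjective : Function.Surjective (toDer P R n) := by
  have h1 : Function.Surjective ((homCx P R).sc n).homologyπ :=
    (AddCommGrpCat.epi_iff_surjective _).1 inferInstance
  have h2 : Function.Surjective ((homCx P R).sc n).abCyclesIso.inv :=
    (ConcreteCategory.bijective_of_isIso _).2
  exact h1.comp (h2.comp (toKer_surjective P R n))

omit [HasExt.{v} C] in
lemma toDer_eq_zero_iff (f : Z R P n) :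
    toDer P R n f = 0 ↔ ∃ g : P ⟶ R.cocomplex.X ((ComplexShape.up ℕ).prev n),
      g ≫ R.cocomplex.d ((ComplexShape.up ℕ).prev n) n = f.1 :=
  homologyπ_abCyclesIso_inv_eq_zero_iff ((homCx P R).sc n) (toKer P R n f)

omit [HasExt.{v} C] in
lemma homologyMap_toDer {Y' : C} {R' : InjectiveResolution Y'} (ψ : R.cocomplex ⟶ R'.cocomplex)
    (f : Z R P n) (f' : Z R' P n) (h : f.1 ≫ ψ.f n = f'.1) :
    (HomologicalComplex.homologyMap
      (((preadditiveCoyoneda.obj (op P)).mapHomologicalComplex (ComplexShape.up ℕ)).map ψ) n)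
        (toDer P R n f) = toDer P R' n f' :=
  homologyMap_π_abCyclesIso_inv
    ((HomologicalComplex.shortComplexFunctor _ _ n).map
      (((preadditiveCoyoneda.obj (op P)).mapHomologicalComplex (ComplexShape.up ℕ)).map ψ))
    (toKer P R n f) (toKer P R' n f') h

/-- `Ext^n(P, Y)` is the `n`-th cohomology of `Hom(P, I^•)`. -/
noncomputable def extEquivHomology : Ext P Y n ≃+ ((homCx P R).homology n : AddCommGrpCat.{v}) :=
  equivOfSurj R n (toDer P R n) (toDer_surjective P R n)
    (fun f => by rw [toDer_eq_zero_iff, mk_eq_zero_iff])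

lemma extEquivHomology_mk (f : Z R P n) :
    extEquivHomology P R n (mk R n f) = toDer P R n f :=
  equivOfSurj_mk R n _ _ _ f

lemma extEquivHomology_symm_toDer (f : Z R P n) :
    (extEquivHomology P R n).symm (toDer P R n f) = mk R n f := by
  rw [AddEquiv.symm_apply_eq, extEquivHomology_mk]

variable [EnoughInjectives C]

/-- The objectwise isomorphism `R^n Hom(P, -) (Y) ≅ Ext^n(P, Y)`. -/
noncomputable def derIsoExt (Y : C) :
    ((preadditiveCoyoneda.obj (op P)).rightDerived n).obj Y ≅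
      ((extFunctor.{v} n).obj (op P)).obj Y :=
  (InjectiveResolution.of Y).isoRightDerivedObj (preadditiveCoyoneda.obj (op P)) n ≪≫
    (extEquivHomology P (InjectiveResolution.of Y) n).symm.toAddCommGrpIso

/-- `R^n Hom(P, -) ≅ Ext^n(P, -)` as functors. -/
noncomputable def derNatIsoExt :
    (preadditiveCoyoneda.obj (op P)).rightDerived n ≅ (extFunctor.{v} n).obj (op P) :=
  NatIso.ofComponents (fun Y => derIsoExt P n Y) (by
    intro Y Y' a
    let R := InjectiveResolution.of Y
    let R' := InjectiveResolution.of Y'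
    let ψ : R.cocomplex ⟶ R'.cocomplex := InjectiveResolution.desc a R' R
    have hψ : R.ι ≫ ψ = (CochainComplex.single₀ C).map a ≫ R'.ι :=
      InjectiveResolution.desc_commutes a R' R
    have hψ0 : R.ι.f 0 ≫ ψ.f 0 = ((CochainComplex.single₀ C).map a).f 0 ≫ R'.ι.f 0 := by
      rw [← HomologicalComplex.comp_f, hψ, HomologicalComplex.comp_f]
    have hψ0' : R.ι.f 0 ≫ ψ.f 0 = a ≫ R'.ι.f 0 := by
      rw [hψ0, CochainComplex.single₀_map_f_zero]
      try rfl
    let Ψ : InjectiveResolution.Hom R R' a := ⟨ψ, hψ0⟩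
    have nat1 := InjectiveResolution.isoRightDerivedObj_hom_naturality a R R' ψ hψ0'
      (preadditiveCoyoneda.obj (op P)) n
    dsimp only [derIsoExt, Iso.trans_hom]
    rw [← Category.assoc, nat1, Category.assoc, Category.assoc]
    congr 1
    ext x
    obtain ⟨f, rfl⟩ := toDer_surjective P R n x
    have hf' : (f.1 ≫ ψ.f n) ≫ R'.cocomplex.d n (n + 1) = 0 := by
      rw [Category.assoc, ψ.comm n (n + 1), ← Category.assoc, (mem_Z R n f.1).1 f.2, zero_comp]
    let f' : Z R' P n := ⟨f.1 ≫ ψ.f n, hf'⟩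
    have e1 := homologyMap_toDer P R n ψ f f' rfl
    have e2 : (mk R n f).comp (Ext.mk₀ a) (add_zero n) = mk R' n f' :=
      InjectiveResolution.extMk_comp_mk₀ f.1 (n + 1) rfl f.2 Ψ
    show (extEquivHomology P R' n).symm
        ((HomologicalComplex.homologyMap
          (((preadditiveCoyoneda.obj (op P)).mapHomologicalComplex (ComplexShape.up ℕ)).map ψ) n)
            (toDer P R n f)) =
      ((extEquivHomology P R n).symm (toDer P R n f)).comp (Ext.mk₀ a) (add_zero n)
    rw [e1, extEquivHomology_symm_toDer, extEquivHomology_symm_toDer, e2])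

end

end Groth.Agent.ExtRes
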