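import Groth.Agent.Lib.ExtNat

/-! Natural version of the comparison of Ext groups computed by two injective resolutions related
by compatible additive bijections of Hom groups. -/

set_option autoImplicit false
universe w v u w' v' u'
open CategoryTheory Abelian Limits Opposite

namespace Groth.Agent.ExtRes

section
variable {C : Type u} [Category.{v} C] [Abelian C] [HasExt.{w} C]
  {D : Type u'} [Category.{v'} D] [Abelian D] [HasExt.{w'} D]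
  {A Y : C} {B Y' : D} (R : InjectiveResolution Y) (R' : InjectiveResolution Y')
  (e : ∀ n : ℕ, (A ⟶ R.cocomplex.X n) ≃+ (B ⟶ R'.cocomplex.X n))
  (he : ∀ (n : ℕ) (g : A ⟶ R.cocomplex.X n),
    e (n + 1) (g ≫ R.cocomplex.d n (n + 1)) = e n g ≫ R'.cocomplex.d n (n + 1))

lemma mk_mapZ_eq_zero_iff (n : ℕ) (f : Z R A n) :
    mk R' n (mapZ R R' e he n f) = 0 ↔ mk R n f = 0 := by
  cases n with
  | zero =>
    rw [mk_eq_zero_iff_zero, mk_eq_zero_iff_zero]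
    simp [mapZ]
  | succ n =>
    rw [mk_eq_zero_iff_succ, mk_eq_zero_iff_succ]
    constructor
    · rintro ⟨g, hg⟩
      refine ⟨(e n).symm g, ?_⟩
      rw [← he_symm R R' e he, hg]
      simp [mapZ]
    · rintro ⟨g, hg⟩
      exact ⟨e n g, by rw [← he, hg]; rfl⟩

/-- the comparison of Ext groups. -/
noncomputable def extAddEquiv (n : ℕ) : Ext A Y n ≃+ Ext B Y' n :=
  equivOfSurj R n ((mk R' n).comp (mapZ R R' e he n))
    ((mk_surjective R' n).comp (mapZ_surjective R R' e he n))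
    (fun f => mk_mapZ_eq_zero_iff R R' e he n f)

lemma extAddEquiv_mk (n : ℕ) (f : Z R A n) :
    extAddEquiv R R' e he n (mk R n f) = mk R' n (mapZ R R' e he n f) :=
  equivOfSurj_mk R n _ _ _ f

variable {Y₂ : C} {Y₂' : D} (R₂ : InjectiveResolution Y₂) (R₂' : InjectiveResolution Y₂')
  (e₂ : ∀ n : ℕ, (A ⟶ R₂.cocomplex.X n) ≃+ (B ⟶ R₂'.cocomplex.X n))
  (he₂ : ∀ (n : ℕ) (g : A ⟶ R₂.cocomplex.X n),
    e₂ (n + 1) (g ≫ R₂.cocomplex.d n (n + 1)) = e₂ n g ≫ R₂'.cocomplex.d n (n + 1))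

lemma extAddEquiv_natural {a : Y ⟶ Y₂} {a' : Y' ⟶ Y₂'}
    (ψ : InjectiveResolution.Hom R R₂ a) (ψ' : InjectiveResolution.Hom R' R₂' a')
    (hcomp : ∀ (n : ℕ) (g : A ⟶ R.cocomplex.X n),
      e₂ n (g ≫ ψ.hom.f n) = e n g ≫ ψ'.hom.f n) (n : ℕ) (x : Ext A Y n) :
    extAddEquiv R₂ R₂' e₂ he₂ n (x.comp (Ext.mk₀ a) (add_zero n)) =
      (extAddEquiv R R' e he n x).comp (Ext.mk₀ a') (add_zero n) := by
  obtain ⟨f, rfl⟩ := mk_surjective R n x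
  have hf' : (f.1 ≫ ψ.hom.f n) ≫ R₂.cocomplex.d n (n + 1) = 0 := by
    rw [Category.assoc, ψ.hom.comm n (n + 1), ← Category.assoc, (mem_Z R n f.1).1 f.2, zero_comp]
  have e1 : (mk R n f).comp (Ext.mk₀ a) (add_zero n) = mk R₂ n ⟨f.1 ≫ ψ.hom.f n, hf'⟩ :=
    InjectiveResolution.extMk_comp_mk₀ f.1 (n + 1) rfl f.2 ψ
  rw [e1, extAddEquiv_mk, extAddEquiv_mk]
  have e2 := InjectiveResolution.extMk_comp_mk₀ (mapZ R R' e he n f).1 (n + 1) rfl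
    (mapZ R R' e he n f).2 ψ'
  refine Eq.trans ?_ e2.symm
  have gen : ∀ (g₁ g₂ : B ⟶ R₂'.cocomplex.X n) (h₁ : g₁ ≫ R₂'.cocomplex.d n (n + 1) = 0)
      (h₂ : g₂ ≫ R₂'.cocomplex.d n (n + 1) = 0), g₁ = g₂ →
      R₂'.extMk g₁ (n + 1) rfl h₁ = R₂'.extMk g₂ (n + 1) rfl h₂ := by
    rintro g₁ _ h₁ h₂ rfl
    rfl
  exact gen (e₂ n (f.1 ≫ ψ.hom.f n)) (e n f.1 ≫ ψ'.hom.f n)
    (mapZ R₂ R₂' e₂ he₂ n ⟨f.1 ≫ ψ.hom.f n, hf'⟩).2 _ (hcomp n f.1)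

end

end Groth.Agent.ExtRes
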