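import Mathlib
set_option autoImplicit false
universe w v u'
open CategoryTheory Opposite Limits Abelian

namespace Groth.Agent.ExtPi

variable {𝒜 : Type u'} [Category.{v} 𝒜] [Abelian 𝒜]

section
variable [EnoughInjectives 𝒜]
/-- The short complex `0 → F → I(F) → Q → 0`. -/
noncomputable def injSC (F : 𝒜) : ShortComplex 𝒜 :=
  ShortComplex.mk (Injective.ι F) (cokernel.π (Injective.ι F)) (cokernel.condition _)

lemma injSC_shortExact (F : 𝒜) : (injSC F).ShortExact := by
  have : Mono (injSC F).f := by dsimp [injSC]; infer_instance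
  have : Epi (injSC F).g := by dsimp [injSC]; infer_instance
  exact ShortComplex.ShortExact.mk (ShortComplex.exact_cokernel (Injective.ι F))

instance injSC_X₂_injective (F : 𝒜) : Injective (injSC F).X₂ := by
  dsimp [injSC]; infer_instance
end

variable {I : Type*} [HasProductsOfShape I 𝒜]

/-- product of the short complexes `S i`. -/
noncomputable abbrev piSC (S : I → ShortComplex 𝒜) : ShortComplex 𝒜 :=
  ShortComplex.mk (X₁ := ∏ᶜ fun i => (S i).X₁) (X₂ := ∏ᶜ fun i => (S i).X₂)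
    (X₃ := ∏ᶜ fun i => (S i).X₃)
    (Limits.Pi.map fun i => (S i).f) (Limits.Pi.map fun i => (S i).g) (by
    ext i
    simp)

lemma piSC_exact (S : I → ShortComplex 𝒜) (hS : ∀ i, (S i).ShortExact) : (piSC S).Exact := by
  have : ∀ i, Mono (S i).f := fun i => (hS i).mono_f
  have key : ∀ {Z : 𝒜} (z : Z ⟶ (piSC S).X₂) (hz : z ≫ (piSC S).g = 0) (i : I),
      (z ≫ Pi.π (fun i => (S i).X₂) i) ≫ (S i).g = 0 := by
    intro Z z hz i
    have := hz =≫ Pi.π (fun i => (S i).X₃) i
    dsimp only at this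
    rw [Category.assoc, Pi.map_π, zero_comp] at this
    rw [Category.assoc]
    exact this
  refine ShortComplex.exact_of_f_is_kernel _ ?_
  refine KernelFork.IsLimit.ofι _ _
    (fun {Z} z hz => Pi.lift fun i => (hS i).fIsKernel.lift (KernelFork.ofι _ (key z hz i))) ?_ ?_
  · intro Z z hz
    dsimp [piSC]
    ext i
    simp only [Category.assoc, Pi.map_π, Pi.lift_π_assoc]
    exact (hS i).fIsKernel.fac _ WalkingParallelPair.zero
  · intro Z z hz m hm
    dsimp [piSC] at hm
    dsimp [piSC]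
    ext i
    simp only [Pi.lift_π]
    rw [← cancel_mono (S i).f]
    have h2 := (hS i).fIsKernel.fac (KernelFork.ofι _ (key z hz i)) WalkingParallelPair.zero
    dsimp at h2
    rw [h2, ← hm]
    simp

variable [HasExt.{w} 𝒜]

theorem ext_one_pi_eq_zero_aux (A : 𝒜) (S : I → ShortComplex 𝒜) (hS : ∀ i, (S i).ShortExact)
    [∀ i, Injective (S i).X₂] (x : Ext A (∏ᶜ fun i => (S i).X₁) 1)
    (hx : ∀ i, x.comp (Ext.mk₀ (Pi.π (fun i => (S i).X₁) i)) (add_zero 1) = 0) : x = 0 := by
  have : ∀ i, Mono (S i).f := fun i => (hS i).mono_f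
  have hmono : Mono (piSC S).f := by dsimp only [piSC]; infer_instance
  let T : ShortComplex 𝒜 := ShortComplex.mk (piSC S).f (cokernel.π (piSC S).f) (cokernel.condition _)
  have hT : T.ShortExact := by
    have : Mono T.f := hmono
    have : Epi T.g := by dsimp [T]; infer_instance
    exact ShortComplex.ShortExact.mk (ShortComplex.exact_cokernel _)
  have : Injective T.X₂ := by dsimp [T]; infer_instance
  let j : cokernel (piSC S).f ⟶ ∏ᶜ fun i => (S i).X₃ :=
    cokernel.desc (piSC S).f (piSC S).g (piSC S).zero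
  have hj : Mono j := (ShortComplex.exact_iff_mono_cokernel_desc _).1 (piSC_exact S hS)
  let φ : ∀ i, T ⟶ S i := fun i =>
    { τ₁ := Pi.π _ i
      τ₂ := Pi.π _ i
      τ₃ := j ≫ Pi.π _ i
      comm₁₂ := by dsimp [T]; simp
      comm₂₃ := by dsimp [T, j]; simp }
  obtain ⟨x₃, rfl⟩ := Ext.covariant_sequence_exact₁ A hT x (Ext.eq_zero_of_injective _) rfl
  obtain ⟨q, rfl⟩ := (Ext.mk₀_bijective _ _).surjective x₃
  have hlift : ∀ i, ∃ a : A ⟶ (S i).X₂, a ≫ (S i).g = q ≫ j ≫ Pi.π _ i := by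
    intro i
    have h1 := hx i
    rw [Ext.comp_assoc_of_third_deg_zero] at h1
    have h2 := ShortComplex.ShortExact.extClass_naturality hT (hS i) (φ i)
    dsimp [φ] at h2
    erw [h2] at h1
    rw [← Ext.comp_assoc_of_second_deg_zero, Ext.mk₀_comp_mk₀] at h1
    obtain ⟨x₂, hx₂⟩ := Ext.covariant_sequence_exact₃ A (hS i) _ rfl h1
    obtain ⟨a, rfl⟩ := (Ext.mk₀_bijective _ _).surjective x₂
    rw [Ext.mk₀_comp_mk₀] at hx₂
    exact ⟨a, (Ext.mk₀_bijective _ _).injective hx₂⟩
  choose a ha using hlift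
  have hq : Pi.lift a ≫ T.g = q := by
    rw [← cancel_mono j]
    dsimp [T, j]
    rw [Category.assoc, cokernel.π_desc]
    ext i
    simp only [Category.assoc, Pi.map_π, Pi.lift_π_assoc]
    exact ha i
  rw [← hq, ← Ext.mk₀_comp_mk₀, Ext.comp_assoc_of_second_deg_zero, hT.comp_extClass,
    Ext.comp_zero]

/-- `Ext^1(A, ∏ F_i) → ∏ Ext^1(A, F_i)` has trivial kernel. -/
theorem ext_one_pi_eq_zero [EnoughInjectives 𝒜] (A : 𝒜) (F : I → 𝒜) (x : Ext A (∏ᶜ F) 1)
    (hx : ∀ i, x.comp (Ext.mk₀ (Pi.π F i)) (add_zero 1) = 0) : x = 0 :=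
  ext_one_pi_eq_zero_aux A (fun i => injSC (F i)) (fun i => injSC_shortExact _) x hx

end Groth.Agent.ExtPi
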