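import Mathlib
import Groth.Prelude.Def_FEt
import Groth.Agent.Lib.DiagOpen

/-! A criterion for faithfulness of restriction of finite étale covers. -/

open CategoryTheory CategoryTheory.Limits AlgebraicGeometry

universe u

namespace Groth.Agent.Lib.FEtFaithful

theorem faithful_of {X Y : Scheme.{u}} (f : X ⟶ Y)
    (H : ∀ (V : FEt.Cat Y) (W : Set V.left), IsClopen W →
      Set.range (pullback.fst V.hom f) ⊆ W → W = Set.univ) :
    (FEt.restrict f).Faithful := by
  constructor
  intro A B a b hab
  have h1 : ((FEt.restrict f).map a).left = ((FEt.restrict f).map b).left := by rw [hab]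
  have h2 : pullback.fst A.hom f ≫ a.left = pullback.fst A.hom f ≫ b.left := by
    have := congr($h1 ≫ pullback.fst B.hom f)
    simp only [FEt.restrict, MorphismProperty.Over.pullback_map_left] at this
    erw [pullback.lift_fst, pullback.lift_fst] at this
    exact this
  have hfin : IsFinite B.hom := B.prop.1
  have het : Etale B.hom := B.prop.2
  have hfg : a.left ≫ B.hom = b.left ≫ B.hom := by
    rw [MorphismProperty.Over.w a, MorphismProperty.Over.w b]
  have hclopen : IsClopen (Groth.Agent.Lib.DiagOpen.eqLocus B.hom a.left b.left hfg : Set A.left) := by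
    constructor
    · have : IsClosed (Set.range (pullback.diagonal B.hom)) :=
        (pullback.diagonal B.hom).isClosedEmbedding.isClosed_range
      exact this.preimage (pullback.lift a.left b.left hfg).continuous
    · exact (Groth.Agent.Lib.DiagOpen.eqLocus B.hom a.left b.left hfg).isOpen
  have huniv := H A _ hclopen
    (Groth.Agent.Lib.DiagOpen.range_subset_eqLocus B.hom a.left b.left hfg _ h2)
  have : a.left = b.left :=
    Groth.Agent.Lib.DiagOpen.eq_of_eqLocus_eq_univ B.hom a.left b.left hfg huniv
  exact MorphismProperty.Over.Hom.ext this

end Groth.Agent.Lib.FEtFaithful
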