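import Groth.Prelude.Def_SpSeq

set_option autoImplicit false
open CategoryTheory CategoryTheory.Limits
universe v u

namespace Groth.Agent.FilObjLib

variable {A : Type u} [Category.{v} A] [Abelian A]

lemma im_epi_comp {X' X Y : A} (e : X' ⟶ X) [Epi e] (m : X ⟶ Y) :
    imageSubobject (e ≫ m) = imageSubobject m := by
  have hle := imageSubobject_comp_le e m
  have : IsIso (Subobject.ofLE _ _ hle) := isIso_of_mono_of_epi _
  exact Subobject.eq_of_comm (asIso (Subobject.ofLE _ _ hle)) (Subobject.ofLE_arrow _)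

lemma im_comp_eq {X L M : A} (a : X ⟶ L) (g : L ⟶ M) :
    imageSubobject (a ≫ g) = imageSubobject ((imageSubobject a).arrow ≫ g) := by
  conv_lhs => rw [← imageSubobject_arrow_comp a, Category.assoc]
  exact im_epi_comp _ _

lemma im_comp_of_eq {X X' L M : A} (a : X ⟶ L) (b : X' ⟶ L) (g : L ⟶ M)
    (h : imageSubobject a = imageSubobject b) : imageSubobject (a ≫ g) = imageSubobject (b ≫ g) := by
  rw [im_comp_eq a g, im_comp_eq b g, h]

lemma im_arrow {L : A} (P : Subobject L) : imageSubobject P.arrow = P := by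
  rw [imageSubobject_mono, Subobject.mk_arrow]

lemma im_comp_mono {X L M : A} (h : X ⟶ L) (g : L ⟶ M) [Mono g] :
    imageSubobject (h ≫ g) = (Subobject.map g).obj (imageSubobject h) := by
  rw [im_comp_eq, imageSubobject_mono ((imageSubobject h).arrow ≫ g)]
  conv_rhs => rw [← Subobject.mk_arrow (imageSubobject h), Subobject.map_mk]

lemma im_of_epi {X L : A} (f : X ⟶ L) [Epi f] : imageSubobject f = ⊤ := by
  have := im_epi_comp f (𝟙 L)
  rw [Category.comp_id] at this
  rw [this, imageSubobject_mono, Subobject.mk_eq_top_of_isIso]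

theorem strict_comp_of_mono {K L M : SpSeq.FilObj A} (f : K ⟶ L) (g : L ⟶ M)
    (hf : SpSeq.FilObj.IsStrict f) (hg : SpSeq.FilObj.IsStrict g) [Mono g.hom] :
    SpSeq.FilObj.IsStrict (f ≫ g) := by
  intro p
  change imageSubobject ((K.fil p).arrow ≫ f.hom ≫ g.hom) = imageSubobject (f.hom ≫ g.hom) ⊓ M.fil p
  rw [← Category.assoc, im_comp_mono, hf p, Subobject.inf_map, ← im_comp_mono,
    ← im_arrow (L.fil p), ← im_comp_mono, hg p, ← inf_assoc]
  congr 1
  exact inf_eq_left.2 (imageSubobject_comp_le _ _)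

theorem strict_comp_of_epi {K L M : SpSeq.FilObj A} (f : K ⟶ L) (g : L ⟶ M)
    (hf : SpSeq.FilObj.IsStrict f) (hg : SpSeq.FilObj.IsStrict g) [Epi f.hom] :
    SpSeq.FilObj.IsStrict (f ≫ g) := by
  intro p
  change imageSubobject ((K.fil p).arrow ≫ f.hom ≫ g.hom) = imageSubobject (f.hom ≫ g.hom) ⊓ M.fil p
  have h1 : imageSubobject ((K.fil p).arrow ≫ f.hom) = imageSubobject (L.fil p).arrow := by
    rw [hf p, im_of_epi, top_inf_eq, im_arrow]
  rw [← Category.assoc, im_comp_of_eq _ _ g.hom h1, hg p, im_epi_comp]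

end Groth.Agent.FilObjLib
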