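import Mathlib

/-! A finite unramified morphism whose fibre over `s` is a single point with trivial residue field
extension is a closed immersion over a neighbourhood of `s`. -/

open CategoryTheory CategoryTheory.Limits AlgebraicGeometry

universe u

namespace Groth.Agent.Lib.FiniteUnramified

variable {X S : Scheme.{u}} (f : X ⟶ S)

/-- If the residue field map at `x` is surjective, then `Spec κ(x) ⟶ X ⟶ S` is a monomorphism. -/
theorem mono_fromSpecResidueField_comp (x : X)
    (hκ : Function.Surjective (f.residueFieldMap x)) :
    Mono (X.fromSpecResidueField x ≫ f) := by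
  rw [← Scheme.Hom.SpecMap_residueFieldMap_fromSpecResidueField]
  have : IsClosedImmersion (Spec.map (f.residueFieldMap x)) :=
    IsClosedImmersion.spec_of_surjective _ hκ
  infer_instance

/-- Points of `X ×ₛ X` both of whose projections equal `x` lie on the diagonal, if the residue
field extension at `x` is trivial. -/
theorem mem_range_diagonal (x : X) (hκ : Function.Surjective (f.residueFieldMap x))
    (z : ↑(pullback f f)) (h1 : pullback.fst f f z = x) (h2 : pullback.snd f f z = x) :
    z ∈ Set.range (pullback.diagonal f) := by
  have hmono := mono_fromSpecResidueField_comp f x hκ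
  let j := X.fromSpecResidueField x
  let g := j ≫ f
  let m : pullback g g ⟶ pullback f f :=
    pullback.map g g f f j j (𝟙 S) (by simp [g]) (by simp [g])
  have hrange := Scheme.Pullback.range_map (f := g) (g := g) f f j j (𝟙 S) (by simp [g]) (by simp [g])
  have hz : z ∈ Set.range m := by
    rw [hrange]
    refine ⟨?_, ?_⟩
    · rw [Set.mem_preimage, h1, Scheme.range_fromSpecResidueField]; rfl
    · rw [Set.mem_preimage, h2, Scheme.range_fromSpecResidueField]; rfl
  have hfs : pullback.fst g g = pullback.snd g g := by
    rw [← cancel_mono g]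
    exact pullback.condition
  have hm : m = (pullback.fst g g ≫ j) ≫ pullback.diagonal f := by
    apply pullback.hom_ext
    · simp only [Category.assoc, pullback.diagonal_fst, Category.comp_id]
      exact pullback.lift_fst _ _ _
    · simp only [Category.assoc, pullback.diagonal_snd, Category.comp_id]
      rw [hfs]
      exact pullback.lift_snd _ _ _
  obtain ⟨w, rfl⟩ := hz
  rw [hm]
  exact ⟨(pullback.fst g g ≫ j) w, by simp⟩


theorem exists_nhd [IsFinite f] [FormallyUnramified f] (s : S) (x : X)
    (hx : ∀ y : X, f y = s → y = x) (hκ : Function.Surjective (f.residueFieldMap x)) :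
    ∃ U : S.Opens, s ∈ U ∧ ∀ U' : S.Opens, U' ≤ U → IsClosedImmersion (f ∣_ U') := by
  let Δ := pullback.diagonal f
  have hΔ : IsOpenImmersion Δ := inferInstance
  let π : pullback f f ⟶ S := pullback.fst f f ≫ f
  have hπ : IsFinite π := inferInstance
  let W : Set ↑(pullback f f) := (Set.range Δ)ᶜ
  have hW : IsClosed W := Δ.isOpenEmbedding.isOpen_range.isClosed_compl
  have hZ : IsClosed (π '' W) := π.isClosedMap _ hW
  let U : S.Opens := ⟨(π '' W)ᶜ, hZ.isOpen_compl⟩
  refine ⟨U, ?_, ?_⟩
  · -- s ∈ U
    rintro ⟨z, hzW, hzs⟩
    apply hzW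
    have h1 : pullback.fst f f z = x := by
      apply hx
      rw [← Scheme.Hom.comp_apply]
      exact hzs
    have h2 : pullback.snd f f z = x := by
      apply hx
      rw [← Scheme.Hom.comp_apply, ← pullback.condition]
      exact hzs
    exact mem_range_diagonal f x hκ z h1 h2
  · intro U' hU'
    rw [IsClosedImmersion.iff_isProper_and_mono]
    refine ⟨inferInstance, ⟨fun {T} a b hab => ?_⟩⟩
    let ι := (f ⁻¹ᵁ U').ι
    have hab' : (a ≫ ι) ≫ f = (b ≫ ι) ≫ f := by
      simp only [Category.assoc, ι]
      rw [← morphismRestrict_ι, reassoc_of% hab]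
    let c : T ⟶ pullback f f := pullback.lift (a ≫ ι) (b ≫ ι) hab'
    have hc1 : c ≫ pullback.fst f f = a ≫ ι := pullback.lift_fst _ _ _
    have hc2 : c ≫ pullback.snd f f = b ≫ ι := pullback.lift_snd _ _ _
    have hc : Set.range c ⊆ Set.range Δ := by
      rintro _ ⟨t, rfl⟩
      by_contra hn
      have h4 : π (c t) ∈ π '' W := ⟨c t, hn, rfl⟩
      have h3 : π (c t) ∈ U := by
        apply hU'
        have : π (c t) = f (ι (a t)) := by
          simp only [π, ← Scheme.Hom.comp_apply]
          rw [← Category.assoc c, hc1, Category.assoc]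
        rw [this]
        exact (a t).2
      exact h3 h4
    let l := IsOpenImmersion.lift Δ c hc
    have hl : l ≫ Δ = c := IsOpenImmersion.lift_fac _ _ _
    have e1 : a ≫ ι = l := by
      have := congr($hl ≫ pullback.fst f f)
      rw [hc1] at this
      simpa [Δ] using this.symm
    have e2 : b ≫ ι = l := by
      have := congr($hl ≫ pullback.snd f f)
      rw [hc2] at this
      simpa [Δ] using this.symm
    rw [← cancel_mono ι, e1, e2]

end Groth.Agent.Lib.FiniteUnramified
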