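import Mathlib
set_option autoImplicit false
universe u
open CategoryTheory TopologicalSpace Opposite TopCat

namespace Groth.Agent.FlasqueGrp

variable {X : TopCat.{u}}

lemma res_res (G : TopCat.Presheaf GrpCat.{u} X) {U V W : Opens X} (i : V ⟶ U) (j : W ⟶ V)
    (k : W ⟶ U) (g : G.obj (op U)) :
    (G.map j.op).hom ((G.map i.op).hom g) = (G.map k.op).hom g := by
  have h1 : i.op ≫ j.op = k.op := Subsingleton.elim _ _
  have := ConcreteCategory.congr_hom (G.map_comp i.op j.op) g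
  rw [h1] at this
  exact this.symm

lemma res_id (G : TopCat.Presheaf GrpCat.{u} X) {U : Opens X} (i : U ⟶ U) (g : G.obj (op U)) :
    (G.map i.op).hom g = g := by
  have h1 : i.op = 𝟙 _ := Subsingleton.elim _ _
  rw [h1, G.map_id]
  rfl

lemma nat {G H : TopCat.Presheaf GrpCat.{u} X} (β : G ⟶ H) {U V : Opens X} (i : V ⟶ U)
    (g : G.obj (op U)) :
    (β.app (op V)).hom ((G.map i.op).hom g) = (H.map i.op).hom ((β.app (op U)).hom g) :=
  ConcreteCategory.congr_hom (β.naturality i.op) g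

/-- gluing a pairwise compatible family of sections of a sheaf of groups. -/
lemma glue (G : TopCat.Presheaf GrpCat.{u} X) (hG : G.IsSheaf) {ι : Type*} (U : ι → Opens X)
    (V : Opens X) (iUV : ∀ i, U i ⟶ V) (hcover : V ≤ iSup U) (sf : ∀ i, G.obj (op (U i)))
    (h : ∀ i j, (G.map (homOfLE (inf_le_left : U i ⊓ U j ≤ U i)).op).hom (sf i) =
      (G.map (homOfLE (inf_le_right : U i ⊓ U j ≤ U j)).op).hom (sf j)) :
    ∃ s : G.obj (op V), ∀ i, (G.map (iUV i).op).hom s = sf i := by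
  obtain ⟨s, hs, -⟩ := TopCat.Sheaf.existsUnique_gluing' (⟨G, hG⟩ : TopCat.Sheaf GrpCat.{u} X) U V
    iUV hcover sf (fun i j => h i j)
  exact ⟨s, hs⟩

lemma locally_eq (G : TopCat.Presheaf GrpCat.{u} X) (hG : G.IsSheaf) {ι : Type*} (U : ι → Opens X)
    (V : Opens X) (iUV : ∀ i, U i ⟶ V) (hcover : V ≤ iSup U) (s t : G.obj (op V))
    (h : ∀ i, (G.map (iUV i).op).hom s = (G.map (iUV i).op).hom t) : s = t :=
  TopCat.Sheaf.eq_of_locally_eq' (⟨G, hG⟩ : TopCat.Sheaf GrpCat.{u} X) U V iUV hcover s t h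

lemma locally_eq₂ (G : TopCat.Presheaf GrpCat.{u} X) (hG : G.IsSheaf) {U₁ U₂ V : Opens X}
    (i₁ : U₁ ⟶ V) (i₂ : U₂ ⟶ V) (hcover : V ≤ U₁ ⊔ U₂) (s t : G.obj (op V))
    (h₁ : (G.map i₁.op).hom s = (G.map i₁.op).hom t)
    (h₂ : (G.map i₂.op).hom s = (G.map i₂.op).hom t) : s = t :=
  TopCat.Sheaf.eq_of_locally_eq₂ (⟨G, hG⟩ : TopCat.Sheaf GrpCat.{u} X) i₁ i₂ hcover s t h₁ h₂

/-- gluing two sections which agree on the intersection. -/
lemma glue₂ (G : TopCat.Presheaf GrpCat.{u} X) (hG : G.IsSheaf) {U₁ U₂ V : Opens X}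
    (i₁ : U₁ ⟶ V) (i₂ : U₂ ⟶ V) (hcover : V ≤ U₁ ⊔ U₂) (g₁ : G.obj (op U₁)) (g₂ : G.obj (op U₂))
    (h : (G.map (homOfLE (inf_le_left : U₁ ⊓ U₂ ≤ U₁)).op).hom g₁ =
      (G.map (homOfLE (inf_le_right : U₁ ⊓ U₂ ≤ U₂)).op).hom g₂) :
    ∃ s : G.obj (op V), (G.map i₁.op).hom s = g₁ ∧ (G.map i₂.op).hom s = g₂ := by
  let Uf : Bool → Opens X := fun b => Bool.rec U₂ U₁ b
  let sf : ∀ b : Bool, G.obj (op (Uf b)) := fun b => Bool.rec g₂ g₁ b
  let iUV : ∀ b : Bool, Uf b ⟶ V := fun b => Bool.rec i₂ i₁ b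
  have hc : V ≤ iSup Uf := by
    refine hcover.trans (sup_le ?_ ?_)
    · exact le_iSup Uf true
    · exact le_iSup Uf false
  obtain ⟨s, hs⟩ := glue G hG Uf V iUV hc sf (by
    intro b b'
    cases b <;> cases b'
    · exact congrArg (fun k => (G.map (Quiver.Hom.op k)).hom g₂) (Subsingleton.elim _ _)
    · have e1 := res_res G (homOfLE (inf_le_left : U₁ ⊓ U₂ ≤ U₁))
        (homOfLE (le_inf inf_le_right inf_le_left : U₂ ⊓ U₁ ≤ U₁ ⊓ U₂))
        (homOfLE (inf_le_right : U₂ ⊓ U₁ ≤ U₁)) g₁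
      have e2 := res_res G (homOfLE (inf_le_right : U₁ ⊓ U₂ ≤ U₂))
        (homOfLE (le_inf inf_le_right inf_le_left : U₂ ⊓ U₁ ≤ U₁ ⊓ U₂))
        (homOfLE (inf_le_left : U₂ ⊓ U₁ ≤ U₂)) g₂
      exact e2.symm.trans ((congrArg _ h.symm).trans e1)
    · exact h
    · exact congrArg (fun k => (G.map (Quiver.Hom.op k)).hom g₁) (Subsingleton.elim _ _))
  exact ⟨s, hs true, hs false⟩

section Main

variable {X : TopCat.{u}} {F G H : TopCat.Presheaf GrpCat.{u} X}

/-- a partial lift of a section of `H`. -/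
structure Lift (β : G ⟶ H) (U : Opens X) (s : H.obj (op U)) where
  V : Opens X
  le : V ≤ U
  g : G.obj (op V)
  hg : (β.app (op V)).hom g = (H.map (homOfLE le).op).hom s

/-- the extension relation. -/
def Lift.r {β : G ⟶ H} {U : Opens X} {s : H.obj (op U)} (a b : Lift β U s) : Prop :=
  ∃ h : a.V ≤ b.V, (G.map (homOfLE h).op).hom b.g = a.g

lemma Lift.r_trans {β : G ⟶ H} {U : Opens X} {s : H.obj (op U)} {a b c : Lift β U s}
    (h₁ : a.r b) (h₂ : b.r c) : a.r c := by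
  obtain ⟨h₁, e₁⟩ := h₁
  obtain ⟨h₂, e₂⟩ := h₂
  refine ⟨h₁.trans h₂, ?_⟩
  rw [← e₁, ← e₂]
  exact (res_res G (homOfLE h₂) (homOfLE h₁) (homOfLE (h₁.trans h₂)) c.g).symm

lemma chain_bound (hG : G.IsSheaf) (hH : H.IsSheaf) (β : G ⟶ H) (U : Opens X) (s : H.obj (op U))
    (c : Set (Lift β U s)) (hc : IsChain Lift.r c) : ∃ ub, ∀ a ∈ c, Lift.r a ub := by
  let Uf : c → Opens X := fun a => a.1.V
  let W : Opens X := iSup Uf
  have hW : W ≤ U := iSup_le (fun a => a.1.le)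
  have hcomp : ∀ a b : c, a.1.r b.1 →
      (G.map (homOfLE (inf_le_left : Uf a ⊓ Uf b ≤ Uf a)).op).hom a.1.g =
      (G.map (homOfLE (inf_le_right : Uf a ⊓ Uf b ≤ Uf b)).op).hom b.1.g := by
    rintro a b ⟨h, e⟩
    rw [← e]
    exact res_res G (homOfLE h) (homOfLE inf_le_left) (homOfLE inf_le_right) b.1.g
  obtain ⟨t, ht⟩ := glue G hG Uf W (fun a => homOfLE (le_iSup Uf a)) le_rfl (fun a => a.1.g) (by
    intro a b
    by_cases hab : a = b
    · subst hab
      exact congrArg (fun k => (G.map (Quiver.Hom.op k)).hom a.1.g) (Subsingleton.elim _ _)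
    · have hne : a.1 ≠ b.1 := fun h => hab (Subtype.ext h)
      rcases hc a.2 b.2 hne with h | h
      · exact hcomp a b h
      · have h' := hcomp b a h
        have e1 := res_res G (homOfLE (inf_le_left : Uf b ⊓ Uf a ≤ Uf b))
          (homOfLE (le_inf inf_le_right inf_le_left : Uf a ⊓ Uf b ≤ Uf b ⊓ Uf a))
          (homOfLE (inf_le_right : Uf a ⊓ Uf b ≤ Uf b)) b.1.g
        have e2 := res_res G (homOfLE (inf_le_right : Uf b ⊓ Uf a ≤ Uf a))
          (homOfLE (le_inf inf_le_right inf_le_left : Uf a ⊓ Uf b ≤ Uf b ⊓ Uf a))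
          (homOfLE (inf_le_left : Uf a ⊓ Uf b ≤ Uf a)) a.1.g
        exact e2.symm.trans ((congrArg _ h'.symm).trans e1))
  have hβt : (β.app (op W)).hom t = (H.map (homOfLE hW).op).hom s := by
    apply locally_eq H hH Uf W (fun a => homOfLE (le_iSup Uf a)) le_rfl
    intro a
    rw [← nat β, ht a, a.1.hg]
    exact (res_res H (homOfLE hW) (homOfLE (le_iSup Uf a)) (homOfLE a.1.le) s).symm
  exact ⟨⟨W, hW, t, hβt⟩, fun a ha => ⟨le_iSup Uf ⟨a, ha⟩, ht ⟨a, ha⟩⟩⟩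


/-- surjectivity on sections when the kernel is flasque. -/
theorem surjective_of_flasque (hG : G.IsSheaf) (hH : H.IsSheaf) (α : F ⟶ G) (β : G ⟶ H)
    (hex : ∀ (U : Opens X) (g : G.obj (op U)),
      (β.app (op U)).hom g = 1 ↔ g ∈ Set.range (α.app (op U)).hom)
    (hβ : ∀ (U : Opens X) (s : H.obj (op U)) (x : X), x ∈ U →
      ∃ (V : Opens X) (hV : V ≤ U), x ∈ V ∧ ∃ g : G.obj (op V),
        (β.app (op V)).hom g = (H.map (homOfLE hV).op).hom s)
    (hfl : ∀ (U V : Opens X) (hUV : V ≤ U), Function.Surjective (F.map (homOfLE hUV).op).hom)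
    (U : Opens X) : Function.Surjective (β.app (op U)).hom := by
  intro s
  obtain ⟨m, hm⟩ := exists_maximal_of_chains_bounded (chain_bound hG hH β U s)
    (fun h₁ h₂ => Lift.r_trans h₁ h₂)
  have hUm : U ≤ m.V := by
    intro x hx
    obtain ⟨W, hW, hxW, g', hg'⟩ := hβ U s x hx
    let N : Opens X := m.V ⊓ W
    let a : G.obj (op N) := (G.map (homOfLE (inf_le_left : N ≤ m.V)).op).hom m.g
    let b : G.obj (op N) := (G.map (homOfLE (inf_le_right : N ≤ W)).op).hom g'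
    have hβa : (β.app (op N)).hom a = (H.map (homOfLE (inf_le_left.trans m.le : N ≤ U)).op).hom s := by
      rw [nat β, m.hg]
      exact res_res H _ _ _ s
    have hβb : (β.app (op N)).hom b = (H.map (homOfLE (inf_le_left.trans m.le : N ≤ U)).op).hom s := by
      rw [nat β, hg']
      exact res_res H _ _ _ s
    have h1 : (β.app (op N)).hom (a⁻¹ * b) = 1 := by
      rw [map_mul, map_inv, hβa, hβb, inv_mul_cancel]
    obtain ⟨f, hf⟩ := (hex N _).mp h1
    obtain ⟨f', hf'⟩ := hfl W N inf_le_right f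
    let g'' : G.obj (op W) := g' * ((α.app (op W)).hom f')⁻¹
    have hg''N : (G.map (homOfLE (inf_le_right : N ≤ W)).op).hom g'' = a := by
      show (G.map (homOfLE (inf_le_right : N ≤ W)).op).hom (g' * ((α.app (op W)).hom f')⁻¹) = a
      rw [map_mul, map_inv, ← nat α, hf', hf]
      show b * (a⁻¹ * b)⁻¹ = a
      group
    have hβg'' : (β.app (op W)).hom g'' = (H.map (homOfLE hW).op).hom s := by
      show (β.app (op W)).hom (g' * ((α.app (op W)).hom f')⁻¹) = _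
      rw [map_mul, map_inv, (hex W _).mpr ⟨f', rfl⟩, inv_one, mul_one, hg']
    obtain ⟨t', ht'1, ht'2⟩ := glue₂ G hG (homOfLE (le_sup_left : m.V ≤ m.V ⊔ W))
      (homOfLE (le_sup_right : W ≤ m.V ⊔ W)) le_rfl m.g g'' hg''N.symm
    have hV' : m.V ⊔ W ≤ U := sup_le m.le hW
    have hβt' : (β.app (op (m.V ⊔ W))).hom t' = (H.map (homOfLE hV').op).hom s := by
      apply locally_eq₂ H hH (homOfLE (le_sup_left : m.V ≤ m.V ⊔ W))
        (homOfLE (le_sup_right : W ≤ m.V ⊔ W)) le_rfl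
      · rw [← nat β, ht'1, m.hg]
        exact (res_res H _ _ _ s).symm
      · rw [← nat β, ht'2, hβg'']
        exact (res_res H _ _ _ s).symm
    let m' : Lift β U s := ⟨m.V ⊔ W, hV', t', hβt'⟩
    have hmm' : m.r m' := ⟨le_sup_left, ht'1⟩
    obtain ⟨hle, -⟩ := hm m' hmm'
    exact hle (le_sup_right (a := m.V) hxW)
  refine ⟨(G.map (homOfLE hUm).op).hom m.g, ?_⟩
  rw [nat β, m.hg, res_res H _ _ (homOfLE le_rfl) s, res_id]

end Main

end Groth.Agent.FlasqueGrp
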