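import Mathlib
import Groth.Prelude.Def_CohTop

set_option autoImplicit false
universe u
open CategoryTheory CategoryTheory.Limits TopologicalSpace Opposite

namespace Groth.Agent.FlasqueTower

variable {X : TopCat.{u}}

/-- sections over `V`. -/
noncomputable abbrev Γ (V : Opens X) : CohTop.Ab X ⥤ AddCommGrpCat.{u} :=
  sheafToPresheaf (Opens.grothendieckTopology X) AddCommGrpCat.{u} ⋙
    (evaluation (Opens X)ᵒᵖ AddCommGrpCat.{u}).obj (op V)

instance (V : Opens X) : (Γ V).Additive where

/-- left exactness of sections. -/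
lemma sec_exact (T : ShortComplex (CohTop.Ab X)) (hT : T.ShortExact) (V : Opens X) :
    Function.Injective (T.f.hom.app (op V)).hom ∧
      (∀ y, (T.g.hom.app (op V)).hom y = 0 → ∃ a, (T.f.hom.app (op V)).hom a = y) ∧
      ∀ a, (T.g.hom.app (op V)).hom ((T.f.hom.app (op V)).hom a) = 0 := by
  have hm : Mono T.f := hT.mono_f
  have h1 : (T.map (Γ V)).Exact :=
    hT.exact.map_of_mono_of_preservesKernel (Γ V) hm inferInstance
  have h2 : Mono ((Γ V).map T.f) := inferInstance
  refine ⟨(AddCommGrpCat.mono_iff_injective _).1 h2, (ShortComplex.ab_exact_iff _).1 h1, ?_⟩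
  intro a
  have hz : (Γ V).map T.f ≫ (Γ V).map T.g = 0 := by
    rw [← Functor.map_comp, T.zero, Functor.map_zero]
  exact congrArg (fun ψ => ψ.hom a) hz

lemma sec_surj (T : ShortComplex (CohTop.Ab X)) (hT : T.ShortExact)
    [TopCat.Sheaf.IsFlasque T.X₁] (V : Opens X) :
    Function.Surjective (T.g.hom.app (op V)).hom := by
  have := TopCat.Sheaf.IsFlasque.epi_of_shortExact (U := V) hT
  exact (AddCommGrpCat.epi_iff_surjective _).1 this

/-- the kernel short exact sequence of an epimorphism. -/
noncomputable def kerSC {A B : CohTop.Ab X} (φ : A ⟶ B) : ShortComplex (CohTop.Ab X) :=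
  ShortComplex.mk (kernel.ι φ) φ (kernel.condition φ)

lemma kerSC_shortExact {A B : CohTop.Ab X} (φ : A ⟶ B) [Epi φ] : (kerSC φ).ShortExact := by
  have : Mono (kerSC φ).f := by dsimp [kerSC]; infer_instance
  have : Epi (kerSC φ).g := by dsimp [kerSC]; infer_instance
  exact ShortComplex.ShortExact.mk (ShortComplex.exact_kernel φ)

lemma epi_sec_surj {A B : CohTop.Ab X} (φ : A ⟶ B) [Epi φ]
    (hK : TopCat.Sheaf.IsFlasque (kernel φ : CohTop.Ab X)) (V : Opens X) :
    Function.Surjective (φ.hom.app (op V)).hom := by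
  have : TopCat.Sheaf.IsFlasque (kerSC φ).X₁ := hK
  exact sec_surj (kerSC φ) (kerSC_shortExact φ) V

lemma ker_sec_exact {A B : CohTop.Ab X} (φ : A ⟶ B) [Epi φ] (V : Opens X) :
    (∀ y, (φ.hom.app (op V)).hom y = 0 →
      ∃ a, ((kernel.ι φ).hom.app (op V)).hom a = y) ∧
      ∀ a, (φ.hom.app (op V)).hom (((kernel.ι φ).hom.app (op V)).hom a) = 0 :=
  (sec_exact (kerSC φ) (kerSC_shortExact φ) V).2

/-- naturality of a sheaf morphism with respect to restriction, elementwise. -/
lemma nat_res {A B : CohTop.Ab X} (φ : A ⟶ B) {U V : (Opens X)ᵒᵖ} (i : U ⟶ V) (a : A.obj.obj U) :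
    (φ.hom.app V).hom ((A.obj.map i).hom a) = (B.obj.map i).hom ((φ.hom.app U).hom a) := by
  exact congrArg (fun ψ => ψ.hom a) (φ.hom.naturality i)

variable (M : ℕᵒᵖ ⥤ CohTop.Ab X)

/-- naturality of a tower morphism on sections. -/
lemma nat_tower {M N : ℕᵒᵖ ⥤ CohTop.Ab X} (φ : M ⟶ N) {k l : ℕᵒᵖ} (f : k ⟶ l) (V : Opens X)
    (a : (M.obj k).obj.obj (op V)) :
    ((φ.app l).hom.app (op V)).hom (((M.map f).hom.app (op V)).hom a) =
      ((N.map f).hom.app (op V)).hom (((φ.app k).hom.app (op V)).hom a) := by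
  have h := φ.naturality f
  have h' : (M.map f).hom.app (op V) ≫ (φ.app l).hom.app (op V) =
      (φ.app k).hom.app (op V) ≫ (N.map f).hom.app (op V) := by
    rw [← NatTrans.comp_app, ← NatTrans.comp_app]
    exact congrArg (fun ψ => ψ.hom.app (op V)) h
  exact congrArg (fun ψ => ψ.hom a) h'

/-- sections functor to types -/
noncomputable abbrev secT (V : Opens X) : CohTop.Ab X ⥤ Type u :=
  Γ V ⋙ forget AddCommGrpCat.{u}

/-- a compatible family of sections over `V` is a section of the limit. -/
lemma exists_section_limit (V : Opens X) (y : ∀ k : ℕ, (M.obj (op k)).obj.obj (op V))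
    (hy : ∀ k : ℕ, ((M.map (homOfLE (Nat.le_succ k)).op).hom.app (op V)).hom (y (k + 1)) = y k) :
    ∃ x : (limit M).obj.obj (op V), ∀ k, ((limit.π M (op k)).hom.app (op V)).hom x = y k := by
  have hall : ∀ (k l : ℕ) (h : k ≤ l), ((M.map (homOfLE h).op).hom.app (op V)).hom (y l) = y k := by
    intro k l h
    induction l, h using Nat.le_induction with
    | base =>
      have : (homOfLE (le_refl k)).op = 𝟙 (op k) := rfl
      rw [this, M.map_id]; rfl
    | succ l h ih =>
      have : (homOfLE (h.trans (Nat.le_succ l))).op =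
          (homOfLE (Nat.le_succ l)).op ≫ (homOfLE h).op := rfl
      rw [this, M.map_comp]
      change ((M.map (homOfLE h).op).hom.app (op V)).hom
        (((M.map (homOfLE (Nat.le_succ l)).op).hom.app (op V)).hom (y (l + 1))) = _
      rw [hy, ih]
  have hc := isLimitOfPreserves (secT V) (limit.isLimit M)
  let s : (M ⋙ secT V).sections := ⟨fun k => y k.unop, by
    intro k l f
    have h : l.unop ≤ k.unop := leOfHom f.unop
    have : f = (homOfLE h).op := Subsingleton.elim _ _
    subst this
    exact hall _ _ h⟩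
  refine ⟨(Types.isLimitEquivSections hc).symm s, fun k => ?_⟩
  exact Types.isLimitEquivSections_symm_apply hc s (op k)

lemma section_limit_ext (V : Opens X) (x y : (limit M).obj.obj (op V))
    (h : ∀ k : ℕ, ((limit.π M (op k)).hom.app (op V)).hom x =
      ((limit.π M (op k)).hom.app (op V)).hom y) : x = y := by
  have hc := isLimitOfPreserves (secT V) (limit.isLimit M)
  apply (Types.isLimitEquivSections hc).injective
  ext ⟨k⟩
  exact h k

/-- the components of a section of the limit are compatible. -/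
lemma limit_π_compat (V : Opens X) (z : (limit M).obj.obj (op V)) (k : ℕ) :
    ((M.map (homOfLE (Nat.le_succ k)).op).hom.app (op V)).hom
      (((limit.π M (op (k + 1))).hom.app (op V)).hom z) =
      ((limit.π M (op k)).hom.app (op V)).hom z := by
  have h := limit.w M (homOfLE (Nat.le_succ k)).op
  have h' : (limit.π M (op (k + 1))).hom.app (op V) ≫
      (M.map (homOfLE (Nat.le_succ k)).op).hom.app (op V) = (limit.π M (op k)).hom.app (op V) := by
    rw [← NatTrans.comp_app]
    exact congrArg (fun ψ => ψ.hom.app (op V)) h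
  exact congrArg (fun ψ => ψ.hom z) h'

/-- restriction commutes with the projections of the limit. -/
lemma limit_π_res {U V : Opens X} (i : op U ⟶ op V) (z : (limit M).obj.obj (op U)) (k : ℕ) :
    ((limit.π M (op k)).hom.app (op V)).hom (((limit M).obj.map i).hom z) =
      ((M.obj (op k)).obj.map i).hom (((limit.π M (op k)).hom.app (op U)).hom z) :=
  nat_res (limit.π M (op k)) i z

end Groth.Agent.FlasqueTower
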