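import Mathlib
import Mathlib.AlgebraicGeometry.Morphisms.LocalFlatDescent
import Mathlib.AlgebraicGeometry.ZariskisMainTheorem

/-! fpqc descent for separated / proper / closed immersions, from Mathlib's descent instances. -/

open CategoryTheory CategoryTheory.Limits AlgebraicGeometry MorphismProperty

universe u

namespace Groth.Agent.Lib.FpqcDescent

/-- A morphism is separated iff its diagonal is universally closed. -/
theorem isSeparated_eq_diagonal_universallyClosed :
    @IsSeparated = MorphismProperty.diagonal (@UniversallyClosed : MorphismProperty Scheme.{u}) := by
  ext X Y f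
  constructor
  · intro h
    change UniversallyClosed (pullback.diagonal f)
    infer_instance
  · intro h
    have h1 : UniversallyClosed (pullback.diagonal f) := h
    have : IsClosedImmersion (pullback.diagonal f) :=
      .of_isPreimmersion _ (pullback.diagonal f).isClosedMap.isClosed_range
    exact ⟨this⟩

theorem descendsAlong_isSeparated :
    DescendsAlong @IsSeparated
      (@Surjective ⊓ @Flat ⊓ @QuasiCompact : MorphismProperty Scheme.{u}) := by
  rw [isSeparated_eq_diagonal_universallyClosed]
  infer_instance

theorem descendsAlong_isProper :
    DescendsAlong @IsProper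
      (@Surjective ⊓ @Flat ⊓ @QuasiCompact : MorphismProperty Scheme.{u}) := by
  rw [isProper_eq]
  have := descendsAlong_isSeparated.{u}
  infer_instance

theorem descendsAlong_mono :
    DescendsAlong (MorphismProperty.monomorphisms Scheme.{u})
      (@Surjective ⊓ @Flat ⊓ @QuasiCompact : MorphismProperty Scheme.{u}) := by
  rw [← MorphismProperty.diagonal_isomorphisms]
  infer_instance

theorem descendsAlong_isClosedImmersion :
    DescendsAlong @IsClosedImmersion
      (@Surjective ⊓ @Flat ⊓ @QuasiCompact : MorphismProperty Scheme.{u}) := by
  rw [IsClosedImmersion.eq_proper_inf_monomorphisms]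
  have := descendsAlong_isProper.{u}
  have := descendsAlong_mono.{u}
  infer_instance

end Groth.Agent.Lib.FpqcDescent
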