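import Mathlib
set_option autoImplicit false
universe w v u
open CategoryTheory Limits MorphismProperty ZeroObject

namespace Groth.Agent.FunctInj

variable (𝒞 : Type u) [Category.{v} 𝒞] [Abelian 𝒞] [IsGrothendieckAbelian.{w} 𝒞]

/-- the functor `X ↦ (X ⟶ 0)` -/
noncomputable def toZeroArrow : 𝒞 ⥤ Arrow 𝒞 where
  obj X := Arrow.mk (0 : X ⟶ (0 : 𝒞))
  map f := Arrow.homMk f (𝟙 (0 : 𝒞)) (by simp)

theorem exists_functorial_injective :
    ∃ (J : 𝒞 ⥤ 𝒞) (j : 𝟭 𝒞 ⟶ J), ∀ F : 𝒞, Injective (J.obj F) ∧ Mono (j.app F) := by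
  let Φ := functorialFactorizationData (monomorphisms 𝒞) (monomorphisms 𝒞).rlp
  refine ⟨toZeroArrow 𝒞 ⋙ Φ.Z,
    { app := fun X => Φ.i.app ((toZeroArrow 𝒞).obj X)
      naturality := fun X Y f => Φ.i.naturality ((toZeroArrow 𝒞).map f) }, fun F => ⟨?_, ?_⟩⟩
  · have hp := Φ.hp ((toZeroArrow 𝒞).obj F)
    rw [injective_iff_rlp_monomorphisms_zero]
    have : Φ.p.app ((toZeroArrow 𝒞).obj F) = (0 : _ ⟶ (0 : 𝒞)) :=
      (isZero_zero 𝒞).eq_of_tgt _ _
    rw [this] at hp
    exact hp
  · exact Φ.hi ((toZeroArrow 𝒞).obj F)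

instance presheafGrothendieck {C : Type u} [SmallCategory C] :
    IsGrothendieckAbelian.{u} (Cᵒᵖ ⥤ AddCommGrpCat.{u}) where
  ab5OfSize := ⟨fun K _ _ => inferInstance⟩

section
variable {C : Type u} [SmallCategory C] (O : Cᵒᵖ ⥤ RingCat.{u})

instance : (PresheafOfModules.toPresheaf.{u} O).ReflectsIsomorphisms := inferInstance

noncomputable instance : ReflectsFiniteLimits (PresheafOfModules.toPresheaf.{u} O) where
  reflects _ _ _ := inferInstance

instance presheafOfModules_ab5 : AB5OfSize.{u, u} (PresheafOfModules.{u} O) where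
  ofShape K _ _ :=
    HasExactColimitsOfShape.domain_of_functor K (PresheafOfModules.toPresheaf.{u} O)

instance presheafOfModules_hasSeparator : HasSeparator (PresheafOfModules.{u} O) := by
  have h := PresheafOfModules.freeYoneda.isSeparating O
  exact ⟨_, h.isSeparator_coproduct⟩

instance presheafOfModulesGrothendieck : IsGrothendieckAbelian.{u} (PresheafOfModules.{u} O) where

end

end Groth.Agent.FunctInj
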