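import Mathlib

set_option autoImplicit false
universe v v' u u'
open CategoryTheory CategoryTheory.Limits

namespace Groth.Agent.SSAcyc

variable {A : Type u} [Category.{v} A] [Abelian A] {B : Type u'} [Category.{v'} B] [Abelian B]

lemma quasiIso_iff_exactAt_mappingCone {K L : CochainComplex A ℤ} (f : K ⟶ L) :
    QuasiIso f ↔ ∀ n : ℤ, (CochainComplex.mappingCone f).ExactAt n := by
  rw [← HomologicalComplex.mem_quasiIso_iff, ← HomotopyCategory.quotient_map_mem_quasiIso_iff,
    HomotopyCategory.quasiIso_eq_trW_subcategoryAcyclic,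
    ← HomotopyCategory.quotient_obj_mem_subcategoryAcyclic_iff_exactAt]
  exact (HomotopyCategory.subcategoryAcyclic A).trW_iff_of_distinguished _
    (HomotopyCategory.mappingCone_triangleh_distinguished f)

section

variable (G : A ⥤ B) [G.Additive] [PreservesFiniteLimits G] (P : A → Prop)

/-- data of the induction: a subobject `Z ↪ X` which is a kernel of `d : X ⟶ Y`, with `Z ∈ P`. -/
structure KerData {X Y : A} (d : X ⟶ Y) where
  Z : A
  i : Z ⟶ X
  zero : i ≫ d = 0
  mono : Mono i
  exact : (ShortComplex.mk i d zero).Exact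
  mem : P Z

variable {G P}

/-- the induction step. -/
theorem step
    (hP_coker : ∀ S : ShortComplex A, S.ShortExact → P S.X₁ → P S.X₂ → P S.X₃)
    (hP_epi : ∀ S : ShortComplex A, S.ShortExact → P S.X₁ → Epi (G.map S.g))
    {X Y W : A} (hX : P X) (d : X ⟶ Y) (d' : Y ⟶ W) (hdd : d ≫ d' = 0)
    (hex : (ShortComplex.mk d d' hdd).Exact) (k : KerData P d) :
    Nonempty (KerData P d') ∧
      (ShortComplex.mk (G.map d) (G.map d') (by rw [← G.map_comp, hdd, G.map_zero])).Exact := by
  have := k.mono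
  let S : ShortComplex A := ShortComplex.mk k.i (cokernel.π k.i) (cokernel.condition _)
  have hS : S.ShortExact := by
    have : Mono S.f := k.mono
    have : Epi S.g := by dsimp [S]; infer_instance
    exact ShortComplex.ShortExact.mk (ShortComplex.exact_cokernel _)
  let j : cokernel k.i ⟶ Y := cokernel.desc k.i d k.zero
  have hj : Mono j := (ShortComplex.exact_iff_mono_cokernel_desc _).1 k.exact
  have hπj : cokernel.π k.i ≫ j = d := cokernel.π_desc _ _ _
  have hjd' : j ≫ d' = 0 := by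
    rw [← cancel_epi (cokernel.π k.i), ← Category.assoc, hπj, hdd, comp_zero]
  let φ : ShortComplex.mk d d' hdd ⟶ ShortComplex.mk j d' hjd' :=
    { τ₁ := cokernel.π k.i
      τ₂ := 𝟙 _
      τ₃ := 𝟙 _
      comm₁₂ := by dsimp; rw [hπj, Category.comp_id]
      comm₂₃ := by dsimp; rw [Category.comp_id, Category.id_comp] }
  have : Epi φ.τ₁ := by dsimp [φ]; infer_instance
  have : IsIso φ.τ₂ := by dsimp [φ]; infer_instance
  have : Mono φ.τ₃ := by dsimp [φ]; infer_instance
  have hex' : (ShortComplex.mk j d' hjd').Exact :=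
    (ShortComplex.exact_iff_of_epi_of_isIso_of_mono φ).1 hex
  have hmem : P (cokernel k.i) := hP_coker S hS k.mem hX
  refine ⟨⟨⟨cokernel k.i, j, hjd', hj, hex', hmem⟩⟩, ?_⟩
  have h31 := (Functor.preservesFiniteLimits_tfae G).out 3 1
  have hG := h31.mp ‹PreservesFiniteLimits G› (ShortComplex.mk j d' hjd') ⟨hex', hj⟩
  have hepi : Epi (G.map (cokernel.π k.i)) := hP_epi S hS k.mem
  let ψ : ShortComplex.mk (G.map d) (G.map d') (by rw [← G.map_comp, hdd, G.map_zero]) ⟶
      (ShortComplex.mk j d' hjd').map G :=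
    { τ₁ := G.map (cokernel.π k.i)
      τ₂ := 𝟙 _
      τ₃ := 𝟙 _
      comm₁₂ := by
        show G.map (cokernel.π k.i) ≫ G.map j = G.map d ≫ 𝟙 _
        rw [← G.map_comp, hπj, Category.comp_id]
      comm₂₃ := by
        show 𝟙 _ ≫ G.map d' = G.map d' ≫ 𝟙 _
        rw [Category.comp_id, Category.id_comp] }
  have : Epi ψ.τ₁ := hepi
  have : IsIso ψ.τ₂ := IsIso.id _
  have : Mono ψ.τ₃ := (inferInstance : Mono (𝟙 (G.obj W)))
  exact (ShortComplex.exact_iff_of_epi_of_isIso_of_mono ψ).2 hG.1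

/-- a left exact functor preserves the exactness of bounded below exact complexes with terms in an
adapted class. -/
theorem exactAt_map_of_adapted
    (hP0 : ∀ Z : A, IsZero Z → P Z)
    (hP_coker : ∀ S : ShortComplex A, S.ShortExact → P S.X₁ → P S.X₂ → P S.X₃)
    (hP_epi : ∀ S : ShortComplex A, S.ShortExact → P S.X₁ → Epi (G.map S.g))
    (M : CochainComplex A ℤ) (m : ℤ) [M.IsStrictlyGE m] (hM : ∀ i, P (M.X i))
    (hex : ∀ i, M.ExactAt i) (i : ℤ) :
    ((G.mapHomologicalComplex (ComplexShape.up ℤ)).obj M).ExactAt i := by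
  have hsc : ∀ j : ℤ, (ShortComplex.mk (M.d j (j + 1)) (M.d (j + 1) (j + 1 + 1)) (M.d_comp_d _ _ _)).Exact := by
    intro j
    have := hex (j + 1)
    rw [HomologicalComplex.exactAt_iff' _ j (j + 1) (j + 1 + 1) (by simp) (by simp)] at this
    exact this
  have key : ∀ j : ℤ, m - 1 ≤ j → Nonempty (KerData P (M.d j (j + 1))) := by
    intro j hj
    induction j, hj using Int.leInduction with
    | base =>
      have hz : IsZero (M.X (m - 1)) := CochainComplex.isZero_of_isStrictlyGE M m _ (by omega)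
      exact ⟨⟨M.X (m - 1), 𝟙 _, hz.eq_of_src _ _, inferInstance,
        ShortComplex.exact_of_isZero_X₂ _ hz, hP0 _ hz⟩⟩
    | succ j hj ih =>
      obtain ⟨k⟩ := ih
      exact (step (G := G) hP_coker hP_epi (hM j) _ _ (M.d_comp_d _ _ _) (hsc j) k).1
  obtain ⟨j, rfl⟩ : ∃ j, i = j + 1 := ⟨i - 1, by omega⟩
  by_cases hi : m - 1 ≤ j
  · obtain ⟨k⟩ := key j hi
    have h2 := (step (G := G) hP_coker hP_epi (hM j) (M.d j (j + 1))
      (M.d (j + 1) (j + 1 + 1)) (M.d_comp_d _ _ _) (hsc j) k).2
    rw [HomologicalComplex.exactAt_iff' _ j (j + 1) (j + 1 + 1) (by simp) (by simp)]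
    exact h2
  · have hz : IsZero (((G.mapHomologicalComplex (ComplexShape.up ℤ)).obj M).X (j + 1)) :=
      G.map_isZero (CochainComplex.isZero_of_isStrictlyGE M m _ (by omega))
    rw [HomologicalComplex.exactAt_iff]
    exact ShortComplex.exact_of_isZero_X₂ _ hz

end

end Groth.Agent.SSAcyc

namespace Groth.Agent.SSAcyc

variable {A : Type u} [Category.{v} A] [Abelian A] {B : Type u'} [Category.{v'} B] [Abelian B]

/-- P5: a left exact functor `S` preserves quasi-isomorphisms between bounded-below complexes with terms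
in a class `P` adapted to `S`. -/
theorem quasiIso_map_of_adapted (S : A ⥤ B) [S.Additive] [PreservesFiniteLimits S]
    (P : A → Prop)
    (hP0 : ∀ Z : A, IsZero Z → P Z)
    (hPiso : ∀ X Y : A, (X ≅ Y) → P X → P Y)
    (hPsum : ∀ X Y : A, P X → P Y → P (X ⊞ Y))
    (hP_coker : ∀ T : ShortComplex A, T.ShortExact → P T.X₁ → P T.X₂ → P T.X₃)
    (hP_epi : ∀ T : ShortComplex A, T.ShortExact → P T.X₁ → Epi (S.map T.g))
    (K L : CochainComplex A ℤ) (f : K ⟶ L) (hf : QuasiIso f) (n : ℤ)
    [K.IsStrictlyGE n] [L.IsStrictlyGE n]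
    (hK : ∀ i, P (K.X i)) (hL : ∀ i, P (L.X i)) :
    QuasiIso ((S.mapHomologicalComplex (ComplexShape.up ℤ)).map f) := by
  rw [quasiIso_iff_exactAt_mappingCone] at hf ⊢
  have : (CochainComplex.mappingCone f).IsStrictlyGE (n - 1) :=
    CochainComplex.isStrictlyGE_mappingCone f n n (n - 1)
  have hM : ∀ i, P ((CochainComplex.mappingCone f).X i) := fun i =>
    hPiso _ _ (HomologicalComplex.homotopyCofiber.XIsoBiprod f i (i + 1) (by simp)).symm
      (hPsum _ _ (hK _) (hL _))
  intro i
  have h := exactAt_map_of_adapted (G := S) hP0 hP_coker hP_epi (CochainComplex.mappingCone f) (n - 1) hM hf i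
  exact h.of_iso (CochainComplex.mappingCone.mapHomologicalComplexIso f S)

end Groth.Agent.SSAcyc
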