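import Groth.Prelude.Def_SpSeq
import Mathlib

set_option autoImplicit false
universe v u
open CategoryTheory CategoryTheory.Limits CategoryTheory.Abelian ComposableArrows

namespace Groth.Agent.SSConv

variable {C : Type u} [Category.{v} C] [Abelian C]

section General

variable {A B D K : C} (u : A ⟶ B) (v : B ⟶ D) (k : K ⟶ B)

lemma image_comp_le : imageSubobject (u ≫ v) ≤ imageSubobject v := imageSubobject_comp_le u v

/-- the map `B → im v / im (u ≫ v)` -/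
noncomputable def toGr : B ⟶ cokernel ((imageSubobject (u ≫ v)).ofLE (imageSubobject v) (image_comp_le u v)) :=
  factorThruImageSubobject v ≫ cokernel.π _

instance : Epi (toGr u v) := by unfold toGr; infer_instance

lemma desc_toGr (hk : k ≫ v = 0) : biprod.desc u k ≫ toGr u v = 0 := by
  ext
  · simp only [biprod.inl_desc_assoc, comp_zero]
    unfold toGr
    have : u ≫ factorThruImageSubobject v =
        factorThruImageSubobject (u ≫ v) ≫ (imageSubobject (u ≫ v)).ofLE (imageSubobject v) (image_comp_le u v) := by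
      rw [← cancel_mono (imageSubobject v).arrow]
      simp
    rw [reassoc_of% this, cokernel.condition, comp_zero]
  · simp only [biprod.inr_desc_assoc, comp_zero]
    unfold toGr
    have : k ≫ factorThruImageSubobject v = 0 := by
      rw [← cancel_mono (imageSubobject v).arrow]
      simp [hk]
    rw [reassoc_of% this, zero_comp]

lemma exact_toGr (hk : k ≫ v = 0) (hkv : (ShortComplex.mk k v hk).Exact) :
    (ShortComplex.mk (biprod.desc u k) (toGr u v) (desc_toGr u v k hk)).Exact := by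
  rw [ShortComplex.exact_iff_exact_up_to_refinements]
  intro T x hx
  dsimp at x hx
  -- x ≫ factorThru v factors through ofLE
  have hex : (ShortComplex.mk ((imageSubobject (u ≫ v)).ofLE (imageSubobject v) (image_comp_le u v))
      (cokernel.π _) (cokernel.condition _)).Exact :=
    ShortComplex.exact_of_g_is_cokernel _ (cokernelIsCokernel _)
  obtain ⟨T₁, π₁, _, z, hz⟩ := hex.exact_up_to_refinements (x ≫ factorThruImageSubobject v)
    (by simpa [toGr] using hx)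
  dsimp at z hz
  obtain ⟨T₂, π₂, _, a, ha⟩ := surjective_up_to_refinements_of_epi (factorThruImageSubobject (u ≫ v)) z
  have h0 : (π₂ ≫ π₁ ≫ x - a ≫ u) ≫ v = 0 := by
    have h1 : π₁ ≫ x ≫ v = z ≫ (imageSubobject (u ≫ v)).arrow := by
      have := hz =≫ (imageSubobject v).arrow
      simpa using this
    have h2 : π₂ ≫ z ≫ (imageSubobject (u ≫ v)).arrow = a ≫ u ≫ v := by
      rw [reassoc_of% ha]; simp
    rw [Preadditive.sub_comp, Category.assoc, Category.assoc, Category.assoc, h1, h2, sub_self]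
  obtain ⟨T₃, π₃, _, c, hc⟩ := hkv.exact_up_to_refinements _ h0
  dsimp at c hc
  refine ⟨T₃, π₃ ≫ π₂ ≫ π₁, inferInstance, biprod.lift (π₃ ≫ a) c, ?_⟩
  dsimp
  rw [biprod.lift_desc, ← hc, Preadditive.comp_sub]
  simp

/-- the key iso -/
lemma nonempty_iso_gr (hk : k ≫ v = 0) (hkv : (ShortComplex.mk k v hk).Exact)
    {E : C} (π : B ⟶ E) [Epi π] (hπ : biprod.desc u k ≫ π = 0)
    (hex : (ShortComplex.mk (biprod.desc u k) π hπ).Exact)
    (S T : Subobject D) (hST : S ≤ T) (hS : S = imageSubobject (u ≫ v)) (hT : T = imageSubobject v) :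
    Nonempty (E ≅ cokernel (S.ofLE T hST)) := by
  subst hS hT
  have h1 := hex.gIsCokernel
  have h2 := (exact_toGr u v k hk hkv).gIsCokernel
  exact ⟨IsColimit.coconePointUniqueUpToIso h1 h2⟩

end General


section Transport

variable {X X' : C} (f : X ≅ X')

/-- move a subobject along an iso -/
noncomputable def mv (S : Subobject X) : Subobject X' := Subobject.mk (S.arrow ≫ f.hom)

lemma mv_mono {S T : Subobject X} (h : S ≤ T) : mv f S ≤ mv f T :=
  Subobject.mk_le_mk_of_comm (S.ofLE T h) (by simp)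

lemma mv_top : mv f (⊤ : Subobject X) = ⊤ := by
  unfold mv
  exact Subobject.mk_eq_top_of_isIso _

lemma mv_bot : mv f (⊥ : Subobject X) = ⊥ := by
  unfold mv
  rw [Subobject.mk_eq_bot_iff_zero, Subobject.bot_arrow, zero_comp]

noncomputable def mvCokerIso {S T : Subobject X} (h : S ≤ T) :
    cokernel (S.ofLE T h) ≅ cokernel ((mv f S).ofLE (mv f T) (mv_mono f h)) :=
  cokernel.mapIso _ _ (Subobject.underlyingIso (S.arrow ≫ f.hom)).symm
    (Subobject.underlyingIso (T.arrow ≫ f.hom)).symm (by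
      rw [← cancel_mono (mv f T).arrow]
      simp [mv])

end Transport

/-- P1b: transport of abutment data along isomorphisms of the abutment objects. -/
theorem abutment_transport {r₀ : ℤ} (E : CohomologicalSpectralSequence C r₀) {H H' : ℤ → C}
    (a : SpSeq.Abutment E H) (e : ∀ n, H n ≅ H' n) (hfin : ∀ n, a.IsFinite n) :
    ∃ a' : SpSeq.Abutment E H', ∀ n, a'.IsFinite n := by
  refine ⟨{ fil := fun n p => mv (e n) (a.fil n p)
            anti := fun n p q h => mv_mono (e n) (a.anti n h)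
            rk := a.rk
            stat := a.stat
            β := fun pq => a.β pq ≪≫ mvCokerIso (e (pq.1 + pq.2)) _ }, ?_⟩
  intro n
  obtain ⟨⟨p, hp⟩, ⟨q, hq⟩⟩ := hfin n
  refine ⟨⟨p, ?_⟩, ⟨q, ?_⟩⟩
  · show mv (e n) (a.fil n p) = ⊤
    have : a.fil n p = ⊤ := hp
    rw [this, mv_top]
  · show mv (e n) (a.fil n q) = ⊥
    have : a.fil n q = ⊥ := hq
    rw [this, mv_bot]


lemma imageSubobject_eq_bot_of_isZero {X Y : C} (f : X ⟶ Y) (h : IsZero X) : imageSubobject f = ⊥ := by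
  obtain rfl : f = 0 := h.eq_of_src _ _
  exact imageSubobject_zero

section SpecObj

variable (Y : SpectralObject C EInt)

/-- abutment object -/
noncomputable abbrev Hn (n : ℤ) : C := (Y.H n).obj (mk₁ (homOfLE (bot_le : (⊥ : EInt) ≤ ⊤)))

/-- image of `H^n(⊥ ≤ j) → H^n(⊥ ≤ ⊤)` -/
noncomputable def F (n j : ℤ) : Subobject (Hn Y n) :=
  imageSubobject ((Y.H n).map (twoδ₂Toδ₁' (⊥ : EInt) (j : EInt) ⊤ bot_le le_top))

lemma F_mono (n : ℤ) {j j' : ℤ} (h : j ≤ j') : F Y n j ≤ F Y n j' := by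
  unfold F
  refine SpSeq.FilCx.imageSubobject_le_of_fac
    ((Y.H n).map (twoδ₂Toδ₁' (⊥ : EInt) (j : EInt) (j' : EInt) bot_le (WithBotTop.coe_le_coe.2 h))) ?_
  rw [← Functor.map_comp]
  congr 1

noncomputable def fil (n p : ℤ) : Subobject (Hn Y n) := F Y n (n - p + 1)

lemma fil_anti (n : ℤ) : Antitone (fil Y n) := fun p p' h => F_mono Y n (by omega)

noncomputable def rk (pq : ℤ × ℤ) : ℤ := max (max (pq.1 + 1) (pq.2 + 2)) 2

variable [Y.IsFirstQuadrant]

lemma fil_top (n : ℤ) : fil Y n 0 = ⊤ := by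
  unfold fil F
  have hz : IsZero ((Y.H n).obj (mk₁ (homOfLE (le_top : ((n - 0 + 1 : ℤ) : EInt) ≤ ⊤)))) :=
    Y.isZero₂_of_isFirstQuadrant _ _ _ _ (WithBotTop.coe_lt_coe.2 (by omega))
  have : Epi ((Y.H n).map (twoδ₂Toδ₁' (⊥ : EInt) ((n - 0 + 1 : ℤ) : EInt) ⊤ bot_le le_top)) :=
    (Y.exact₂ (homOfLE bot_le) (homOfLE le_top) _ rfl n).epi_f (hz.eq_of_tgt _ _)
  have h1 : Epi (imageSubobject ((Y.H n).map (twoδ₂Toδ₁' (⊥ : EInt) ((n - 0 + 1 : ℤ) : EInt) ⊤ bot_le le_top))).arrow :=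
    epi_of_epi_fac (imageSubobject_arrow_comp _)
  have : IsIso (imageSubobject ((Y.H n).map (twoδ₂Toδ₁' (⊥ : EInt) ((n - 0 + 1 : ℤ) : EInt) ⊤ bot_le le_top))).arrow :=
    isIso_of_mono_of_epi _
  exact Subobject.eq_top_of_isIso_arrow _

lemma fil_bot (n : ℤ) : fil Y n (n + 1) = ⊥ := by
  unfold fil F
  have hz : IsZero ((Y.H n).obj (mk₁ (homOfLE (bot_le : (⊥ : EInt) ≤ ((n - (n + 1) + 1 : ℤ) : EInt))))) :=
    Y.isZero₁_of_isFirstQuadrant _ _ _ (WithBotTop.coe_le_coe.2 (by omega)) _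
  exact imageSubobject_eq_bot_of_isZero _ hz

local notation "E₂" => Y.spectralSequence SpectralObject.coreE₂Cohomological

lemma isZero_page_of_lt (r : ℤ) (hr : 2 ≤ r) (p q : ℤ) (hp : p < 0) :
    IsZero (((E₂).page r hr).X (p, q)) :=
  SpectralObject.isZero_spectralSequence_page_X_of_isZero_H' _ _ _ hr _
    (Y.isZero₂_of_isFirstQuadrant _ _ _ _ (by simp; lia))

lemma isZero_page_of_lt' (r : ℤ) (hr : 2 ≤ r) (p q : ℤ) (hq : q < 0) :
    IsZero (((E₂).page r hr).X (p, q)) :=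
  SpectralObject.isZero_spectralSequence_page_X_of_isZero_H' _ _ _ hr _
    (Y.isZero₁_of_isFirstQuadrant _ _ _ (by simp; lia) _)

lemma stat (pq : ℤ × ℤ) : SpSeq.StationaryAt (E₂) pq (rk pq) := by
  refine ⟨by unfold rk; omega, fun r' h₀ hr' => ⟨?_, ?_⟩⟩
  · apply IsZero.eq_of_src
    obtain ⟨p, q⟩ := pq
    have : (p, q) - (r', 1 - r') = (p - r', q - (1 - r')) := rfl
    rw [this]
    apply isZero_page_of_lt
    unfold rk at hr'
    simp at hr'
    omega
  · apply IsZero.eq_of_tgt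
    obtain ⟨p, q⟩ := pq
    have : (p, q) + (r', 1 - r') = (p + r', q + (1 - r')) := rfl
    rw [this]
    apply isZero_page_of_lt'
    unfold rk at hr'
    simp at hr'
    omega

lemma isBounded : SpSeq.IsBounded (E₂) := by
  intro n
  apply Set.Finite.subset (Set.finite_Icc (0 : ℤ) n)
  intro p hp
  simp only [Set.mem_setOf_eq] at hp
  by_contra hcon
  simp only [Set.mem_Icc, not_and_or, not_le] at hcon
  rcases hcon with h | h
  · exact hp (isZero_page_of_lt Y 2 le_rfl p (n - p) h)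
  · exact hp (isZero_page_of_lt' Y 2 le_rfl p (n - p) (by omega))

lemma e2Iso (p q : ℤ) : Nonempty (((E₂).page 2 le_rfl).X (p, q) ≅
    (Y.H (p + q)).obj (mk₁ (homOfLE (show ((q : ℤ) : EInt) ≤ ((q + 1 : ℤ) : EInt) by
          exact WithBotTop.coe_le_coe.2 (by omega))))) :=
  ⟨Y.spectralSequenceFirstPageXIso SpectralObject.coreE₂Cohomological (p, q) _ _ rfl rfl (p + q) rfl⟩

lemma grIso (n q : ℤ) (S T : Subobject (Hn Y n)) (hST : S ≤ T) (hS : S = F Y n q)
    (hT : T = F Y n (q + 1)) :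
    Nonempty (Y.E (homOfLE (bot_le : (⊥ : EInt) ≤ ((q : ℤ) : EInt)))
      (homOfLE (show ((q : ℤ) : EInt) ≤ ((q + 1 : ℤ) : EInt) from WithBotTop.coe_le_coe.2 (by omega)))
      (homOfLE (le_top : ((q + 1 : ℤ) : EInt) ≤ ⊤)) (n - 1) n (n + 1) ≅ cokernel (S.ofLE T hST)) := by
  let f₁ : (⊥ : EInt) ⟶ ((q : ℤ) : EInt) := homOfLE bot_le
  let f₂ : ((q : ℤ) : EInt) ⟶ ((q + 1 : ℤ) : EInt) := homOfLE (WithBotTop.coe_le_coe.2 (by omega))
  let f₃ : ((q + 1 : ℤ) : EInt) ⟶ (⊤ : EInt) := homOfLE le_top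
  let f₁₂ : (⊥ : EInt) ⟶ ((q + 1 : ℤ) : EInt) := homOfLE bot_le
  have h₁₂ : f₁ ≫ f₂ = f₁₂ := rfl
  have hex := Y.cokernelSequenceE_exact f₁ f₂ f₃ f₁₂ h₁₂ (n - 1) n (n + 1)
  have hepi : Epi (Y.cokernelSequenceE f₁ f₂ f₃ f₁₂ h₁₂ (n - 1) n (n + 1)).g := inferInstance
  have hkv := Y.exact₁ f₁₂ f₃ (homOfLE bot_le) rfl (n - 1) n
  refine @nonempty_iso_gr _ _ _ _ _ _ _ ((Y.H n).map (twoδ₂Toδ₁ f₁ f₂ f₁₂ h₁₂))
    ((Y.H n).map (twoδ₂Toδ₁ f₁₂ f₃ (homOfLE bot_le) rfl)) (Y.δ f₁₂ f₃ (n - 1) n)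
    (Y.zero₁ f₁₂ f₃ _ rfl (n - 1) n) hkv _
    (Y.cokernelSequenceE f₁ f₂ f₃ f₁₂ h₁₂ (n - 1) n (n + 1)).g hepi
    (Y.cokernelSequenceE f₁ f₂ f₃ f₁₂ h₁₂ (n - 1) n (n + 1)).zero hex S T hST ?_ ?_
  · rw [hS]
    unfold F
    rw [← Functor.map_comp]
    congr 1
  · rw [hT]
    try rfl

lemma beta' (p q r : ℤ) (hr : 2 ≤ r) (hr1 : p + 1 ≤ r) (hr2 : q + 2 ≤ r) :
    Nonempty (((E₂).page r hr).X (p, q) ≅
      SpSeq.grPiece (fil Y (p + q)) (fil_anti Y (p + q)) p) := by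
  let e1 := Y.spectralSequencePageXIso SpectralObject.coreE₂Cohomological r hr (p, q)
    ((q - r + 2 : ℤ) : EInt) ((q : ℤ) : EInt) ((q + 1 : ℤ) : EInt) ((q + r - 1 : ℤ) : EInt)
    rfl rfl rfl rfl (p + q - 1) (p + q) (p + q + 1) rfl
  have hz2 : IsZero ((Y.H (p + q + 1)).obj (mk₁ (homOfLE (bot_le : (⊥ : EInt) ≤ ((q - r + 2 : ℤ) : EInt))))) :=
    Y.isZero₁_of_isFirstQuadrant _ _ _ (WithBotTop.coe_le_coe.2 (by omega)) _
  let e2 := Y.isoMapFourδ₁Toδ₀' (⊥ : EInt) ((q - r + 2 : ℤ) : EInt) ((q : ℤ) : EInt) ((q + 1 : ℤ) : EInt)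
    ((q + r - 1 : ℤ) : EInt) bot_le (WithBotTop.coe_le_coe.2 (by omega)) (WithBotTop.coe_le_coe.2 (by omega))
    (WithBotTop.coe_le_coe.2 (by omega)) (p + q - 1) (p + q) (p + q + 1) hz2
  have hz3 : IsZero ((Y.H (p + q - 1)).obj (mk₁ (homOfLE (le_top : ((q + r - 1 : ℤ) : EInt) ≤ ⊤)))) :=
    Y.isZero₂_of_isFirstQuadrant _ _ _ _ (WithBotTop.coe_lt_coe.2 (by omega))
  let e3 := Y.isoMapFourδ₄Toδ₃' (⊥ : EInt) ((q : ℤ) : EInt) ((q + 1 : ℤ) : EInt)
    ((q + r - 1 : ℤ) : EInt) ⊤ bot_le (WithBotTop.coe_le_coe.2 (by omega))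
    (WithBotTop.coe_le_coe.2 (by omega)) le_top (p + q - 1) (p + q) (p + q + 1) hz3
  obtain ⟨e4⟩ := grIso Y (p + q) q (fil Y (p + q) (p + 1)) (fil Y (p + q) p)
    (fil_anti Y (p + q) (Int.le_add_one le_rfl)) (congrArg (F Y (p + q)) (by ring))
    (congrArg (F Y (p + q)) (by ring))
  exact ⟨e1 ≪≫ e2.symm ≪≫ e3 ≪≫ e4⟩

lemma beta (pq : ℤ × ℤ) : Nonempty (((E₂).page (rk pq) (stat Y pq).1).X pq ≅
    SpSeq.grPiece (fil Y (pq.1 + pq.2)) (fil_anti Y (pq.1 + pq.2)) pq.1) :=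
  beta' Y pq.1 pq.2 (rk pq) (stat Y pq).1 (by unfold rk; simp) (by unfold rk; simp)

end SpecObj


/-- P1a: convergence of the E₂ spectral sequence of a first-quadrant spectral object. -/
theorem exists_abutment (Y : SpectralObject C EInt) [Y.IsFirstQuadrant] :
    ∃ (a : SpSeq.Abutment (Y.spectralSequence SpectralObject.coreE₂Cohomological)
        (fun n : ℤ => (Y.H n).obj (mk₁ (homOfLE (bot_le : (⊥ : EInt) ≤ ⊤))))),
      (∀ n, a.IsFinite n) ∧ SpSeq.IsBounded (Y.spectralSequence SpectralObject.coreE₂Cohomological) ∧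
      ∀ p q : ℤ, Nonempty (((Y.spectralSequence SpectralObject.coreE₂Cohomological).page 2 le_rfl).X (p, q) ≅
        (Y.H (p + q)).obj (mk₁ (homOfLE (show ((q : ℤ) : EInt) ≤ ((q + 1 : ℤ) : EInt) by
          exact WithBotTop.coe_le_coe.2 (by omega))))) := by
  refine ⟨{ fil := fil Y
            anti := fil_anti Y
            rk := rk
            stat := stat Y
            β := fun pq => (beta Y pq).some }, ?_, isBounded Y, e2Iso Y⟩
  intro n
  exact ⟨⟨0, fil_top Y n⟩, ⟨n + 1, fil_bot Y n⟩⟩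

end Groth.Agent.SSConv
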