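import Groth.Agent.Lib.CechCartan
import Groth.Agent.Lib.InjResMap
import Groth.Agent.Lib.ExtRes
import Groth.Agent.Lib.Acyclic
import Groth.Agent.Lib.AcyclicCx
set_option autoImplicit false
universe u
open CategoryTheory Limits Opposite Abelian

namespace Groth.Agent.PshExt

open Groth.Agent.CohSiteBasics

variable {C : Type u} [SmallCategory C] (J : GrothendieckTopology C)

/-- the forgetful functor from `J`-sheaves to presheaves, the latter viewed as `⊥`-sheaves. -/
noncomputable def Ψ : Sheaf J AddCommGrpCat.{u} ⥤ Sheaf (⊥ : GrothendieckTopology C) AddCommGrpCat.{u} :=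
  sheafToPresheaf J AddCommGrpCat.{u} ⋙ (sheafBotEquivalence AddCommGrpCat.{u}).inverse

lemma Ψ_obj (F : Sheaf J AddCommGrpCat.{u}) : (Ψ J).obj F = ⟨F.obj, Presheaf.isSheaf_bot _⟩ := rfl

/-- the left adjoint: sheafification. -/
noncomputable def Λ : Sheaf (⊥ : GrothendieckTopology C) AddCommGrpCat.{u} ⥤ Sheaf J AddCommGrpCat.{u} :=
  (sheafBotEquivalence AddCommGrpCat.{u}).functor ⋙ presheafToSheaf J AddCommGrpCat.{u}

noncomputable def adj : Λ J ⊣ Ψ J :=
  (sheafBotEquivalence AddCommGrpCat.{u}).toAdjunction.comp (sheafificationAdjunction J AddCommGrpCat.{u})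

instance : (Ψ J).Additive where
  map_add := rfl

instance : PreservesFiniteLimits (Ψ J) := by
  dsimp only [Ψ]
  infer_instance

instance : (Λ J).PreservesMonomorphisms := by
  dsimp only [Λ]
  infer_instance

instance Ψ_injective (I : Sheaf J AddCommGrpCat.{u}) [Injective I] : Injective ((Ψ J).obj I) :=
  Injective.injective_of_adjoint (adj J) I


lemma epi_bot_of_surjective {G G' : Sheaf (⊥ : GrothendieckTopology C) AddCommGrpCat.{u}} (φ : G ⟶ G')
    (h : ∀ V : C, Function.Surjective (φ.hom.app (op V)).hom) : Epi φ := by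
  have h1 : ∀ V : Cᵒᵖ, Epi (φ.hom.app V) := by
    intro V
    rw [AddCommGrpCat.epi_iff_surjective]
    exact h V.unop
  have h2 : Epi ((sheafBotEquivalence AddCommGrpCat.{u}).functor.map φ) :=
    NatTrans.epi_of_epi_app (α := φ.hom)
  exact (sheafBotEquivalence AddCommGrpCat.{u}).functor.epi_of_epi_map h2

/-- `C`-acyclic sheaves. -/
def CAcyclic (F : Sheaf J AddCommGrpCat.{u}) : Prop :=
  ∀ (U : C) (q : ℕ), Subsingleton (Ext (freeSheaf J U) F (q + 1))

variable {J}

lemma isZero_rightDerived_Ψ (F : Sheaf J AddCommGrpCat.{u}) (hF : CAcyclic J F) (n : ℕ) :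
    IsZero (((Ψ J).rightDerived (n + 1)).obj F) := by
  refine Groth.Agent.Acyclic.isZero_rightDerived_succ (G := Ψ J) (P := CAcyclic J) ?_ ?_ ?_ F hF n
  · intro I _ U q
    exact subsingleton_of_forall_eq 0 (fun x => Ext.eq_zero_of_injective x)
  · intro S hS h1 h2 U q
    refine subsingleton_of_forall_eq 0 (fun x => ?_)
    exact Groth.Agent.AcyclicCx.isAcyclic_X₃ (B := freeSheaf J U) hS
      (fun m x => Subsingleton.elim (h := h1 U m) _ _)
      (fun m x => Subsingleton.elim (h := h2 U m) _ _) q x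
  · intro S hS h1
    apply epi_bot_of_surjective
    intro V
    exact Groth.Agent.Cech.surjective_of_H1_subsingleton S hS V (h1 V 0)


section Hom

variable {X : C} (R : Sieve X)

/-- the free abelian presheaf on a presheaf of sets, as a `⊥`-sheaf. -/
noncomputable abbrev freeBot (T : Cᵒᵖ ⥤ Type u) : Sheaf (⊥ : GrothendieckTopology C) AddCommGrpCat.{u} :=
  (presheafToSheaf (⊥ : GrothendieckTopology C) AddCommGrpCat.{u}).obj (T ⋙ AddCommGrpCat.free)

/-- the inclusion of the sieve, on free presheaves. -/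
noncomputable def κ : R.functor ⋙ AddCommGrpCat.free.{u} ⟶ yoneda.obj X ⋙ AddCommGrpCat.free.{u} :=
  Functor.whiskerRight R.functorInclusion AddCommGrpCat.free.{u}

/-- restriction of sections over `X` to the sieve, in terms of morphisms out of free objects. -/
noncomputable def eHom (G : Sheaf J AddCommGrpCat.{u}) :
    (freeSheaf J X ⟶ G) →+ (freeBot R.functor ⟶ (Ψ J).obj G) :=
  (((sheafificationAdjunction (⊥ : GrothendieckTopology C) AddCommGrpCat.{u}).homAddEquiv
      (R.functor ⋙ AddCommGrpCat.free.{u}) ((Ψ J).obj G)).symm.toAddMonoidHom).comp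
    ((Preadditive.leftComp G.obj (κ R)).comp
      ((sheafificationAdjunction J AddCommGrpCat.{u}).homAddEquiv
        (yoneda.obj X ⋙ AddCommGrpCat.free.{u}) G).toAddMonoidHom)

lemma eHom_apply (G : Sheaf J AddCommGrpCat.{u}) (a : freeSheaf J X ⟶ G) :
    eHom R G a = ((sheafificationAdjunction (⊥ : GrothendieckTopology C) AddCommGrpCat.{u}).homEquiv
      (R.functor ⋙ AddCommGrpCat.free.{u}) ((Ψ J).obj G)).symm
        (κ R ≫ (sheafificationAdjunction J AddCommGrpCat.{u}).homEquiv _ _ a) := rfl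

lemma eHom_comp {G G' : Sheaf J AddCommGrpCat.{u}} (a : freeSheaf J X ⟶ G) (φ : G ⟶ G') :
    eHom R G' (a ≫ φ) = eHom R G a ≫ (Ψ J).map φ := by
  rw [eHom_apply, eHom_apply, Adjunction.homEquiv_naturality_right]
  have := Adjunction.homEquiv_naturality_right_symm
    (sheafificationAdjunction (⊥ : GrothendieckTopology C) AddCommGrpCat.{u})
    (X := R.functor ⋙ AddCommGrpCat.free.{u}) (Y := (Ψ J).obj G) (Y' := (Ψ J).obj G')
    (κ R ≫ (sheafificationAdjunction J AddCommGrpCat.{u}).homEquiv _ _ a) ((Ψ J).map φ)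
  refine Eq.trans ?_ this
  congr 1


lemma eHom_bijective (hR : R ∈ J X) (G : Sheaf J AddCommGrpCat.{u}) :
    Function.Bijective (eHom R G) := by
  have h1 : Presieve.IsSheaf J (G.obj ⋙ forget AddCommGrpCat.{u}) :=
    (isSheaf_iff_isSheaf_of_type _ _).mp
      ((Presheaf.isSheaf_iff_isSheaf_forget J G.obj (forget AddCommGrpCat.{u})).mp G.property)
  have h2 := Presieve.isSheafFor_iff_yonedaSheafCondition.mp (h1 R hR)
  have h3 : Function.Bijective
      (fun g : yoneda.obj X ⟶ G.obj ⋙ forget AddCommGrpCat.{u} => R.functorInclusion ≫ g) := by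
    rw [Function.bijective_iff_existsUnique]
    exact h2
  let W := Adjunction.whiskerRight Cᵒᵖ AddCommGrpCat.adj.{u}
  have h4 : Function.Bijective (fun x : yoneda.obj X ⋙ AddCommGrpCat.free.{u} ⟶ G.obj => κ R ≫ x) := by
    have : (fun x : yoneda.obj X ⋙ AddCommGrpCat.free.{u} ⟶ G.obj => κ R ≫ x) =
        (W.homEquiv R.functor G.obj).symm ∘
          (fun g : yoneda.obj X ⟶ G.obj ⋙ forget AddCommGrpCat.{u} => R.functorInclusion ≫ g) ∘
          (W.homEquiv (yoneda.obj X) G.obj) := by
      funext x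
      apply (W.homEquiv R.functor G.obj).injective
      simp only [Function.comp_apply, Equiv.apply_symm_apply]
      exact W.homEquiv_naturality_left R.functorInclusion x
    rw [this]
    exact (Equiv.bijective _).comp (h3.comp (Equiv.bijective _))
  have : (eHom R G : (freeSheaf J X ⟶ G) → (freeBot R.functor ⟶ (Ψ J).obj G)) =
      ((sheafificationAdjunction (⊥ : GrothendieckTopology C) AddCommGrpCat.{u}).homEquiv
        (R.functor ⋙ AddCommGrpCat.free.{u}) ((Ψ J).obj G)).symm ∘
      (fun x : yoneda.obj X ⋙ AddCommGrpCat.free.{u} ⟶ G.obj => κ R ≫ x) ∘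
      ((sheafificationAdjunction J AddCommGrpCat.{u}).homEquiv
        (yoneda.obj X ⋙ AddCommGrpCat.free.{u}) G) := by
    funext a
    rfl
  rw [this]
  exact (Equiv.bijective _).comp (h4.comp (Equiv.bijective _))


/-- for a `C`-acyclic sheaf, `Ext` out of the free presheaf on a covering sieve (computed in
presheaves) agrees with cohomology over the object. -/
theorem nonempty_ext_sieve_equiv (hR : R ∈ J X) (F : Sheaf J AddCommGrpCat.{u}) (hF : CAcyclic J F)
    (n : ℕ) :
    Nonempty (Ext (freeSheaf J X) F n ≃+ Ext (freeBot R.functor) ((Ψ J).obj F) n) := by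
  let R₀ := InjectiveResolution.of F
  let R' : InjectiveResolution ((Ψ J).obj F) :=
    Groth.Agent.InjResMap.mapOfAcyclic (Ψ J) R₀ (fun n => inferInstance) (isZero_rightDerived_Ψ F hF)
  exact Groth.Agent.ExtRes.nonempty_extAddEquiv R₀ R'
    (fun n => AddEquiv.ofBijective (eHom R (R₀.cocomplex.X n)) (eHom_bijective R hR _))
    (fun n g => eHom_comp R g (R₀.cocomplex.d n (n + 1))) n

end Hom

end Groth.Agent.PshExt
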