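import Groth.Agent.Lib.CohSiteBasics
import Groth.Agent.Lib.AcyclicCx

set_option autoImplicit false
universe u
open CategoryTheory Opposite Limits Abelian

namespace Groth.Agent.CohSiteBasics

variable {C : Type u} [SmallCategory C] {J : GrothendieckTopology C}

lemma secEquiv_add (U : C) (F : Sheaf J AddCommGrpCat.{u}) (a b : freeSheaf J U ⟶ F) :
    secEquiv U F (a + b) = secEquiv U F a + secEquiv U F b := by
  have h : a + b = biprod.lift a b ≫ (biprod.fst + biprod.snd) := by
    rw [Preadditive.comp_add, biprod.lift_fst, biprod.lift_snd]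
  rw [h, secEquiv_comp]
  have h2 : ((biprod.fst + biprod.snd : F ⊞ F ⟶ F)).hom.app (op U) =
      (biprod.fst : F ⊞ F ⟶ F).hom.app (op U) + (biprod.snd : F ⊞ F ⟶ F).hom.app (op U) := rfl
  rw [h2]
  show (biprod.fst : F ⊞ F ⟶ F).hom.app (op U) _ + (biprod.snd : F ⊞ F ⟶ F).hom.app (op U) _ = _
  rw [← secEquiv_comp, ← secEquiv_comp, biprod.lift_fst, biprod.lift_snd]

/-- additive version of `secEquiv`. -/
noncomputable def secAddEquiv (U : C) (F : Sheaf J AddCommGrpCat.{u}) :
    (freeSheaf J U ⟶ F) ≃+ F.obj.obj (op U) :=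
  { secEquiv U F with map_add' := secEquiv_add U F }

@[simp] lemma secAddEquiv_apply (U : C) (F : Sheaf J AddCommGrpCat.{u}) (a : freeSheaf J U ⟶ F) :
    secAddEquiv U F a = secEquiv U F a := rfl

section Push

variable {D : Type u} [SmallCategory D] (J) (K : GrothendieckTopology D) (u : D ⥤ C)
  [u.IsContinuous K J]

/-- `Hom(ℤ[uV], G) ≃+ Hom(ℤ[V], f_* G)`. -/
noncomputable def eV (V : D) (G : Sheaf J AddCommGrpCat.{u}) :
    (freeSheaf J (u.obj V) ⟶ G) ≃+ (freeSheaf K V ⟶ (CohSite.push J K u).obj G) :=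
  (secAddEquiv (u.obj V) G).trans (secAddEquiv V ((CohSite.push J K u).obj G)).symm

lemma secEquiv_eV (V : D) (G : Sheaf J AddCommGrpCat.{u}) (a : freeSheaf J (u.obj V) ⟶ G) :
    secEquiv V ((CohSite.push J K u).obj G) (eV J K u V G a) = secEquiv (u.obj V) G a := by
  simp only [eV, AddEquiv.trans_apply]
  exact (secAddEquiv V ((CohSite.push J K u).obj G)).apply_symm_apply _

lemma eV_comp (V : D) {G G' : Sheaf J AddCommGrpCat.{u}} (a : freeSheaf J (u.obj V) ⟶ G)
    (φ : G ⟶ G') : eV J K u V G' (a ≫ φ) = eV J K u V G a ≫ (CohSite.push J K u).map φ := by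
  apply (secEquiv V _).injective
  rw [secEquiv_eV, secEquiv_comp, secEquiv_comp, secEquiv_eV]
  rfl

lemma eV_freeMap {V V' : D} (g : V' ⟶ V) {G : Sheaf J AddCommGrpCat.{u}}
    (a : freeSheaf J (u.obj V) ⟶ G) :
    eV J K u V' G (freeMap J (u.map g) ≫ a) = freeMap K g ≫ eV J K u V G a := by
  apply (secEquiv V' _).injective
  rw [secEquiv_eV, secEquiv_freeMap, secEquiv_freeMap, secEquiv_eV]
  rfl

end Push

end Groth.Agent.CohSiteBasics

namespace Groth.Agent.RpushSheafify

open Groth.Agent.CohSiteBasics Groth.Agent.AcyclicCx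

variable {C D : Type u} [SmallCategory C] [SmallCategory D] (J : GrothendieckTopology C)
  (K : GrothendieckTopology D) (u : D ⥤ C) [u.IsContinuous K J]
  {F : Sheaf J AddCommGrpCat.{u}} (R : InjectiveResolution F)

/-- the complex `f_* R•`. -/
noncomputable abbrev Kx : CochainComplex (Sheaf K AddCommGrpCat.{u}) ℕ :=
  ((CohSite.push J K u).mapHomologicalComplex _).obj R.cocomplex

/-- the `(q+1)`-st cohomology sheaf of `f_* R•`. -/
noncomputable abbrev coker (q : ℕ) : Sheaf K AddCommGrpCat.{u} := cokernel (toW (Kx J K u R) q)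

lemma he (V : D) (n : ℕ) (g : freeSheaf J (u.obj V) ⟶ R.cocomplex.X n) :
    eV J K u V _ (g ≫ R.cocomplex.d n (n + 1)) = eV J K u V _ g ≫ (Kx J K u R).d n (n + 1) :=
  eV_comp J K u V g _

/-- cocycles over `uV` to sections over `V` of the cohomology sheaf. -/
noncomputable def αZ (q : ℕ) (V : D) :
    Groth.Agent.ExtRes.Z R (freeSheaf J (u.obj V)) (q + 1) →+ (coker J K u R q).obj.obj (op V) :=
  (secAddEquiv V (coker J K u R q)).toAddMonoidHom.comp
    ((toH (freeSheaf K V) (Kx J K u R) q).comp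
      (mapZ R (Kx J K u R) (fun n => eV J K u V (R.cocomplex.X n)) (he J K u R V) (q + 1)))

lemma αZ_apply (q : ℕ) (V : D) (s : Groth.Agent.ExtRes.Z R (freeSheaf J (u.obj V)) (q + 1)) :
    αZ J K u R q V s = secEquiv V _ (toH (freeSheaf K V) (Kx J K u R) q
      (mapZ R (Kx J K u R) (fun n => eV J K u V (R.cocomplex.X n)) (he J K u R V) (q + 1) s)) :=
  rfl

lemma ker_le (q : ℕ) (V : D) :
    (Groth.Agent.ExtRes.mk R (X := freeSheaf J (u.obj V)) (q + 1)).ker ≤ (αZ J K u R q V).ker := by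
  intro s hs
  rw [AddMonoidHom.mem_ker] at hs ⊢
  rw [Groth.Agent.ExtRes.mk_eq_zero_iff_succ] at hs
  obtain ⟨g, hg⟩ := hs
  rw [αZ_apply, toH_of_coboundary]
  · exact (secAddEquiv V _).map_zero
  · exact ⟨eV J K u V _ g, (he J K u R V q g).symm.trans (congrArg (eV J K u V _) hg)⟩

/-- the component of the comparison map. -/
noncomputable def αV (q : ℕ) (V : D) :
    Ext (freeSheaf J (u.obj V)) F (q + 1) →+ (coker J K u R q).obj.obj (op V) :=
  (QuotientAddGroup.lift _ (αZ J K u R q V) (ker_le J K u R q V)).comp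
    (QuotientAddGroup.quotientKerEquivOfSurjective _
      (Groth.Agent.ExtRes.mk_surjective R (X := freeSheaf J (u.obj V)) (q + 1))).symm.toAddMonoidHom

lemma αV_mk (q : ℕ) (V : D) (s : Groth.Agent.ExtRes.Z R (freeSheaf J (u.obj V)) (q + 1)) :
    αV J K u R q V (Groth.Agent.ExtRes.mk R (q + 1) s) = αZ J K u R q V s := by
  have : (QuotientAddGroup.quotientKerEquivOfSurjective _
      (Groth.Agent.ExtRes.mk_surjective R (X := freeSheaf J (u.obj V)) (q + 1))).symm
      (Groth.Agent.ExtRes.mk R (q + 1) s) = (s : _ ⧸ _) := by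
    rw [AddEquiv.symm_apply_eq]
    rfl
  simp only [αV, AddMonoidHom.comp_apply, AddEquiv.coe_toAddMonoidHom]
  rw [this]
  rfl


lemma mk₀_comp_mk (n : ℕ) {A A' : Sheaf J AddCommGrpCat.{u}} (h : A' ⟶ A)
    (s : Groth.Agent.ExtRes.Z R A n) :
    (Ext.mk₀ h).comp (Groth.Agent.ExtRes.mk R n s) (zero_add _) =
      Groth.Agent.ExtRes.mk R n ⟨h ≫ s.1, by
        rw [Groth.Agent.ExtRes.mem_Z, Category.assoc, (Groth.Agent.ExtRes.mem_Z R n s.1).mp s.2,
          comp_zero]⟩ :=
  R.mk₀_comp_extMk s.1 (n + 1) rfl s.2 h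

lemma αV_res (q : ℕ) {V V' : D} (g : V' ⟶ V) (x : Ext (freeSheaf J (u.obj V)) F (q + 1)) :
    αV J K u R q V' ((Ext.mk₀ (freeMap J (u.map g))).comp x (zero_add _)) =
      (coker J K u R q).obj.map g.op (αV J K u R q V x) := by
  obtain ⟨s, rfl⟩ := Groth.Agent.ExtRes.mk_surjective R (q + 1) x
  rw [mk₀_comp_mk, αV_mk, αV_mk, αZ_apply, αZ_apply, ← secEquiv_freeMap, ← toH_precomp]
  congr 2
  apply Subtype.ext
  exact eV_freeMap J K u g s.1

/-- the comparison map from `V ↦ H^{q+1}(uV, F)` to the cohomology sheaf of `f_* R•`. -/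
noncomputable def α (q : ℕ) :
    u.op ⋙ F.cohomologyPresheaf (q + 1) ⟶ (coker J K u R q).obj where
  app V := AddCommGrpCat.ofHom (αV J K u R q V.unop)
  naturality V V' g := by
    ext x
    exact αV_res J K u R q g.unop x


/-- lifting a section along an epimorphism, locally, in terms of maps out of free sheaves. -/
lemma exists_local_lift {M M' : Sheaf K AddCommGrpCat.{u}} (φ : M ⟶ M') [Epi φ] (V : D)
    (b : freeSheaf K V ⟶ M') :
    ∃ T : Sieve V, T ∈ K V ∧ ∀ {V' : D} (g : V' ⟶ V), T g →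
      ∃ t : freeSheaf K V' ⟶ M, t ≫ φ = freeMap K g ≫ b := by
  refine ⟨_, imageSieve_mem_of_epi φ V (secEquiv V _ b), ?_⟩
  intro V' g hg
  obtain ⟨t, ht⟩ := hg
  refine ⟨(secEquiv V' _).symm t, ?_⟩
  apply (secEquiv V' _).injective
  rw [secEquiv_comp, Equiv.apply_symm_apply, secEquiv_freeMap]
  exact ht

lemma αV_eq_zero_locally (q : ℕ) (V : D) (x : Ext (freeSheaf J (u.obj V)) F (q + 1))
    (hx : αV J K u R q V x = 0) :
    ∃ T : Sieve V, T ∈ K V ∧ ∀ {V' : D} (g : V' ⟶ V), T g →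
      (Ext.mk₀ (freeMap J (u.map g))).comp x (zero_add _) = 0 := by
  obtain ⟨s, rfl⟩ := Groth.Agent.ExtRes.mk_surjective R (q + 1) x
  rw [αV_mk, αZ_apply] at hx
  have hx' : toH (freeSheaf K V) (Kx J K u R) q
      (mapZ R (Kx J K u R) (fun n => eV J K u V (R.cocomplex.X n)) (he J K u R V) (q + 1) s) = 0 := by
    apply (secAddEquiv V _).injective
    rw [map_zero]
    exact hx
  obtain ⟨χ, hχ⟩ := exists_of_toH_eq_zero q _ hx'
  obtain ⟨T, hT, hlift⟩ := exists_local_lift K (Abelian.factorThruImage (toW (Kx J K u R) q)) V χ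
  refine ⟨T, hT, fun {V'} g hg => ?_⟩
  obtain ⟨t, ht⟩ := hlift g hg
  rw [mk₀_comp_mk, Groth.Agent.ExtRes.mk_eq_zero_iff_succ]
  have h1 : t ≫ (Kx J K u R).d q (q + 1) =
      (t ≫ Abelian.factorThruImage (toW (Kx J K u R) q)) ≫
        Abelian.image.ι (toW (Kx J K u R) q) ≫ kernel.ι _ := by
    simp
  have hd : t ≫ (Kx J K u R).d q (q + 1) = freeMap K g ≫ eV J K u V _ s.1 := by
    rw [h1, ht, Category.assoc, hχ]
    rfl
  refine ⟨(eV J K u V' _).symm t, ?_⟩
  apply (eV J K u V' _).injective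
  rw [he, AddEquiv.apply_symm_apply, eV_freeMap]
  exact hd

instance (q : ℕ) : Presheaf.IsLocallyInjective K (α J K u R q) where
  equalizerSieve_mem {V} a b h := by
    let a' : Ext (freeSheaf J (u.obj V.unop)) F (q + 1) := a
    let b' : Ext (freeSheaf J (u.obj V.unop)) F (q + 1) := b
    have h0 : αV J K u R q V.unop (a' - b') = 0 := by
      rw [map_sub, sub_eq_zero]
      exact h
    obtain ⟨T, hT, hz⟩ := αV_eq_zero_locally J K u R q V.unop (a' - b') h0
    refine K.superset_covering ?_ hT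
    intro V' g hg
    have := hz g hg
    rw [sub_eq_add_neg, Ext.comp_add, Ext.comp_neg, ← sub_eq_add_neg, sub_eq_zero] at this
    exact this


instance (q : ℕ) : Presheaf.IsLocallySurjective K (α J K u R q) where
  imageSieve_mem {V} c := by
    let b : freeSheaf K V ⟶ coker J K u R q := (secEquiv V _).symm c
    obtain ⟨T, hT, hlift⟩ := exists_local_lift K (cokernel.π (toW (Kx J K u R) q)) V b
    refine K.superset_covering ?_ hT
    intro V' g hg
    obtain ⟨w, hw⟩ := hlift g hg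
    obtain ⟨s, hs⟩ := mapZ_surjective R (Kx J K u R) (fun n => eV J K u V' (R.cocomplex.X n))
      (he J K u R V') (q + 1)
      ⟨w ≫ kernel.ι _, by rw [mem_Zgrp, Category.assoc, kernel.condition, comp_zero]⟩
    refine ⟨Groth.Agent.ExtRes.mk R (q + 1) s, ?_⟩
    show αV J K u R q V' (Groth.Agent.ExtRes.mk R (q + 1) s) = _
    rw [αV_mk, αZ_apply, hs, toH_lift_ι, hw, secEquiv_freeMap]
    congr 1
    exact (secEquiv V _).apply_symm_apply c

/-- the sheafification of `V ↦ H^{q+1}(uV, F)` is the `(q+1)`-st cohomology sheaf of `f_* R•`. -/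
theorem nonempty_iso_coker (q : ℕ) :
    Nonempty ((presheafToSheaf K AddCommGrpCat.{u}).obj (u.op ⋙ F.cohomologyPresheaf (q + 1)) ≅
      coker J K u R q) := by
  have h1 : IsIso ((presheafToSheaf K AddCommGrpCat.{u}).map (α J K u R q)) :=
    (K.W_iff _).mp (GrothendieckTopology.W_of_isLocallyBijective _ (α J K u R q))
  have h3 : IsIso ((sheafificationAdjunction K AddCommGrpCat.{u}).counit.app (coker J K u R q)) :=
    inferInstance
  exact ⟨@asIso _ _ _ _ _ h1 ≪≫ @asIso _ _ _ _ _ h3⟩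


instance : PreservesFiniteLimits (CohSite.push J K u) := by
  have : PreservesLimitsOfSize.{u, u} (CohSite.push J K u) :=
    (Functor.sheafAdjunctionContinuous u AddCommGrpCat.{u} K J).rightAdjoint_preservesLimits
  infer_instance

/-- the cohomology sheaf computed as a cokernel is the right derived functor. -/
noncomputable def cokerIso (q : ℕ) :
    coker J K u R q ≅ (CohSite.Rpush J K u (q + 1)).obj F :=
  (ShortComplex.LeftHomologyData.ofHasKernelOfHasCokernel
    ((Kx J K u R).sc' q (q + 1) (q + 1 + 1))).homologyIso.symm ≪≫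
  ((Kx J K u R).homologyIsoSc' q (q + 1) (q + 1 + 1) (by simp) (by simp)).symm ≪≫
  (R.isoRightDerivedObj (CohSite.push J K u) (q + 1)).symm

/-- degree zero: `V ↦ H^0(uV, F)` is the presheaf underlying `f_* F`. -/
noncomputable def β (F : Sheaf J AddCommGrpCat.{u}) :
    u.op ⋙ F.cohomologyPresheaf 0 ≅ ((CohSite.push J K u).obj F).obj :=
  NatIso.ofComponents (fun V => (AddEquiv.toAddCommGrpIso
    ((Ext.addEquiv₀ (X := freeSheaf J (u.obj V.unop)) (Y := F)).trans
      (secAddEquiv (u.obj V.unop) F)) : _ ≅ _)) (by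
    intro V V' g
    ext x
    obtain ⟨a, rfl⟩ := (Ext.mk₀_bijective _ _).surjective
      (x : Ext (freeSheaf J (u.obj V.unop)) F 0)
    have h1 : ∀ (U : C) (b : freeSheaf J U ⟶ F), Ext.addEquiv₀ (Ext.mk₀ b) = b :=
      fun U b => Ext.addEquiv₀.apply_symm_apply b
    show secEquiv _ F (Ext.addEquiv₀ ((Ext.mk₀ (freeMap J (u.map g.unop))).comp (Ext.mk₀ a)
        (zero_add 0))) =
      F.obj.map (u.map g.unop).op (secEquiv _ F (Ext.addEquiv₀ (Ext.mk₀ a)))
    rw [Ext.mk₀_comp_mk₀, h1, h1, secEquiv_freeMap])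

/-- `R^i f_* F` is the sheafification of `V ↦ H^i(uV, F)`. -/
theorem nonempty_Rpush_iso (F : Sheaf J AddCommGrpCat.{u}) (i : ℕ) :
    Nonempty ((CohSite.Rpush J K u i).obj F ≅
      (presheafToSheaf K AddCommGrpCat.{u}).obj (u.op ⋙ F.cohomologyPresheaf i)) := by
  cases i with
  | zero =>
    have h3 : IsIso ((sheafificationAdjunction K AddCommGrpCat.{u}).counit.app
      ((CohSite.push J K u).obj F)) := inferInstance
    exact ⟨((CohSite.push J K u).rightDerivedZeroIsoSelf.app F) ≪≫ (@asIso _ _ _ _ _ h3).symm ≪≫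
      ((presheafToSheaf K AddCommGrpCat.{u}).mapIso (β J K u F)).symm⟩
  | succ q =>
    let R : InjectiveResolution F := InjectiveResolution.of F
    obtain ⟨e⟩ := nonempty_iso_coker J K u R q
    exact ⟨(cokerIso J K u R q).symm ≪≫ e.symm⟩

end Groth.Agent.RpushSheafify
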