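import Mathlib
import Groth.Prelude.Def_SpSeq

/-! Abstract lemmas on spectral sequences with abutment data (prelude `SpSeq`). -/

set_option autoImplicit false
universe v u
open CategoryTheory CategoryTheory.Limits

namespace Groth.Agent.SSAbs

variable {C : Type u} [Category.{v} C] [Abelian C] {r₀ : ℤ}

section Pages

variable (E : CohomologicalSpectralSequence C r₀)

lemma isZero_page_succ (r : ℤ) (hr : r₀ ≤ r) (pq : ℤ × ℤ) (h : IsZero ((E.page r hr).X pq)) :
    IsZero ((E.page (r + 1) (by omega)).X pq) := by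
  refine IsZero.of_iso ?_ (E.iso r (r + 1) pq rfl hr).symm
  exact ShortComplex.isZero_homology_of_isZero_X₂ _ h

lemma isZero_page_of_le (r : ℤ) (hr : r₀ ≤ r) (pq : ℤ × ℤ) (h : IsZero ((E.page r hr).X pq))
    (k : ℤ) (hk : r ≤ k) : IsZero ((E.page k (hr.trans hk)).X pq) := by
  induction k, hk using Int.le_induction with
  | base => exact h
  | succ k hk ih => exact isZero_page_succ E k (hr.trans hk) pq ih

lemma prev_eq (r : ℤ) (pq : ℤ × ℤ) :
    (ComplexShape.up' (⟨r, 1 - r⟩ : ℤ × ℤ)).prev pq = pq - (r, 1 - r) :=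
  (ComplexShape.up' (⟨r, 1 - r⟩ : ℤ × ℤ)).prev_eq' (by
    show pq - (r, 1 - r) + (r, 1 - r) = pq
    simp)

lemma next_eq (r : ℤ) (pq : ℤ × ℤ) :
    (ComplexShape.up' (⟨r, 1 - r⟩ : ℤ × ℤ)).next pq = pq + (r, 1 - r) :=
  (ComplexShape.up' (⟨r, 1 - r⟩ : ℤ × ℤ)).next_eq' rfl

/-- if both differentials at `pq` vanish on page `r`, the next page has the same object. -/
lemma nonempty_iso_succ_of_d_zero (r : ℤ) (hr : r₀ ≤ r) (pq : ℤ × ℤ)
    (h1 : (E.page r hr).d (pq - (r, 1 - r)) pq = 0)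
    (h2 : (E.page r hr).d pq (pq + (r, 1 - r)) = 0) :
    Nonempty ((E.page r hr).X pq ≅ (E.page (r + 1) (by omega)).X pq) := by
  have hf : ((E.page r hr).sc pq).f = 0 := by
    show (E.page r hr).d ((ComplexShape.up' (⟨r, 1 - r⟩ : ℤ × ℤ)).prev pq) pq = 0
    rw [prev_eq]
    exact h1
  have hg : ((E.page r hr).sc pq).g = 0 := by
    show (E.page r hr).d pq ((ComplexShape.up' (⟨r, 1 - r⟩ : ℤ × ℤ)).next pq) = 0
    rw [next_eq]
    exact h2
  exact ⟨((ShortComplex.HomologyData.ofZeros ((E.page r hr).sc pq) hf hg).left.homologyIso).symm ≪≫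
    E.iso r (r + 1) pq rfl hr⟩

lemma nonempty_iso_of_stationary (pq : ℤ × ℤ) (s : ℤ) (hs : SpSeq.StationaryAt E pq s)
    (k : ℤ) (hk : s ≤ k) :
    Nonempty ((E.page s hs.1).X pq ≅ (E.page k (hs.1.trans hk)).X pq) := by
  induction k, hk using Int.le_induction with
  | base => exact ⟨Iso.refl _⟩
  | succ k hk ih =>
    obtain ⟨e⟩ := ih
    obtain ⟨h1, h2⟩ := hs.2 k (hs.1.trans hk) hk
    obtain ⟨e'⟩ := nonempty_iso_succ_of_d_zero E k (hs.1.trans hk) pq h1 h2
    exact ⟨e ≪≫ e'⟩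

/-- the limit term at a position that is zero on some page is zero. -/
lemma isZero_limit_term {H : ℤ → C} (a : SpSeq.Abutment E H) (r : ℤ) (hr : r₀ ≤ r) (pq : ℤ × ℤ)
    (h : IsZero ((E.page r hr).X pq)) :
    IsZero ((E.page (a.rk pq) (a.stat pq).1).X pq) := by
  by_cases hle : r ≤ a.rk pq
  · exact isZero_page_of_le E r hr pq h _ hle
  · obtain ⟨e⟩ := nonempty_iso_of_stationary E pq (a.rk pq) (a.stat pq) r (by omega)
    exact IsZero.of_iso h e

lemma isZero_grPiece {H : ℤ → C} (a : SpSeq.Abutment E H) (r : ℤ) (hr : r₀ ≤ r) (pq : ℤ × ℤ)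
    (h : IsZero ((E.page r hr).X pq)) :
    IsZero (SpSeq.grPiece (a.fil (pq.1 + pq.2)) (a.anti (pq.1 + pq.2)) pq.1) :=
  IsZero.of_iso (isZero_limit_term E a r hr pq h) (a.β pq).symm

end Pages

section Fil

variable {X : C} (F : ℤ → Subobject X) (hF : Antitone F)

include hF in
lemma eq_succ_of_isZero_grPiece (p : ℤ) (h : IsZero (SpSeq.grPiece F hF p)) : F (p + 1) = F p := by
  apply le_antisymm (hF (Int.le_add_one le_rfl))
  have hepi : Epi ((F (p + 1)).ofLE (F p) (hF (Int.le_add_one le_rfl))) := by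
    apply Preadditive.epi_of_isZero_cokernel
    exact h
  have hiso : IsIso ((F (p + 1)).ofLE (F p) (hF (Int.le_add_one le_rfl))) :=
    isIso_of_mono_of_epi _
  exact Subobject.le_of_comm (inv ((F (p + 1)).ofLE (F p) (hF (Int.le_add_one le_rfl)))) (by
    rw [IsIso.inv_comp_eq, Subobject.ofLE_arrow])

include hF in
lemma eq_of_isZero_grPiece (p : ℤ) (k : ℤ) (hk : p ≤ k)
    (h : ∀ i, p ≤ i → i < k → IsZero (SpSeq.grPiece F hF i)) : F k = F p := by
  induction k, hk using Int.le_induction with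
  | base => rfl
  | succ k hk ih =>
    rw [eq_succ_of_isZero_grPiece F hF k (h k hk (by omega))]
    exact ih (fun i hi hi' => h i hi (by omega))

lemma isZero_of_top_eq_bot (h : (⊤ : Subobject X) = ⊥) : IsZero X := by
  have h1 : IsIso (⊥ : Subobject X).arrow := (Subobject.isIso_arrow_iff_eq_top _).2 h.symm
  rw [IsZero.iff_id_eq_zero]
  have : (⊥ : Subobject X).arrow = 0 := Subobject.bot_arrow
  calc 𝟙 X = inv (⊥ : Subobject X).arrow ≫ (⊥ : Subobject X).arrow := (IsIso.inv_hom_id _).symm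
    _ = inv (⊥ : Subobject X).arrow ≫ 0 := congrArg _ this
    _ = 0 := comp_zero

include hF in
/-- a finite filtration with zero graded pieces lives on the zero object. -/
lemma isZero_of_isZero_grPiece (a b : ℤ) (ha : F a = ⊤) (hb : F b = ⊥)
    (h : ∀ i, IsZero (SpSeq.grPiece F hF i)) : IsZero X := by
  apply isZero_of_top_eq_bot
  by_cases hab : a ≤ b
  · rw [← ha, ← hb]
    exact (eq_of_isZero_grPiece F hF a b hab (fun i _ _ => h i)).symm
  · apply le_antisymm _ bot_le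
    rw [← ha, ← hb]
    exact hF (by omega)

lemma nonempty_iso_cokernel_ofLE (S T : Subobject X) (h : S ≤ T) (hS : S = ⊥) (hT : T = ⊤) :
    Nonempty (cokernel (S.ofLE T h) ≅ X) := by
  subst hS hT
  have hz : IsZero ((⊥ : Subobject X) : C) := IsZero.of_iso (isZero_zero C) Subobject.botCoeIsoZero
  have h0 : (⊥ : Subobject X).ofLE ⊤ h = 0 := hz.eq_of_src _ _
  have : IsIso (⊤ : Subobject X).arrow := (Subobject.isIso_arrow_iff_eq_top _).2 rfl
  have e1 : cokernel ((⊥ : Subobject X).ofLE ⊤ h) ≅ ((⊤ : Subobject X) : C) := by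
    have : IsIso (cokernel.π ((⊥ : Subobject X).ofLE ⊤ h)) := by
      rw [h0]
      infer_instance
    exact (asIso (cokernel.π ((⊥ : Subobject X).ofLE ⊤ h))).symm
  exact ⟨e1 ≪≫ asIso (⊤ : Subobject X).arrow⟩

include hF in
/-- a discrete exhaustive filtration with a single nonzero graded piece. -/
lemma nonempty_iso_grPiece (p₀ : ℤ) (hdisc : ∃ b : ℤ, F b = ⊥)
    (hexh : IsLUB (Set.range F) ⊤)
    (h : ∀ i, i ≠ p₀ → IsZero (SpSeq.grPiece F hF i)) :
    Nonempty (X ≅ SpSeq.grPiece F hF p₀) := by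
  obtain ⟨b, hb⟩ := hdisc
  have h1 : F (p₀ + 1) = ⊥ := by
    have hk : p₀ + 1 ≤ max b (p₀ + 1) := le_max_right _ _
    have := eq_of_isZero_grPiece F hF (p₀ + 1) (max b (p₀ + 1)) hk
      (fun i hi _ => h i (by omega))
    rw [← this]
    exact le_antisymm ((hF (le_max_left b (p₀ + 1))).trans hb.le) bot_le
  have h2 : F p₀ = ⊤ := by
    apply le_antisymm le_top
    apply hexh.2
    rintro _ ⟨p, rfl⟩
    by_cases hp : p ≤ p₀
    · exact (eq_of_isZero_grPiece F hF p p₀ hp (fun i _ hi => h i (by omega))).symm.le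
    · exact hF (by omega)
  obtain ⟨e⟩ := nonempty_iso_cokernel_ofLE (F (p₀ + 1)) (F p₀) (hF (Int.le_add_one le_rfl)) h1 h2
  exact ⟨e.symm⟩

end Fil

end Groth.Agent.SSAbs
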