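import Groth.Agent.Lib.SSAbs

/-! Line-wise consequences of abutment data. -/

set_option autoImplicit false
universe v u
open CategoryTheory CategoryTheory.Limits

namespace Groth.Agent.SSAbs

variable {C : Type u} [Category.{v} C] [Abelian C] {r₀ : ℤ}
  (E : CohomologicalSpectralSequence C r₀) {H : ℤ → C} (a : SpSeq.Abutment E H)

lemma isZero_grPiece_line (r : ℤ) (hr : r₀ ≤ r) (n p : ℤ)
    (h : IsZero ((E.page r hr).X (p, n - p))) :
    IsZero (SpSeq.grPiece (a.fil n) (a.anti n) p) := by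
  have tr : ∀ (m : ℤ), m = n →
      IsZero (SpSeq.grPiece (a.fil m) (a.anti m) p) → IsZero (SpSeq.grPiece (a.fil n) (a.anti n) p) := by
    rintro m rfl h
    exact h
  exact tr (p + (n - p)) (by omega) (isZero_grPiece E a r hr (p, n - p) h)

/-- all terms on the line `n` vanish ⇒ the abutment vanishes (finite filtration). -/
theorem isZero_of_line (r : ℤ) (hr : r₀ ≤ r) (n : ℤ)
    (hdeg : ∀ p : ℤ, IsZero ((E.page r hr).X (p, n - p))) (hfin : a.IsFinite n) : IsZero (H n) := by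
  obtain ⟨⟨a', ha'⟩, ⟨b, hb⟩⟩ := hfin
  exact isZero_of_isZero_grPiece (a.fil n) (a.anti n) a' b ha' hb
    (fun p => isZero_grPiece_line E a r hr n p (hdeg p))

/-- a single surviving term on the line `n`. -/
theorem nonempty_iso_of_line (r : ℤ) (hr : r₀ ≤ r) (n p₀ : ℤ)
    (hdeg : ∀ p : ℤ, p ≠ p₀ → IsZero ((E.page r hr).X (p, n - p)))
    (hdisc : (a.filObj n).IsDiscrete) (hexh : a.IsExhaustive n)
    (hst : SpSeq.StationaryAt E (p₀, n - p₀) r) :
    Nonempty (H n ≅ (E.page r hr).X (p₀, n - p₀)) := by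
  have tr' : ∀ (m : ℤ) (p : ℤ), m = n →
      Nonempty (SpSeq.grPiece (a.fil n) (a.anti n) p ≅ SpSeq.grPiece (a.fil m) (a.anti m) p) := by
    rintro m p rfl
    exact ⟨Iso.refl _⟩
  obtain ⟨e1⟩ := nonempty_iso_grPiece (a.fil n) (a.anti n) p₀ hdisc hexh
    (fun p hp => isZero_grPiece_line E a r hr n p (hdeg p hp))
  obtain ⟨e2⟩ := tr' (p₀ + (n - p₀)) p₀ (by omega)
  have e3 := (a.β (p₀, n - p₀)).symm
  have e4 : Nonempty ((E.page (a.rk (p₀, n - p₀)) (a.stat (p₀, n - p₀)).1).X (p₀, n - p₀) ≅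
      (E.page r hr).X (p₀, n - p₀)) := by
    by_cases hle : a.rk (p₀, n - p₀) ≤ r
    · exact nonempty_iso_of_stationary E _ _ (a.stat (p₀, n - p₀)) r hle
    · obtain ⟨e⟩ := nonempty_iso_of_stationary E _ r hst (a.rk (p₀, n - p₀)) (by omega)
      exact ⟨e.symm⟩
  obtain ⟨e4⟩ := e4
  exact ⟨e1 ≪≫ e2 ≪≫ e3 ≪≫ e4⟩

/-- stationarity from vanishing of the neighbours on a page. -/
lemma stationaryAt_of_isZero (r : ℤ) (hr : r₀ ≤ r) (pq : ℤ × ℤ)
    (h1 : ∀ r' : ℤ, r ≤ r' → IsZero ((E.page r hr).X (pq - (r', 1 - r'))))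
    (h2 : ∀ r' : ℤ, r ≤ r' → IsZero ((E.page r hr).X (pq + (r', 1 - r')))) :
    SpSeq.StationaryAt E pq r := by
  refine ⟨hr, fun r' h₀ hr' => ⟨?_, ?_⟩⟩
  · exact (isZero_page_of_le E r hr _ (h1 r' hr') r' hr').eq_of_src _ _
  · exact (isZero_page_of_le E r hr _ (h2 r' hr') r' hr').eq_of_tgt _ _

end Groth.Agent.SSAbs
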