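import Mathlib

set_option autoImplicit false
universe w v u v' u'

open CategoryTheory CategoryTheory.Limits

namespace Groth.Agent.GSSU

variable {A : Type u} [Category.{v} A] [Abelian A] [EnoughInjectives A] [HasDerivedCategory.{w} A]
  {B : Type u'} [Category.{v'} B] [Abelian B] (S : A ⥤ B) [S.Additive]

/-- `H⁰(S(-))` on the bounded below homotopy category. -/
noncomputable def G₀ : HomotopyCategory.Plus A ⥤ B :=
  S.mapHomotopyCategoryPlus ⋙ HomotopyCategory.Plus.ι B ⋙ HomotopyCategory.homologyFunctor B (ComplexShape.up ℤ) 0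

instance : (G₀ S).IsHomological := by
  dsimp only [G₀]
  infer_instance

/-- the hyper-derived functor `ℝ⁰S : D⁺(A) ⥤ B`. -/
noncomputable def HH : DerivedCategory.Plus A ⥤ B :=
  (G₀ S).totalRightDerived DerivedCategory.Plus.Qh (HomotopyCategory.Plus.quasiIso A)

noncomputable def HHunit : G₀ S ⟶ DerivedCategory.Plus.Qh ⋙ HH S :=
  (G₀ S).totalRightDerivedUnit DerivedCategory.Plus.Qh (HomotopyCategory.Plus.quasiIso A)

instance : (HH S).IsRightDerivedFunctor (HHunit S) (HomotopyCategory.Plus.quasiIso A) := by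
  dsimp only [HH, HHunit]
  infer_instance

instance (K : HomotopyCategory.Plus A) [∀ (n : ℤ), Injective (K.obj.as.X n)] :
    IsIso ((HHunit S).app K) := by
  infer_instance

/-- the functor `K⁺(Inj A) ⥤ D⁺(A)`. -/
noncomputable abbrev Φ : HomotopyCategory.Plus (InjectiveObject A) ⥤ DerivedCategory.Plus A :=
  (InjectiveObject.ι A).mapHomotopyCategoryPlus ⋙ DerivedCategory.Plus.Qh

instance : (Φ (A := A)).Full where
  map_surjective {X Y} f := by
    have hK : CochainComplex.IsKInjective
        (((InjectiveObject.ι A).mapHomotopyCategoryPlus.obj Y).1.as) := by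
      obtain ⟨Y, hY⟩ := Y
      obtain ⟨Y, rfl⟩ := HomotopyCategory.quotient_obj_surjective Y
      obtain ⟨n, hn⟩ := (HomotopyCategory.plus_quotient_obj_iff _).mp hY
      let L : CochainComplex A ℤ := ((InjectiveObject.ι A).mapHomologicalComplex (ComplexShape.up ℤ)).obj Y
      have : ∀ i, Injective (L.X i) := fun i => (Y.X i).property
      have : L.IsStrictlyGE n := by
        rwa [CochainComplex.isStrictlyGE_mapHomologicalComplex_obj_iff]
      exact CochainComplex.isKInjective_of_injective L n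
    obtain ⟨g, hg⟩ := (DerivedCategory.Plus.Qh_map_bijective_of_isKInjective
      ((InjectiveObject.ι A).mapHomotopyCategoryPlus.obj X) _ hK).2 f
    obtain ⟨h, rfl⟩ := (InjectiveObject.ι A).mapHomotopyCategoryPlus.map_surjective g
    exact ⟨h, hg⟩

instance : (Φ (A := A)).IsTriangulated := by
  infer_instance

instance : IsIso (Functor.whiskerLeft (InjectiveObject.ι A).mapHomotopyCategoryPlus (HHunit S)) := by
  rw [NatTrans.isIso_iff_isIso_app]
  intro X
  dsimp
  infer_instance

noncomputable def ΦHHIso : Φ ⋙ HH S ≅ (InjectiveObject.ι A).mapHomotopyCategoryPlus ⋙ G₀ S :=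
  (asIso (Functor.whiskerLeft (InjectiveObject.ι A).mapHomotopyCategoryPlus (HHunit S))).symm

instance : (HH S).IsHomological :=
  Functor.isHomological_of_localization Φ (HH S) _ (ΦHHIso S)

end Groth.Agent.GSSU


open CategoryTheory CategoryTheory.Limits

namespace Groth.Agent.GSSU

variable {A : Type u} [Category.{v} A] [Abelian A] [EnoughInjectives A] [HasDerivedCategory.{w} A]
  {B : Type u'} [Category.{v'} B] [Abelian B] (S : A ⥤ B) [S.Additive]

/-- the object of `K⁺(A)` attached to a bounded below complex. -/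
noncomputable def toKPlus (M : CochainComplex A ℤ) (m : ℤ) [M.IsStrictlyGE m] : HomotopyCategory.Plus A :=
  ⟨(HomotopyCategory.quotient _ _).obj M, (HomotopyCategory.plus_quotient_obj_iff _).mpr ⟨m, inferInstance⟩⟩

/-- `G₀` on an honest complex is `H⁰(S M)`. -/
noncomputable def G₀Iso (M : CochainComplex A ℤ) (m : ℤ) [M.IsStrictlyGE m] :
    (G₀ S).obj (toKPlus M m) ≅ ((S.mapHomologicalComplex (ComplexShape.up ℤ)).obj M).homology 0 :=
  (HomotopyCategory.homologyFunctor B (ComplexShape.up ℤ) 0).mapIso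
      ((S.mapHomotopyCategoryFactors (ComplexShape.up ℤ)).app M) ≪≫
    (HomotopyCategory.homologyFunctorFactors B (ComplexShape.up ℤ) 0).app _

/-- `H⁰` of a shifted complex. -/
noncomputable def shiftHomologyIso (L : CochainComplex B ℤ) (n : ℤ) :
    (L⟦n⟧).homology 0 ≅ L.homology n :=
  ((HomologicalComplex.homologyFunctor B (ComplexShape.up ℤ) 0).shiftIso n 0 n (by simp)).app L

noncomputable def HH_Qh_iso (M : CochainComplex A ℤ) (m : ℤ) [M.IsStrictlyGE m]
    (hM : ∀ i, Injective (M.X i)) :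
    (HH S).obj (DerivedCategory.Plus.Qh.obj (toKPlus M m)) ≅
      ((S.mapHomologicalComplex (ComplexShape.up ℤ)).obj M).homology 0 := by
  haveI : ∀ n, Injective ((toKPlus M m).obj.as.X n) := hM
  exact (asIso ((HHunit S).app (toKPlus M m))).symm ≪≫ G₀Iso S M m

end Groth.Agent.GSSU

namespace Groth.Agent.GSSU

variable {A : Type u} [Category.{v} A] [Abelian A] [EnoughInjectives A] [HasDerivedCategory.{w} A]
  {B : Type u'} [Category.{v'} B] [Abelian B] (S : A ⥤ B) [S.Additive]

instance (M : CochainComplex A ℤ) (m : ℤ) [M.IsStrictlyGE m] (n : ℤ) : (M⟦n⟧).IsStrictlyGE (m - n) :=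
  M.isStrictlyGE_shift m n (m - n) (by omega)

/-- `ι (Qh (toKPlus M)) ≅ Q M`. -/
noncomputable def ιQhIso (M : CochainComplex A ℤ) (m : ℤ) [M.IsStrictlyGE m] :
    DerivedCategory.Plus.ι.obj (DerivedCategory.Plus.Qh.obj (toKPlus M m)) ≅ DerivedCategory.Q.obj M :=
  (DerivedCategory.quotientCompQhIso A).app M

/-- if `Q M ≅ ι K` then `K⟦n⟧ ≅ Qh (toKPlus (M⟦n⟧))`. -/
noncomputable def shiftIsoOfIso (K : DerivedCategory.Plus A) (M : CochainComplex A ℤ) (m : ℤ) [M.IsStrictlyGE m]
    (e : DerivedCategory.Q.obj M ≅ DerivedCategory.Plus.ι.obj K) (n : ℤ) :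
    K⟦n⟧ ≅ DerivedCategory.Plus.Qh.obj (toKPlus (M⟦n⟧) (m - n)) :=
  DerivedCategory.Plus.ι.preimageIso
    ((DerivedCategory.Plus.ι.commShiftIso n).app K ≪≫ (shiftFunctor _ n).mapIso e.symm ≪≫
      ((DerivedCategory.Q.commShiftIso n).app M).symm ≪≫ (ιQhIso (M⟦n⟧) (m - n)).symm)

/-- the main computation: `ℝ⁰S(K⟦n⟧) ≅ Hⁿ(S M)` for an injective model `M` of `K`. -/
noncomputable def HH_shift_iso (K : DerivedCategory.Plus A) (M : CochainComplex A ℤ) (m : ℤ) [M.IsStrictlyGE m]
    (hM : ∀ i, Injective (M.X i))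
    (e : DerivedCategory.Q.obj M ≅ DerivedCategory.Plus.ι.obj K) (n : ℤ) :
    (HH S).obj (K⟦n⟧) ≅ ((S.mapHomologicalComplex (ComplexShape.up ℤ)).obj M).homology n :=
  (HH S).mapIso (shiftIsoOfIso K M m e n) ≪≫
    HH_Qh_iso S (M⟦n⟧) (m - n) (fun i => hM _) ≪≫
    (HomologicalComplex.homologyFunctor B (ComplexShape.up ℤ) 0).mapIso
      (((S.mapHomologicalComplex (ComplexShape.up ℤ)).commShiftIso n).app M) ≪≫
    shiftHomologyIso _ n

end Groth.Agent.GSSU


open CategoryTheory CategoryTheory.Limits HomologicalComplex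

namespace Groth.Agent.GSSU

variable {ι ι' : Type*} {c : ComplexShape ι} {c' : ComplexShape ι'}
  {C : Type*} [Category C] [HasZeroObject C] [Preadditive C]
  {D : Type*} [Category D] [HasZeroObject D] [Preadditive D]
  (F : C ⥤ D) [F.Additive]

/-- auxiliary isomorphism for `mapExtendIso`. -/
noncomputable def mapXIso (K : HomologicalComplex C c) : ∀ i : Option ι,
    F.obj (extend.X K i) ≅ extend.X ((F.mapHomologicalComplex c).obj K) i
  | some _ => Iso.refl _
  | none => IsZero.iso (F.map_isZero (isZero_zero _)) (isZero_zero _)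

lemma mapXIso_comm (K : HomologicalComplex C c) (i j : Option ι) :
    F.map (extend.d K i j) ≫ (mapXIso F K j).hom =
      (mapXIso F K i).hom ≫ extend.d ((F.mapHomologicalComplex c).obj K) i j :=
  match i, j with
  | none, _ => by
      simp only [extend.d_none_eq_zero, Functor.map_zero, zero_comp, comp_zero]
  | some i, some j => by
      dsimp [mapXIso, extend.d]
      erw [Category.comp_id, Category.id_comp]
      rfl
  | some _, none => by
      simp only [extend.d_none_eq_zero', Functor.map_zero, zero_comp, comp_zero]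

/-- an additive functor commutes with extension of complexes by zero. -/
noncomputable def mapExtendIso (K : HomologicalComplex C c) (e : c.Embedding c') :
    (F.mapHomologicalComplex c').obj (K.extend e) ≅ ((F.mapHomologicalComplex c).obj K).extend e :=
  Hom.isoOfComponents (fun i' => mapXIso F K (e.r i')) (fun i' j' _ => (mapXIso_comm F K _ _).symm)

end Groth.Agent.GSSU

namespace Groth.Agent.GSSU

variable {A : Type*} [Category A] [Abelian A] {B : Type*} [Category B] [Abelian B]
  (F : A ⥤ B) [F.Additive]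

/-- homology of `F` applied to the `ℤ`-indexed extension of an `ℕ`-indexed cochain complex. -/
noncomputable def homologyExtendIso (K : CochainComplex A ℕ) (n : ℕ) :
    ((F.mapHomologicalComplex (ComplexShape.up ℤ)).obj (K.extend ComplexShape.embeddingUpNat)).homology n ≅
      ((F.mapHomologicalComplex (ComplexShape.up ℕ)).obj K).homology n :=
  (HomologicalComplex.homologyFunctor B (ComplexShape.up ℤ) n).mapIso
      (mapExtendIso F K ComplexShape.embeddingUpNat) ≪≫
    HomologicalComplex.extendHomologyIso _ ComplexShape.embeddingUpNat (j := n) (j' := (n : ℤ)) rfl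

end Groth.Agent.GSSU


open CategoryTheory CategoryTheory.Limits ComposableArrows

namespace Groth.Agent.GSSU

variable {A : Type u} [Category.{v} A] [Abelian A] [EnoughInjectives A] [HasDerivedCategory.{w} A]
  {B : Type u'} [Category.{v'} B] [Abelian B] (S : A ⥤ B) [S.Additive]

noncomputable instance : (HH S).ShiftSequence ℤ := Functor.ShiftSequence.tautological _ _

/-- `ℝ⁰S((F[0])⟦k⟧) ≅ RᵏS(F)`. -/
lemma HH_single_iso (K : DerivedCategory.Plus A) (F : A)
    (e : DerivedCategory.Plus.ι.obj K ≅ (DerivedCategory.singleFunctor A 0).obj F) (k : ℕ) :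
    Nonempty ((HH S).obj (K⟦(k : ℤ)⟧) ≅ (S.rightDerived k).obj F) := by
  let R := injectiveResolution F
  let e' : DerivedCategory.Q.obj R.cochainComplex ≅ DerivedCategory.Plus.ι.obj K :=
    (asIso (DerivedCategory.Q.map R.ι')).symm ≪≫ (DerivedCategory.singleFunctorIsoCompQ A 0).symm.app F ≪≫ e.symm
  exact ⟨HH_shift_iso S K R.cochainComplex 0 (fun i => inferInstance) e' k ≪≫
    homologyExtendIso S R.cocomplex k ≪≫ (R.isoRightDerivedObj S k).symm⟩


end Groth.Agent.GSSU


open CategoryTheory CategoryTheory.Limits ComposableArrows Pretriangulated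

namespace Groth.Agent.GSSU

variable {A : Type u} [Category.{v} A] [Abelian A] [EnoughInjectives A] [HasDerivedCategory.{w} A]
  {B : Type u'} [Category.{v'} B] [Abelian B] (S : A ⥤ B) [S.Additive]

/-- the single object in degree `0` in `D⁺(A)`. -/
noncomputable abbrev sP (F : A) : DerivedCategory.Plus A := (DerivedCategory.Plus.singleFunctor A 0).obj F

/-- the connecting morphism. -/
noncomputable def sesδ (T : ShortComplex A) (hT : T.ShortExact) :
    DerivedCategory.Plus.ι.obj (sP T.X₃) ⟶ DerivedCategory.Plus.ι.obj ((sP T.X₁)⟦(1 : ℤ)⟧) :=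
  hT.singleδ ≫ (DerivedCategory.Plus.ι.commShiftIso (1 : ℤ)).inv.app (sP T.X₁)

/-- the distinguished triangle of `D⁺(A)` attached to a short exact sequence. -/
noncomputable def sesTriangle (T : ShortComplex A) (hT : T.ShortExact) : Triangle (DerivedCategory.Plus A) :=
  Triangle.mk ((DerivedCategory.Plus.singleFunctor A 0).map T.f) ((DerivedCategory.Plus.singleFunctor A 0).map T.g)
    (DerivedCategory.Plus.ι.preimage (sesδ T hT))

omit [EnoughInjectives A] in
lemma sesTriangle_distinguished (T : ShortComplex A) (hT : T.ShortExact) :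
    sesTriangle T hT ∈ distTriang (DerivedCategory.Plus A) := by
  show DerivedCategory.Plus.ι.mapTriangle.obj _ ∈ distTriang _
  refine isomorphic_distinguished _ hT.singleTriangle_distinguished _
    (Triangle.isoMk _ _ (Iso.refl _) (Iso.refl _) (Iso.refl _) ?_ ?_ ?_)
  · erw [Category.comp_id, Category.id_comp]
    rfl
  · erw [Category.comp_id, Category.id_comp]
    rfl
  · erw [CategoryTheory.Functor.map_id, Category.comp_id]
    have h := DerivedCategory.Plus.ι.map_preimage (sesδ T hT)
    show DerivedCategory.Plus.ι.map (DerivedCategory.Plus.ι.preimage (sesδ T hT)) ≫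
      (DerivedCategory.Plus.ι.commShiftIso (1 : ℤ)).hom.app (sP T.X₁) = _
    rw [h, sesδ, Category.assoc]
    have h2 : (DerivedCategory.Plus.ι.commShiftIso (1 : ℤ)).inv.app (sP T.X₁) ≫
        (DerivedCategory.Plus.ι.commShiftIso (1 : ℤ)).hom.app (sP T.X₁) = 𝟙 _ := Iso.inv_hom_id_app _ _
    erw [h2, Category.comp_id, Category.id_comp]
    rfl

/-- `S`-acyclic objects. -/
def IsAcyc (F : A) : Prop := ∀ k : ℕ, IsZero ((S.rightDerived (k + 1)).obj F)

lemma isZero_HH_sP_iff (F : A) (k : ℕ) :
    IsZero ((HH S).obj ((sP F)⟦(k : ℤ)⟧)) ↔ IsZero ((S.rightDerived k).obj F) := by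
  obtain ⟨e⟩ := HH_single_iso S (sP F) F (Iso.refl _) k
  exact ⟨fun h => IsZero.of_iso h e.symm, fun h => IsZero.of_iso h e⟩

/-- (ii): two-out-of-three for cokernels. -/
lemma isAcyc_X₃ (T : ShortComplex A) (hT : T.ShortExact) (h₁ : IsAcyc S T.X₁) (h₂ : IsAcyc S T.X₂) :
    IsAcyc S T.X₃ := by
  intro k
  rw [← isZero_HH_sP_iff]
  have hex := (HH S).homologySequence_exact₃ _ (sesTriangle_distinguished T hT) ((k + 1 : ℕ) : ℤ) ((k + 2 : ℕ) : ℤ)
    (by push_cast; ring)
  have z1 : IsZero ((HH S).obj ((sP T.X₂)⟦((k + 1 : ℕ) : ℤ)⟧)) := (isZero_HH_sP_iff S _ _).2 (h₂ k)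
  have z2 : IsZero ((HH S).obj ((sP T.X₁)⟦((k + 2 : ℕ) : ℤ)⟧)) := (isZero_HH_sP_iff S _ _).2 (h₁ (k + 1))
  exact hex.isZero_of_both_zeros (z1.eq_of_src _ _) (z2.eq_of_tgt _ _)

end Groth.Agent.GSSU
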