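import Mathlib
import Mathlib.AlgebraicGeometry.Morphisms.LocalFlatDescent
import Groth.Agent.Lib.FpqcDescent
import Groth.Agent.Lib.AffineDescentFpqc

/-! Descent of immersions. -/

open CategoryTheory CategoryTheory.Limits AlgebraicGeometry MorphismProperty

universe u

namespace Groth.Agent.Lib.ImmersionDescent

/-- Closed immersions descend: auxiliary step for immersions. -/
theorem isClosedImmersion_of_pullback {Q : MorphismProperty Scheme.{u}}
    [Q.IsStableUnderBaseChange] [DescendsAlong @IsClosedImmersion Q]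
    {X Y Z : Scheme.{u}} (c : X ⟶ Z) (hc : Q c) (U : Z.Opens) (g₁ : Y ⟶ U)
    [IsImmersion (pullback.fst c (g₁ ≫ U.ι))] (hcl : IsClosed (Set.range g₁)) :
    IsClosedImmersion g₁ := by
  let c₁ := pullback.snd c U.ι
  have hc₁ : Q c₁ := Q.pullback_snd _ _ hc
  have h1 : IsImmersion (pullback.fst c₁ g₁ ≫ pullback.fst c U.ι) := by
    rw [← pullbackLeftPullbackSndIso_hom_fst]
    infer_instance
  have h2 : IsImmersion (pullback.fst c₁ g₁) := IsImmersion.of_comp _ (pullback.fst c U.ι)
  have h3 : IsClosed (Set.range (pullback.fst c₁ g₁)) := by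
    rw [Scheme.Pullback.range_fst]
    exact hcl.preimage c₁.continuous
  have h4 : IsClosedImmersion (pullback.fst c₁ g₁) := .of_isPreimmersion _ h3
  exact MorphismProperty.of_pullback_fst_of_descendsAlong (P := @IsClosedImmersion) hc₁ h4

theorem isImmersion_of_pullback {Q : MorphismProperty Scheme.{u}}
    [Q.IsStableUnderBaseChange] [DescendsAlong @IsClosedImmersion Q]
    {X Y Z : Scheme.{u}} (c : X ⟶ Z) (hc : Q c) (g : Y ⟶ Z)
    [IsImmersion (pullback.fst c g)] (hlc : IsLocallyClosed (Set.range g)) :
    IsImmersion g := by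
  let U : Z.Opens := ⟨coborder (Set.range g), hlc.isOpen_coborder⟩
  have hsub : Set.range g ⊆ (U : Set Z) := subset_coborder
  let g₁ : Y ⟶ U := IsOpenImmersion.lift U.ι g (by simpa using hsub)
  have hg₁ : g₁ ≫ U.ι = g := IsOpenImmersion.lift_fac _ _ _
  have : IsImmersion (pullback.fst c (g₁ ≫ U.ι)) := by
    rw [hg₁]; infer_instance
  have hcl : IsClosed (Set.range g₁) := by
    convert! isClosed_preimage_val_coborder (s := Set.range g)
    apply Set.image_injective.mpr U.ι.isEmbedding.injective
    rw [← Set.range_comp, ← TopCat.coe_comp, ← Scheme.Hom.comp_base, hg₁]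
    exact (Set.image_preimage_eq_of_subset (by simpa using hsub)).symm
  have := isClosedImmersion_of_pullback c hc U g₁ hcl
  rw [← hg₁]
  infer_instance

theorem isLocallyClosed_of_preimage {X Z : Type*} [TopologicalSpace X] [TopologicalSpace Z]
    (c : X → Z) (hc : Continuous c) (ho : IsOpenMap c) (hs : Function.Surjective c) (T : Set Z)
    (h : IsLocallyClosed (c ⁻¹' T)) : IsLocallyClosed T := by
  rw [isLocallyClosed_iff_isOpen_coborder] at h ⊢
  rw [coborder_preimage ho hc] at h
  exact (ho.isQuotientMap hc hs).isOpen_preimage.mp h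

instance descendsAlong_isImmersion_fppf :
    DescendsAlong @IsImmersion
      (@Surjective ⊓ @Flat ⊓ @LocallyOfFinitePresentation : MorphismProperty Scheme.{u}) := by
  have := Groth.Agent.Lib.FpqcDescent.descendsAlong_isClosedImmersion.{u}
  apply DescendsAlong.mk'
  intro X Y Z c g _ hc hfst
  have : IsImmersion (pullback.fst c g) := hfst
  have : Surjective c := hc.1.1
  have : Flat c := hc.1.2
  have : LocallyOfFinitePresentation c := hc.2
  refine isImmersion_of_pullback c hc g ?_
  refine isLocallyClosed_of_preimage c c.continuous c.isOpenMap c.surjective _ ?_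
  rw [← Scheme.Pullback.range_fst]
  exact (pullback.fst c g).isLocallyClosed_range

theorem std_toImage {X Y : Scheme.{u}} (f : X ⟶ Y) [QuasiCompact f] :
    IsSchemeTheoreticallyDominant f.toImage := by
  rw [isSchemeTheoreticallyDominant_iff]
  refine Scheme.IdealSheafData.ext_of_iSup_eq_top
    (fun U : Y.affineOpens ↦ ⟨f.imageι ⁻¹ᵁ U.1, U.2.preimage f.imageι⟩) ?_ ?_
  · have h1 : ⨆ U : Y.affineOpens, (U : Y.Opens) = ⊤ := iSup_affineOpens_eq_top Y
    have : ⨆ U : Y.affineOpens, f.imageι ⁻¹ᵁ (U : Y.Opens) =
        f.imageι ⁻¹ᵁ (⨆ U : Y.affineOpens, (U : Y.Opens)) := by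
      ext x
      simp
    rw [this, h1]
    rfl
  · intro U
    rw [Scheme.Hom.ker_apply]
    simp only [Scheme.IdealSheafData.ideal_bot, Pi.bot_apply]
    exact (RingHom.injective_iff_ker_eq_bot _).mp (f.toImage_app_injective U)

theorem isOpenImmersion_of_std {X Y : Scheme.{u}} (d : X ⟶ Y) [IsImmersion d] [QuasiCompact d]
    [IsSchemeTheoreticallyDominant d] : IsOpenImmersion d := by
  have : IsIso d.imageι := (Scheme.isIso_subschemeι_iff_eq_bot _).mpr d.ker_eq_bot
  rw [← d.toImage_imageι]
  infer_instance

instance descendsAlong_isImmersion_inf_quasiCompact :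
    DescendsAlong (@IsImmersion ⊓ @QuasiCompact : MorphismProperty Scheme.{u})
      (@Surjective ⊓ @Flat ⊓ @QuasiCompact : MorphismProperty Scheme.{u}) := by
  apply DescendsAlong.mk'
  intro X Y Z c g _ hc hfst
  have : IsImmersion (pullback.fst c g) := hfst.1
  have : QuasiCompact (pullback.fst c g) := hfst.2
  have hqc : QuasiCompact g :=
    MorphismProperty.of_pullback_fst_of_descendsAlong (P := @QuasiCompact) hc hfst.2
  refine ⟨?_, hqc⟩
  let t := g.toImage
  let ι := g.imageι
  have htι : t ≫ ι = g := g.toImage_imageι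
  have : IsSchemeTheoreticallyDominant t := std_toImage g
  have : QuasiCompact t := inferInstance
  let c₁ := pullback.snd c ι
  have hc₁ : (@Surjective ⊓ @Flat ⊓ @QuasiCompact : MorphismProperty Scheme.{u}) c₁ :=
    MorphismProperty.pullback_snd _ _ hc
  have : Flat c₁ := hc₁.1.2
  let d := pullback.fst c₁ t
  have h1 : IsImmersion (d ≫ pullback.fst c ι) := by
    rw [← pullbackLeftPullbackSndIso_hom_fst]
    have : IsImmersion (pullback.fst c (t ≫ ι)) := by rw [htι]; infer_instance
    infer_instance
  have h2 : IsImmersion d := IsImmersion.of_comp _ (pullback.fst c ι)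
  have h3 : QuasiCompact d := inferInstance
  have h4 : IsSchemeTheoreticallyDominant d := inferInstance
  have h5 : IsOpenImmersion d := isOpenImmersion_of_std d
  have h6 : IsOpenImmersion t :=
    MorphismProperty.of_pullback_fst_of_descendsAlong (P := @IsOpenImmersion) hc₁ h5
  rw [← htι]
  infer_instance

end Groth.Agent.Lib.ImmersionDescent
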