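import Mathlib

set_option autoImplicit false
universe v v' u u'
open CategoryTheory Limits

namespace Groth.Agent.KInjAdj

variable {𝒜 : Type u} [Category.{v} 𝒜] [Abelian 𝒜] {ℬ : Type u'} [Category.{v'} ℬ] [Abelian ℬ]
  {L : ℬ ⥤ 𝒜} {R : 𝒜 ⥤ ℬ} (adj : L ⊣ R) [L.Additive] [R.Additive]
  [PreservesFiniteLimits L] [PreservesFiniteColimits L]

omit [L.Additive] in
lemma acyclic_map (L : ℬ ⥤ 𝒜) [PreservesFiniteLimits L] [PreservesFiniteColimits L]
    (K : CochainComplex ℬ ℤ) (hK : K.Acyclic) :
    ((L.mapHomologicalComplex (ComplexShape.up ℤ)).obj K).Acyclic := by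
  intro i
  exact (hK i).map L

include adj in
/-- a right adjoint of an exact functor preserves K-injective complexes. -/
theorem isKInjective_map (I : CochainComplex 𝒜 ℤ) (hI : I.IsKInjective) :
    CochainComplex.IsKInjective ((R.mapHomologicalComplex (ComplexShape.up ℤ)).obj I) where
  nonempty_homotopy_zero {K} f hK := by
    let g : ∀ n, K.X n ⟶ R.obj (I.X n) := fun n => f.f n
    have hg : ∀ i j, g i ≫ R.map (I.d i j) = K.d i j ≫ g j := fun i j => f.comm i j
    -- the adjoint chain map
    let f' : (L.mapHomologicalComplex (ComplexShape.up ℤ)).obj K ⟶ I :=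
      { f := fun n => (adj.homEquiv (K.X n) (I.X n)).symm (g n)
        comm' := by
          intro i j _
          show (adj.homEquiv _ _).symm (g i) ≫ I.d i j =
            L.map (K.d i j) ≫ (adj.homEquiv _ _).symm (g j)
          rw [← adj.homEquiv_naturality_left_symm, ← adj.homEquiv_naturality_right_symm, hg] }
    obtain ⟨h'⟩ := hI.nonempty_homotopy_zero f' (acyclic_map L K hK)
    let k : ∀ i j, L.obj (K.X i) ⟶ I.X j := fun i j => h'.hom i j
    have hk0 : ∀ i j, ¬(ComplexShape.up ℤ).Rel j i → k i j = 0 := fun i j hij => h'.zero i j hij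
    have hkc : ∀ i, (adj.homEquiv (K.X i) (I.X i)).symm (g i) =
        L.map (K.d i (i + 1)) ≫ k (i + 1) i + k i (i - 1) ≫ I.d (i - 1) i := by
      intro i
      have hc := h'.comm i
      rw [dNext_eq _ (show (ComplexShape.up ℤ).Rel i (i + 1) from rfl),
        prevD_eq _ (show (ComplexShape.up ℤ).Rel (i - 1) i from by simp)] at hc
      simp only [HomologicalComplex.zero_f, add_zero, Functor.mapHomologicalComplex_obj_d] at hc
      exact hc
    let η : ∀ X : ℬ, X ⟶ R.obj (L.obj X) := fun X => adj.unit.app X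
    have hη : ∀ {X Y : ℬ} (a : X ⟶ Y), a ≫ η Y = η X ≫ R.map (L.map a) :=
      fun a => adj.unit.naturality a
    have hf : ∀ n, g n = η (K.X n) ≫ R.map ((adj.homEquiv (K.X n) (I.X n)).symm (g n)) := by
      intro n
      exact (Equiv.apply_symm_apply (adj.homEquiv (K.X n) (I.X n)) (g n)).symm.trans
        (adj.homEquiv_unit _ _ _)
    refine ⟨{ hom := fun i j => η (K.X i) ≫ R.map (k i j)
              zero := ?_
              comm := ?_ }⟩
    · intro i j hij
      rw [hk0 i j hij, R.map_zero]
      exact Limits.comp_zero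
    · intro i
      rw [dNext_eq _ (show (ComplexShape.up ℤ).Rel i (i + 1) from rfl),
        prevD_eq _ (show (ComplexShape.up ℤ).Rel (i - 1) i from by simp)]
      show g i = K.d i (i + 1) ≫ (η (K.X (i + 1)) ≫ R.map (k (i + 1) i)) +
        (η (K.X i) ≫ R.map (k i (i - 1))) ≫ R.map (I.d (i - 1) i) + 0
      rw [hf i, hkc i, add_zero, R.map_add, Preadditive.comp_add, R.map_comp, R.map_comp,
        Category.assoc, ← Category.assoc (K.d i (i + 1)), hη, Category.assoc]

end Groth.Agent.KInjAdj
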