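import Mathlib

/-! Left resolutions of bounded above complexes by objects of a generating class. -/

set_option autoImplicit false
universe v u
open CategoryTheory CategoryTheory.Limits

namespace Groth.Agent.LeftRes

section QI
variable {A : Type u} [Category.{v} A] [Abelian A]

def G {Q K : CochainComplex A ℤ} (α : Q ⟶ K) : Prop :=
  ∀ (j k l : ℤ) (_ : j + 1 = k) (_ : k + 1 = l) ⦃B : A⦄ (q' : B ⟶ Q.X k) (κ : B ⟶ K.X j),
    q' ≫ Q.d k l = 0 → q' ≫ α.f k = κ ≫ K.d j k →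
    ∃ (B' : A) (π : B' ⟶ B) (_ : Epi π) (x : B' ⟶ Q.X j),
      x ≫ Q.d j k = π ≫ q' ∧ x ≫ α.f j = π ≫ κ

lemma quasiIso_of_G {Q K : CochainComplex A ℤ} (α : Q ⟶ K) (h : G α) : QuasiIso α := by
  rw [quasiIso_iff]
  intro m
  rw [quasiIsoAt_iff_isIso_homologyMap]
  have hm : Mono (HomologicalComplex.homologyMap α m) := by
    rw [HomologicalComplex.mono_homologyMap_iff_up_to_refinements α (m-1) m (m+1) (by simp) (by simp)]
    intro B x₂ hx₂ y₁ hy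
    obtain ⟨B', π, hπ, x, h1, -⟩ := h (m-1) m (m+1) (by omega) rfl x₂ y₁ hx₂ hy
    exact ⟨B', π, hπ, x, h1.symm⟩
  have he : Epi (HomologicalComplex.homologyMap α m) := by
    rw [HomologicalComplex.epi_homologyMap_iff_up_to_refinements α (m-1) m (m+1) (by simp) (by simp)]
    intro B y₂ hy₂
    obtain ⟨B', π, hπ, x, h1, h2⟩ := h m (m+1) (m+1+1) rfl rfl (0 : B ⟶ Q.X (m+1)) y₂
      (by rw [zero_comp]) (by rw [zero_comp, hy₂])
    refine ⟨B', π, hπ, x, by rw [h1, comp_zero], 0, ?_⟩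
    rw [zero_comp, add_zero, h2]
  exact isIso_of_mono_of_epi _

lemma epi_f_of_G {Q K : CochainComplex A ℤ} (α : Q ⟶ K) (h : G α) (m : ℤ) : Epi (α.f m) := by
  rw [epi_iff_surjective_up_to_refinements]
  intro B y
  obtain ⟨B₁, π₁, hπ₁, x₂, h1, h2⟩ := h (m+1) (m+1+1) (m+1+1+1) rfl rfl (0 : B ⟶ Q.X (m+1+1))
    (y ≫ K.d m (m+1)) (by rw [zero_comp]) (by rw [zero_comp, Category.assoc, K.d_comp_d, comp_zero])
  rw [comp_zero] at h1
  obtain ⟨B₂, π₂, hπ₂, x, -, h4⟩ := h m (m+1) (m+1+1) rfl rfl x₂ (π₁ ≫ y) h1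
    (by rw [h2, Category.assoc])
  haveI : Epi (π₂ ≫ π₁) := epi_comp _ _
  exact ⟨B₂, π₂ ≫ π₁, inferInstance, x, by rw [h4, Category.assoc]⟩

end QI

noncomputable section Constr
variable {A : Type u} [Category.{v} A] [Abelian A] (P : A → Prop)
  (hP : ∀ X : A, ∃ (Y : A) (π : Y ⟶ X), P Y ∧ Epi π) (K : CochainComplex A ℤ)

def cov (X : A) : A := (hP X).choose
def covπ (X : A) : cov P hP X ⟶ X := (hP X).choose_spec.choose
lemma cov_mem (X : A) : P (cov P hP X) := (hP X).choose_spec.choose_spec.1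
instance covπ_epi (X : A) : Epi (covπ P hP X) := (hP X).choose_spec.choose_spec.2

structure St (n : ℕ) where
  Qc : A
  Qn : A
  d : Qc ⟶ Qn
  α : Qc ⟶ K.X (-(n : ℤ))
  hc : P Qc

variable {P K}

def ψ {n : ℕ} (s : St P K n) : s.Qc ⊞ K.X (-((n + 1 : ℕ) : ℤ)) ⟶ s.Qn ⊞ K.X (-(n : ℤ)) :=
  biprod.lift (biprod.fst ≫ s.d)
    (biprod.fst ≫ s.α - biprod.snd ≫ K.d (-((n + 1 : ℕ) : ℤ)) (-(n : ℤ)))

def step {n : ℕ} (s : St P K n) : St P K (n + 1) where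
  Qc := cov P hP (kernel (ψ s))
  Qn := s.Qc
  d := covπ P hP _ ≫ kernel.ι (ψ s) ≫ biprod.fst
  α := covπ P hP _ ≫ kernel.ι (ψ s) ≫ biprod.snd
  hc := cov_mem P hP _

lemma ψ_fst {n : ℕ} (s : St P K n) : ψ s ≫ biprod.fst = biprod.fst ≫ s.d := by
  simp [ψ]

lemma ψ_snd {n : ℕ} (s : St P K n) : ψ s ≫ biprod.snd =
    biprod.fst ≫ s.α - biprod.snd ≫ K.d (-((n + 1 : ℕ) : ℤ)) (-(n : ℤ)) := by
  simp [ψ]

lemma step_d_comp {n : ℕ} (s : St P K n) : (step hP s).d ≫ s.d = 0 := by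
  have h : kernel.ι (ψ s) ≫ biprod.fst ≫ s.d = 0 := by
    rw [← ψ_fst, kernel.condition_assoc, zero_comp]
  show (covπ P hP _ ≫ kernel.ι (ψ s) ≫ biprod.fst) ≫ s.d = 0
  simp only [Category.assoc]
  rw [h, comp_zero]

lemma step_comm {n : ℕ} (s : St P K n) :
    (step hP s).α ≫ K.d (-((n + 1 : ℕ) : ℤ)) (-(n : ℤ)) = (step hP s).d ≫ s.α := by
  have h : kernel.ι (ψ s) ≫ (biprod.fst ≫ s.α - biprod.snd ≫ K.d (-((n + 1 : ℕ) : ℤ)) (-(n : ℤ))) = 0 := by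
    rw [← ψ_snd, kernel.condition_assoc, zero_comp]
  rw [Preadditive.comp_sub, sub_eq_zero] at h
  show (covπ P hP _ ≫ kernel.ι (ψ s) ≫ biprod.snd) ≫ _ = (covπ P hP _ ≫ kernel.ι (ψ s) ≫ biprod.fst) ≫ s.α
  simp only [Category.assoc]
  rw [h]

lemma step_G {n : ℕ} (s : St P K n) ⦃B : A⦄ (q' : B ⟶ s.Qc) (κ : B ⟶ K.X (-((n + 1 : ℕ) : ℤ)))
    (h1 : q' ≫ s.d = 0) (h2 : q' ≫ s.α = κ ≫ K.d (-((n + 1 : ℕ) : ℤ)) (-(n : ℤ))) :
    ∃ (B' : A) (π : B' ⟶ B) (_ : Epi π) (x : B' ⟶ (step hP s).Qc),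
      x ≫ (step hP s).d = π ≫ q' ∧ x ≫ (step hP s).α = π ≫ κ := by
  have h0 : biprod.lift q' κ ≫ ψ s = 0 := by
    dsimp only [ψ]
    ext
    · simp [h1]
    · simp [h2]
  obtain ⟨B', π, hπ, x, hx⟩ := surjective_up_to_refinements_of_epi (covπ P hP (kernel (ψ s)))
    (kernel.lift (ψ s) (biprod.lift q' κ) h0)
  refine ⟨B', π, hπ, x, ?_, ?_⟩
  · show x ≫ covπ P hP _ ≫ kernel.ι (ψ s) ≫ biprod.fst = π ≫ q'
    rw [← Category.assoc, ← hx]
    simp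
  · show x ≫ covπ P hP _ ≫ kernel.ι (ψ s) ≫ biprod.snd = π ≫ κ
    rw [← Category.assoc, ← hx]
    simp

variable (hP0 : ∃ Z : A, IsZero Z ∧ P Z)

def Z0 : A := hP0.choose
lemma Z0_isZero : IsZero (Z0 hP0) := hP0.choose_spec.1
lemma Z0_mem : P (Z0 hP0) := hP0.choose_spec.2

variable (K) in
def state : ∀ n : ℕ, St P K n
  | 0 => { Qc := Z0 hP0, Qn := Z0 hP0, d := 0, α := 0, hc := Z0_mem hP0 }
  | (n+1) => step hP (state n)

variable (K) in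
def X' : ℤ → A
  | Int.ofNat _ => Z0 hP0
  | Int.negSucc n => (state hP K hP0 (n+1)).Qc

lemma X'_mem : ∀ j, P (X' hP K hP0 j)
  | Int.ofNat _ => Z0_mem hP0
  | Int.negSucc n => (state hP K hP0 (n+1)).hc

lemma X'_isZero : ∀ j : ℤ, -1 < j → IsZero (X' hP K hP0 j)
  | Int.ofNat _, _ => Z0_isZero hP0
  | Int.negSucc n, h => by
    exfalso
    have := Int.negSucc_lt_zero n
    omega

variable (K) in
def d' : ∀ j : ℤ, X' hP K hP0 j ⟶ X' hP K hP0 (j+1)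
  | Int.ofNat _ => 0
  | Int.negSucc 0 => (state hP K hP0 1).d
  | Int.negSucc (m+1) => (state hP K hP0 (m+2)).d

lemma d'_sq : ∀ j : ℤ, d' hP K hP0 j ≫ d' hP K hP0 (j+1) = 0
  | Int.ofNat _ => zero_comp
  | Int.negSucc 0 => comp_zero
  | Int.negSucc 1 => step_d_comp hP (state hP K hP0 1)
  | Int.negSucc (m+2) => step_d_comp hP (state hP K hP0 (m+2))

variable (K) in
def Q0 : CochainComplex A ℤ := CochainComplex.of (X' hP K hP0) (d' hP K hP0) (d'_sq hP hP0)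

lemma Q0_d (j : ℤ) : (Q0 hP K hP0).d j (j+1) = d' hP K hP0 j :=
  CochainComplex.of_d (X' hP K hP0) (d' hP K hP0) j

variable (K) in
def αf : ∀ j : ℤ, X' hP K hP0 j ⟶ K.X j
  | Int.ofNat _ => 0
  | Int.negSucc n => (state hP K hP0 (n+1)).α

lemma αf_comm [K.IsStrictlyLE (-1)] : ∀ j : ℤ,
    αf hP K hP0 j ≫ K.d j (j+1) = d' hP K hP0 j ≫ αf hP K hP0 (j+1)
  | Int.ofNat _ => by
    show (0 : _ ⟶ _) ≫ _ = (0 : _ ⟶ _) ≫ _
    rw [zero_comp, zero_comp]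
  | Int.negSucc 0 => by
    have hz : IsZero (K.X (Int.negSucc 0 + 1)) := K.isZero_of_isStrictlyLE (-1) _ (by decide)
    exact hz.eq_of_tgt _ _
  | Int.negSucc (m+1) => step_comm hP (state hP K hP0 (m+1))

variable (K) in
def α0 [K.IsStrictlyLE (-1)] : Q0 hP K hP0 ⟶ K where
  f := αf hP K hP0
  comm' i j hij := by
    obtain rfl : i + 1 = j := hij
    rw [Q0_d]
    exact αf_comm hP hP0 (K := K) i

lemma α0_G [K.IsStrictlyLE (-1)] : G (α0 hP K hP0) := by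
  intro j k l hjk hkl
  subst hjk hkl
  cases j with
  | ofNat n =>
    intro B q' κ _ _
    have hzQ : IsZero ((Q0 hP K hP0).X (Int.ofNat n + 1)) := Z0_isZero hP0
    have hzK : IsZero (K.X (Int.ofNat n)) := K.isZero_of_isStrictlyLE (-1) _ (by
      have : (0 : ℤ) ≤ Int.ofNat n := Int.natCast_nonneg n
      omega)
    exact ⟨B, 𝟙 B, inferInstance, 0, hzQ.eq_of_tgt _ _, hzK.eq_of_tgt _ _⟩
  | negSucc n =>
    cases n with
    | zero =>
      intro B q' κ h1 h2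
      obtain ⟨B', π, hπ, x, h3, h4⟩ := step_G hP (state hP K hP0 0) q' κ comp_zero h2
      refine ⟨B', π, hπ, x, ?_, h4⟩
      rw [Q0_d]
      exact h3
    | succ m =>
      cases m with
      | zero =>
        intro B q' κ h1 h2
        rw [Q0_d] at h1
        obtain ⟨B', π, hπ, x, h3, h4⟩ := step_G hP (state hP K hP0 1) q' κ h1 h2
        refine ⟨B', π, hπ, x, ?_, h4⟩
        rw [Q0_d]
        exact h3
      | succ m' =>
        intro B q' κ h1 h2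
        rw [Q0_d] at h1
        obtain ⟨B', π, hπ, x, h3, h4⟩ := step_G hP (state hP K hP0 (m'+2)) q' κ h1 h2
        refine ⟨B', π, hπ, x, ?_, h4⟩
        rw [Q0_d]
        exact h3

end Constr

theorem exists_leftRes {A : Type u} [Category.{v} A] [Abelian A] (P : A → Prop)
    (hP0 : ∃ Z : A, Limits.IsZero Z ∧ P Z) (hP : ∀ X : A, ∃ (Y : A) (π : Y ⟶ X), P Y ∧ Epi π)
    (K : CochainComplex A ℤ) (a : ℤ) [K.IsStrictlyLE a] :
    ∃ (Q : CochainComplex A ℤ) (α : Q ⟶ K), Q.IsStrictlyLE a ∧ (∀ n, P (Q.X n)) ∧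
      (∀ n, Epi (α.f n)) ∧ QuasiIso α := by
  let K₀ : CochainComplex A ℤ := K⟦a + 1⟧
  haveI : K₀.IsStrictlyLE (-1) := K.isStrictlyLE_shift a (a+1) (-1) (by omega)
  let Q₀ := Q0 hP K₀ hP0
  let α₀ : Q₀ ⟶ K₀ := α0 hP K₀ hP0
  have hG : G α₀ := α0_G hP hP0 (K := K₀)
  haveI hq : QuasiIso α₀ := quasiIso_of_G _ hG
  haveI : Q₀.IsStrictlyLE (-1) := by
    rw [CochainComplex.isStrictlyLE_iff]
    intro i hi
    exact X'_isZero hP hP0 i hi
  let e : K₀⟦-(a+1)⟧ ≅ K :=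
    (shiftFunctorCompIsoId (CochainComplex A ℤ) (a+1) (-(a+1)) (by omega)).app K
  refine ⟨Q₀⟦-(a+1)⟧, α₀⟦-(a+1)⟧' ≫ e.hom, ?_, ?_, ?_, ?_⟩
  · exact Q₀.isStrictlyLE_shift (-1) (-(a+1)) a (by omega)
  · intro n
    exact X'_mem hP hP0 _
  · intro n
    haveI : Epi (α₀.f (n + -(a+1))) := epi_f_of_G _ hG _
    haveI : Epi ((α₀⟦-(a+1)⟧').f n) := by
      show Epi (α₀.f (n + -(a+1)))
      infer_instance
    haveI : IsIso (e.hom.f n) := inferInstance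
    show Epi ((α₀⟦-(a+1)⟧').f n ≫ e.hom.f n)
    infer_instance
  · infer_instance

end Groth.Agent.LeftRes
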