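import Mathlib
set_option autoImplicit false
universe u
open CategoryTheory Opposite Limits

namespace Groth.Agent.ModSheaf

variable {C : Type u} [SmallCategory C] {J : GrothendieckTopology C} (O : Sheaf J RingCat.{u})

instance : Presheaf.IsLocallyInjective J (𝟙 O.obj) := inferInstance
instance : Presheaf.IsLocallySurjective J (𝟙 O.obj) := inferInstance

/-- The free sheaf of modules on an object. -/
noncomputable abbrev freeMod (U : C) : SheafOfModules.{u} O :=
  (PresheafOfModules.sheafification (𝟙 O.obj)).obj
    ((PresheafOfModules.free O.obj).obj (yoneda.obj U))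

noncomputable abbrev freeModMap {U U' : C} (a : U' ⟶ U) : freeMod O U' ⟶ freeMod O U :=
  (PresheafOfModules.sheafification (𝟙 O.obj)).map
    ((PresheafOfModules.free O.obj).map (yoneda.map a))

variable {O}

noncomputable def secEquiv (U : C) (M : SheafOfModules.{u} O) :
    (freeMod O U ⟶ M) ≃ M.val.obj (op U) :=
  ((PresheafOfModules.sheafificationAdjunction (𝟙 O.obj)).homEquiv _ _).trans
    (PresheafOfModules.freeYonedaEquiv
      (M := (PresheafOfModules.restrictScalars (𝟙 O.obj)).obj M.val))

lemma freeYonedaEquiv_eq {R : Cᵒᵖ ⥤ RingCat.{u}} {N : PresheafOfModules.{u} R}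
    {U : C} (h : (PresheafOfModules.free R).obj (yoneda.obj U) ⟶ N) :
    PresheafOfModules.freeYonedaEquiv h = h.app (op U) (ModuleCat.freeMk (𝟙 U)) := rfl

lemma freeYonedaEquiv_naturality {R : Cᵒᵖ ⥤ RingCat.{u}} {N : PresheafOfModules.{u} R}
    {U U' : C} (a : U' ⟶ U) (h : (PresheafOfModules.free R).obj (yoneda.obj U) ⟶ N) :
    PresheafOfModules.freeYonedaEquiv ((PresheafOfModules.free R).map (yoneda.map a) ≫ h) =
      N.map a.op (PresheafOfModules.freeYonedaEquiv h) := by
  rw [freeYonedaEquiv_eq, freeYonedaEquiv_eq]
  have := PresheafOfModules.naturality_apply h a.op (ModuleCat.freeMk (𝟙 U))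
  rw [← this]
  have e1 : ((PresheafOfModules.free R).map (yoneda.map a)).app (op U') (ModuleCat.freeMk (𝟙 U')) =
      ModuleCat.freeMk (X := (yoneda.obj U).obj (op U')) a := by
    erw [ModuleCat.free_map_apply]
    first | rfl | (simp; done) | (simp; rfl)
  have e2 : ((PresheafOfModules.free R).obj (yoneda.obj U)).map a.op (ModuleCat.freeMk (𝟙 U)) =
      ModuleCat.freeMk (X := (yoneda.obj U).obj (op U')) a := by
    erw [ModuleCat.freeDesc_apply]
    simp
    show ModuleCat.freeMk (a ≫ 𝟙 U) = _
    rw [Category.comp_id]
  erw [e2]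
  show (h.app (op U')) (((PresheafOfModules.free R).map (yoneda.map a)).app (op U')
    (ModuleCat.freeMk (𝟙 U'))) = _
  rw [e1]

lemma secEquiv_freeModMap {U U' : C} (a : U' ⟶ U) (M : SheafOfModules.{u} O)
    (g : freeMod O U ⟶ M) :
    secEquiv U' M (freeModMap O a ≫ g) = M.val.map a.op (secEquiv U M g) := by
  show PresheafOfModules.freeYonedaEquiv
    ((PresheafOfModules.sheafificationAdjunction (𝟙 O.obj)).homEquiv _ _ (freeModMap O a ≫ g)) = _
  rw [Adjunction.homEquiv_naturality_left, freeYonedaEquiv_naturality]
  rfl

instance freeModMap_mono {U U' : C} (a : U' ⟶ U) [Mono a] : Mono (freeModMap O a) := by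
  have h1 : Mono (yoneda.map a) := inferInstance
  have h2 : Mono ((PresheafOfModules.free O.obj).map (yoneda.map a)) := by
    apply PresheafOfModules.mono_of_injective
    intro X
    have hinj : Function.Injective ((yoneda.map a).app X) := by
      intro x y hxy
      exact (cancel_mono a).mp hxy
    exact Finsupp.mapDomain_injective hinj
  unfold freeModMap
  infer_instance

theorem surjective_map_of_injective (I : SheafOfModules.{u} O) [Injective I] {U U' : C}
    (a : U' ⟶ U) [Mono a] : Function.Surjective (I.val.map a.op) := by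
  intro s
  obtain ⟨g, rfl⟩ := (secEquiv U' I).surjective s
  refine ⟨secEquiv U I (Injective.factorThru g (freeModMap O a)), ?_⟩
  rw [← secEquiv_freeModMap, Injective.comp_factorThru]

section Grothendieck
variable (O)

noncomputable instance toSheaf_preservesColimitsOfShape (K : Type u) [Category.{u} K] :
    PreservesColimitsOfShape K (SheafOfModules.toSheaf.{u} O) where
  preservesColimit {F} := by
    let G := F ⋙ SheafOfModules.forget O
    let e : F ≅ G ⋙ PresheafOfModules.sheafification (𝟙 O.obj) :=
      Functor.isoWhiskerLeft F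
        (asIso (PresheafOfModules.sheafificationAdjunction (𝟙 O.obj)).counit).symm
    have h1 : PreservesColimitsOfShape K
        (PresheafOfModules.sheafification.{u} (𝟙 O.obj) ⋙ SheafOfModules.toSheaf.{u} O) :=
      preservesColimitsOfShape_of_natIso
        (PresheafOfModules.sheafificationCompToSheaf.{u} (𝟙 O.obj)).symm
    have h2 : PreservesColimit (G ⋙ PresheafOfModules.sheafification (𝟙 O.obj))
        (SheafOfModules.toSheaf.{u} O) :=
      preservesColimit_of_preserves_colimit_cocone
        (isColimitOfPreserves (PresheafOfModules.sheafification (𝟙 O.obj)) (colimit.isColimit G))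
        (isColimitOfPreserves (PresheafOfModules.sheafification.{u} (𝟙 O.obj) ⋙
          SheafOfModules.toSheaf.{u} O) (colimit.isColimit G))
    exact preservesColimit_of_iso_diagram _ e.symm

instance sheafOfModules_ab5 : AB5OfSize.{u, u} (SheafOfModules.{u} O) where
  ofShape K _ _ :=
    HasExactColimitsOfShape.domain_of_functor K (SheafOfModules.toSheaf.{u} O)

variable {O} in
lemma secEquiv_comp (U : C) {M N : SheafOfModules.{u} O} (g : freeMod O U ⟶ M) (φ : M ⟶ N) :
    secEquiv U N (g ≫ φ) = φ.val.app (op U) (secEquiv U M g) := by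
  show PresheafOfModules.freeYonedaEquiv
    ((PresheafOfModules.sheafificationAdjunction (𝟙 O.obj)).homEquiv _ _ (g ≫ φ)) = _
  rw [Adjunction.homEquiv_naturality_right, PresheafOfModules.freeYonedaEquiv_comp]
  rfl

lemma isSeparating_freeMod :
    ObjectProperty.IsSeparating (ObjectProperty.ofObj (fun U : C => freeMod O U)) := by
  intro M N f₁ f₂ h
  apply (SheafOfModules.forget O).map_injective
  ext ⟨U⟩ m
  obtain ⟨g, rfl⟩ := (secEquiv U M).surjective m
  have := h _ ⟨U⟩ g
  have h2 := congrArg (secEquiv U N) this
  rw [secEquiv_comp, secEquiv_comp] at h2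
  exact h2

instance sheafOfModules_hasSeparator : HasSeparator (SheafOfModules.{u} O) :=
  ⟨_, (isSeparating_freeMod O).isSeparator_coproduct⟩

instance sheafOfModulesGrothendieck : IsGrothendieckAbelian.{u} (SheafOfModules.{u} O) where

end Grothendieck

end Groth.Agent.ModSheaf
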