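import Groth.Prelude.Def_ModSite
import Mathlib

set_option autoImplicit false
universe u
open CategoryTheory CategoryTheory.Limits Opposite ModSite

namespace Groth.Agent.ModSiteFree
noncomputable section

variable {C : Type u} [SmallCategory C] {J : GrothendieckTopology C} (O : Sheaf J CommRingCat.{u})

/-- value of a section of the restriction at the terminal object of `Over X`. -/
def evalTerm (X : C) (M : Mod O) (s : ((restr O X).obj M).sections) : M.val.obj (op X) :=
  s.val (op (Over.mk (𝟙 X)))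

lemma restr_map_apply (X : C) (M : Mod O) {V W : Over X} (g : V ⟶ W)
    (m : M.val.obj (op W.left)) :
    (((restr O X).obj M).val.map g.op) m = M.val.map g.left.op m := rfl

lemma evalTerm_injective (X : C) (M : Mod O) : Function.Injective (evalTerm O X M) := by
  intro s t h
  apply PresheafOfModules.sections_ext
  rintro ⟨V⟩
  have hs := PresheafOfModules.sections_property s
    (Over.homMk V.hom : V ⟶ Over.mk (𝟙 X)).op
  have ht := PresheafOfModules.sections_property t
    (Over.homMk V.hom : V ⟶ Over.mk (𝟙 X)).op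
  rw [← hs, ← ht]
  exact congrArg _ h


/-- the section of the restriction determined by an element of `M(X)`. -/
def mkSec (X : C) (M : Mod O) (m : M.val.obj (op X)) : ((restr O X).obj M).sections :=
  PresheafOfModules.sectionsMk (M := ((restr O X).obj M).val)
    (fun V => (M.val.map V.unop.hom.op m : M.val.obj (op V.unop.left)))
    (by
      rintro ⟨V⟩ ⟨W⟩ f
      show M.val.map f.unop.left.op (M.val.map V.hom.op m) = M.val.map W.hom.op m
      rw [← PresheafOfModules.map_comp_apply]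
      exact PresheafOfModules.congr_map_apply _ (by rw [← op_comp, Over.w]) m)

lemma evalTerm_mkSec (X : C) (M : Mod O) (m : M.val.obj (op X)) :
    evalTerm O X M (mkSec O X M m) = m := by
  show M.val.map (𝟙 X).op m = m
  have : (𝟙 X).op = 𝟙 (op X) := rfl
  rw [this, M.val.map_id]
  rfl

/-- `Hom(freeOn O X, M) ≃ M(X)`. -/
def ev (X : C) (M : Mod O) : (freeOn O X ⟶ M) ≃ M.val.obj (op X) :=
  (((extZeroAdj O X).homEquiv _ _).trans ((restr O X).obj M).unitHomEquiv).trans
    (Equiv.ofBijective (evalTerm O X M)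
      ⟨evalTerm_injective O X M, fun m => ⟨mkSec O X M m, evalTerm_mkSec O X M m⟩⟩)

lemma ev_comp (X : C) {M N : Mod O} (g : freeOn O X ⟶ M) (f : M ⟶ N) :
    ev O X N (g ≫ f) = f.val.app (op X) (ev O X M g) := by
  show evalTerm O X N (((restr O X).obj N).unitHomEquiv
    ((extZeroAdj O X).homEquiv _ _ (g ≫ f))) = _
  rw [Adjunction.homEquiv_naturality_right, SheafOfModules.unitHomEquiv_comp_apply]
  rfl


section SheafElements

variable {O}

lemma typeSheaf (M : Mod O) :
    Presieve.IsSheaf J (M.val.presheaf ⋙ forget AddCommGrpCat.{u}) :=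
  (isSheaf_iff_isSheaf_of_type _ _).1
    ((Presheaf.isSheaf_iff_isSheaf_forget J M.val.presheaf (forget AddCommGrpCat.{u})).1 M.isSheaf)

lemma sep (M : Mod O) {U : C} (S : Sieve U) (hS : S ∈ J U) (x y : M.val.obj (op U))
    (h : ∀ ⦃V : C⦄ (g : V ⟶ U), S g → M.val.map g.op x = M.val.map g.op y) : x = y :=
  ((typeSheaf M).isSeparated S hS).ext (fun V g hg => h g hg)

lemma glue (M : Mod O) {U : C} (S : Sieve U) (hS : S ∈ J U)
    (x : ∀ ⦃V : C⦄ (g : V ⟶ U), S g → M.val.obj (op V))
    (hx : ∀ ⦃V W : C⦄ (g : V ⟶ U) (hg : S g) (h : W ⟶ V),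
      M.val.map h.op (x g hg) = x (h ≫ g) (S.downward_closed hg h)) :
    ∃ m : M.val.obj (op U), ∀ ⦃V : C⦄ (g : V ⟶ U) (hg : S g), M.val.map g.op m = x g hg := by
  let fam : Presieve.FamilyOfElements (M.val.presheaf ⋙ forget AddCommGrpCat.{u}) S.arrows :=
    fun V g hg => x g hg
  have hfam : fam.Compatible := by
    rw [Presieve.compatible_iff_sieveCompatible]
    intro V W g h hg
    exact (hx g hg h).symm
  obtain ⟨m, hm, -⟩ := (typeSheaf M) S hS fam hfam
  exact ⟨m, fun V g hg => hm g hg⟩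

end SheafElements


section Generating

variable {O}
variable (G : Set C)

/-- the sieve of arrows factoring through a member of `G`. -/
def TG (U : C) : Sieve U where
  arrows V g := ∃ (W : C) (_ : W ∈ G) (a : V ⟶ W) (b : W ⟶ U), a ≫ b = g
  downward_closed := by
    rintro V V' g ⟨W, hW, a, b, rfl⟩ h
    exact ⟨W, hW, h ≫ a, b, Category.assoc _ _ _⟩

lemma TG_mem (hG : ∀ X : C, ∃ (ι : Type u) (Y : ι → C) (f : ∀ i, Y i ⟶ X),
    Sieve.ofArrows Y f ∈ J X ∧ ∀ i, Y i ∈ G) (U : C) : TG G U ∈ J U := by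
  obtain ⟨ι, Y, f, hcov, hY⟩ := hG U
  refine J.superset_covering ?_ hcov
  rw [Sieve.ofArrows, Sieve.generate_le_iff]
  intro V g hg
  cases hg with
  | mk i => exact ⟨_, hY i, 𝟙 _, f i, Category.id_comp _⟩

lemma app_map {M N : Mod O} (f : M ⟶ N) {U V : C} (g : V ⟶ U) (m : M.val.obj (op U)) :
    f.val.app (op V) (M.val.map g.op m) = N.val.map g.op (f.val.app (op U) m) :=
  PresheafOfModules.naturality_apply f.val g.op m

variable (hG : ∀ X : C, ∃ (ι : Type u) (Y : ι → C) (f : ∀ i, Y i ⟶ X),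
    Sieve.ofArrows Y f ∈ J X ∧ ∀ i, Y i ∈ G)
include hG

theorem eq_of_agree {M N : Mod O} (f₁ f₂ : M ⟶ N)
    (h : ∀ W ∈ G, ∀ x : M.val.obj (op W), f₁.val.app (op W) x = f₂.val.app (op W) x) :
    f₁ = f₂ := by
  apply (SheafOfModules.forget _).map_injective
  ext ⟨U⟩ m
  refine sep N (TG G U) (TG_mem G hG U) _ _ ?_
  rintro V g ⟨W, hW, a, b, rfl⟩
  show N.val.map (a ≫ b).op (f₁.val.app (op U) m) = N.val.map (a ≫ b).op (f₂.val.app (op U) m)
  rw [← app_map, ← app_map, op_comp, PresheafOfModules.map_comp_apply,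
    app_map f₁ a, app_map f₂ a, h W hW]

theorem injective_of_injOn {M N : Mod O} (f : M ⟶ N)
    (h : ∀ W ∈ G, Function.Injective (f.val.app (op W))) (U : C) :
    Function.Injective (f.val.app (op U)) := by
  intro x y hxy
  refine sep M (TG G U) (TG_mem G hG U) _ _ ?_
  rintro V g ⟨W, hW, a, b, rfl⟩
  rw [op_comp, PresheafOfModules.map_comp_apply, PresheafOfModules.map_comp_apply]
  congr 1
  apply h W hW
  rw [app_map, app_map, hxy]

theorem surjective_of_bijOn {M N : Mod O} (f : M ⟶ N)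
    (h : ∀ W ∈ G, Function.Bijective (f.val.app (op W))) (U : C) :
    Function.Surjective (f.val.app (op U)) := by
  have hinj := injective_of_injOn G hG f (fun W hW => (h W hW).1)
  intro n
  -- local preimages
  have hloc : ∀ ⦃V : C⦄ (g : V ⟶ U), TG G U g →
      ∃ x : M.val.obj (op V), f.val.app (op V) x = N.val.map g.op n := by
    rintro V g ⟨W, hW, a, b, rfl⟩
    obtain ⟨y, hy⟩ := (h W hW).2 (N.val.map b.op n)
    refine ⟨M.val.map a.op y, ?_⟩
    rw [app_map, hy, op_comp, PresheafOfModules.map_comp_apply]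
  obtain ⟨m, hm⟩ := glue M (TG G U) (TG_mem G hG U)
    (fun V g hg => (hloc g hg).choose) (by
      intro V W g hg k
      apply hinj W
      rw [app_map, (hloc g hg).choose_spec,
        (hloc (k ≫ g) ((TG G U).downward_closed hg k)).choose_spec, op_comp,
        PresheafOfModules.map_comp_apply])
  refine ⟨m, ?_⟩
  refine sep N (TG G U) (TG_mem G hG U) _ _ ?_
  intro V g hg
  rw [← app_map, hm g hg, (hloc g hg).choose_spec]

theorem isIso_of_bijOn {M N : Mod O} (f : M ⟶ N)
    (h : ∀ W ∈ G, Function.Bijective (f.val.app (op W))) : IsIso f := by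
  have hb : ∀ U : C, Function.Bijective (f.val.app (op U)) := fun U =>
    ⟨injective_of_injOn G hG f (fun W hW => (h W hW).1) U, surjective_of_bijOn G hG f h U⟩
  let Fu := SheafOfModules.toSheaf.{u} (ringSh O) ⋙ sheafToPresheaf J AddCommGrpCat.{u}
  haveI : IsIso (Fu.map f) := by
    haveI : ∀ U, IsIso ((Fu.map f).app U) := by
      rintro ⟨U⟩
      exact (ConcreteCategory.isIso_iff_bijective _).2 (hb U)
    exact NatIso.isIso_of_isIso_app _
  exact isIso_of_reflects_iso f Fu

theorem isSeparating_freeOn :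
    (ObjectProperty.ofObj fun X : G => freeOn O (X : C)).IsSeparating := by
  intro M N f₁ f₂ h
  refine eq_of_agree G hG f₁ f₂ (fun W hW x => ?_)
  obtain ⟨g, rfl⟩ := (ev O W M).surjective x
  rw [← ev_comp, ← ev_comp, h _ ⟨⟨W, hW⟩⟩ g]

theorem isDetecting_freeOn :
    (ObjectProperty.ofObj fun X : G => freeOn O (X : C)).IsDetecting := by
  intro M N f h
  refine isIso_of_bijOn G hG f (fun W hW => ⟨?_, ?_⟩)
  · intro x y hxy
    obtain ⟨g₁, rfl⟩ := (ev O W M).surjective x
    obtain ⟨g₂, rfl⟩ := (ev O W M).surjective y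
    rw [← ev_comp, ← ev_comp] at hxy
    have h1 := (ev O W N).injective hxy
    obtain ⟨g, -, hu⟩ := h _ ⟨⟨W, hW⟩⟩ (g₁ ≫ f)
    rw [hu g₁ rfl, hu g₂ h1.symm]
  · intro n
    obtain ⟨k, rfl⟩ := (ev O W N).surjective n
    obtain ⟨g, hg, -⟩ := h _ ⟨⟨W, hW⟩⟩ k
    exact ⟨ev O W M g, by rw [← ev_comp, hg]⟩

end Generating

end

end Groth.Agent.ModSiteFree
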