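import Mathlib

/-! A finite-type ring map which is surjective modulo a nil ideal is surjective. -/

universe u

namespace Groth.Agent.Lib.NilSurj

theorem surjective_of_nil {A B : Type u} [CommRing A] [CommRing B] (φ : A →+* B)
    (hft : φ.FiniteType) (I : Ideal A) (hI : I ≤ nilradical A)
    (h : ∀ b : B, ∃ a : A, b - φ a ∈ I.map φ) : Function.Surjective φ := by
  algebraize [φ]
  have hnil : I.map (algebraMap A B) ≤ nilradical B := by
    rw [Ideal.map_le_iff_le_comap]
    intro a ha
    have := hI ha
    rw [Ideal.mem_comap, mem_nilradical] at *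
    exact this.map _
  have hint : Algebra.IsIntegral A B := by
    refine ⟨fun b => ?_⟩
    obtain ⟨a, ha⟩ := h b
    have h1 : IsIntegral A (b - algebraMap A B a) := by
      obtain ⟨n, hn⟩ := mem_nilradical.mp (hnil ha)
      refine ⟨Polynomial.X ^ n, Polynomial.monic_X_pow n, ?_⟩
      simp only [Polynomial.eval₂_pow, Polynomial.eval₂_X]
      exact hn
    have h2 : IsIntegral A (algebraMap A B a) := isIntegral_algebraMap
    have := h1.add h2
    simpa using this
  have hfin : Module.Finite A B := Algebra.IsIntegral.finite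
  have key : (⊤ : Submodule A B) ≤ LinearMap.range (Algebra.linearMap A B) := by
    apply Submodule.le_of_le_smul_of_le_jacobson_bot Module.Finite.fg_top
      (hI.trans ((nilradical_le_jacobson A).trans Ideal.jacobson_bot.ge))
    intro b _
    obtain ⟨a, ha⟩ := h b
    have h3 : b = algebraMap A B a + (b - algebraMap A B a) := by ring
    rw [h3]
    refine Submodule.add_mem_sup ⟨a, rfl⟩ ?_
    rw [Ideal.smul_top_eq_map]
    exact ha
  intro b
  obtain ⟨a, ha⟩ := key (Submodule.mem_top : b ∈ ⊤)
  exact ⟨a, ha⟩

end Groth.Agent.Lib.NilSurj
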