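import Groth.Agent.Lib.OverRestr
import Groth.Agent.Lib.KInjAdj

set_option autoImplicit false
universe u
open CategoryTheory Limits Opposite Abelian

namespace Groth.Agent.OverShriek

variable {C : Type u} [SmallCategory C] (J : GrothendieckTopology C) (U : C)

instance : (shriek U J).Additive := (shriekAdj U J).left_adjoint_additive

instance : PreservesFiniteColimits (shriek U J) := by
  have : PreservesColimitsOfSize.{u, u} (shriek U J) :=
    (shriekAdj U J).leftAdjoint_preservesColimits
  infer_instance

instance : PreservesFiniteLimits (shriek U J) := by
  have h41 := (Functor.preservesFiniteLimits_tfae (shriek U J)).out 0 3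
  rw [← h41]
  intro S hS
  have hc : PreservesFiniteColimits (shriek U J) := inferInstance
  have h30 := (Functor.preservesFiniteColimits_tfae (shriek U J)).out 3 0
  have h := h30.mp hc S hS
  have : Mono S.f := hS.mono_f
  exact ⟨h.1, inferInstance⟩

/-- restriction to the site of objects over `U` preserves K-injective complexes. -/
theorem isKInjective_restr (I : CochainComplex (Sheaf J AddCommGrpCat.{u}) ℤ)
    (hI : I.IsKInjective) :
    CochainComplex.IsKInjective
      (((restr J U).mapHomologicalComplex (ComplexShape.up ℤ)).obj I) :=
  Groth.Agent.KInjAdj.isKInjective_map (shriekAdj U J) I hI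

end Groth.Agent.OverShriek
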