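import Mathlib.CategoryTheory.Adjunction.Triple
import Mathlib.CategoryTheory.Sites.CoverLifting
import Mathlib.CategoryTheory.Sites.Over
import Mathlib.CategoryTheory.Sites.Pullback
import Mathlib.Algebra.Category.Grp.Limits

set_option autoImplicit false
open CategoryTheory CategoryTheory.Limits Opposite
universe w' w v u

namespace Groth.Agent.OverUnit

variable {C : Type u} [Category.{v} C] (J : GrothendieckTopology C) (U : C)
  (hU : ∀ V : C, Subsingleton (V ⟶ U))

include hU in
lemma forget_full : (Over.forget U).Full where
  map_surjective {a b} f := ⟨Over.homMk f ((hU _).elim _ _), rfl⟩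

variable (A : Type w) [Category.{w'} A]
  [∀ (F : (Over U)ᵒᵖ ⥤ A), (Over.forget U).op.HasPointwiseRightKanExtension F]
  [(Over.forget U).sheafPushforwardContinuous A (J.over U) J |>.IsRightAdjoint]

include hU in
theorem isIso_unit (F : Sheaf (J.over U) A) :
    IsIso (((Over.forget U).sheafAdjunctionContinuous A (J.over U) J).unit.app F) := by
  have := forget_full U hU
  have : (Over.forget U).op.Full := inferInstance
  let t : Adjunction.Triple ((Over.forget U).sheafPullback A (J.over U) J)
      ((Over.forget U).sheafPushforwardContinuous A (J.over U) J)
      ((Over.forget U).sheafPushforwardCocontinuous A (J.over U) J) :=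
    ⟨(Over.forget U).sheafAdjunctionContinuous A (J.over U) J,
      (Over.forget U).sheafAdjunctionCocontinuous A (J.over U) J⟩
  have h2 : IsIso t.adj₂.counit := by
    apply (config := { allowSynthFailures := true }) NatIso.isIso_of_isIso_app
    intro G
    have : IsIso ((sheafToPresheaf (J.over U) A).map (t.adj₂.counit.app G)) := by
      change IsIso (((Over.forget U).sheafAdjunctionCocontinuous A (J.over U) J).counit.app G).hom
      rw [Functor.sheafAdjunctionCocontinuous_counit_app_hom]
      have : (Over.forget U).op.Faithful := inferInstance
      have : ∀ (F : (Over U)ᵒᵖ ⥤ A), (Over.forget U).op.HasRightKanExtension F := fun F => inferInstance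
      rw [Functor.ranAdjunction_counit]
      exact (inferInstance : IsIso ((Over.forget U).op.ranCounit.app G.obj))
    exact isIso_of_fully_faithful (sheafToPresheaf (J.over U) A) _
  have h1 : IsIso t.adj₁.unit := t.isIso_unit_iff_isIso_counit.2 h2
  exact (inferInstance : IsIso (t.adj₁.unit.app F))

end Groth.Agent.OverUnit
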