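import Mathlib

/-!
# Simplicial homotopies from "mixing" data

A helper to build `SimplicialObject.Homotopy f g` when the target behaves like a power object.
-/

set_option autoImplicit false
universe v u
open CategoryTheory Opposite Simplicial

namespace Groth.Agent.PhiHomotopy

variable {C : Type u} [Category.{v} C]

/-- Mixing data: for every function `θ : Fin (m+1) → Fin (n+1)` and every choice function `χ`, a map
`X_n ⟶ Y_m`, compatible with the simplicial operators. -/
structure PhiData {X Y : SimplicialObject C} (f g : X ⟶ Y) where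
  Φ : ∀ {n m : ℕ} (_ : Fin (m + 1) → Fin (n + 1)) (_ : Fin (m + 1) → Bool), (X _⦋n⦌ ⟶ Y _⦋m⦌)
  left : ∀ {n n' m : ℕ} (α : ⦋n⦌ ⟶ ⦋n'⦌) (θ : Fin (m + 1) → Fin (n + 1)) (χ : Fin (m + 1) → Bool),
    X.map α.op ≫ Φ θ χ = Φ (α.toOrderHom ∘ θ) χ
  right : ∀ {n m m' : ℕ} (β : ⦋m'⦌ ⟶ ⦋m⦌) (θ : Fin (m + 1) → Fin (n + 1)) (χ : Fin (m + 1) → Bool),
    Φ θ χ ≫ Y.map β.op = Φ (θ ∘ β.toOrderHom) (χ ∘ β.toOrderHom)
  hf : ∀ n : ℕ, Φ (id : Fin (n + 1) → Fin (n + 1)) (fun _ => true) = f.app (op ⦋n⦌)
  hg : ∀ n : ℕ, Φ (id : Fin (n + 1) → Fin (n + 1)) (fun _ => false) = g.app (op ⦋n⦌)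

variable {X Y : SimplicialObject C} {f g : X ⟶ Y}

lemma δ_fun {n : ℕ} (i : Fin (n + 2)) (k : Fin (n + 1)) :
    (SimplexCategory.δ i).toOrderHom k = Fin.succAbove i k := rfl

lemma σ_fun {n : ℕ} (i : Fin (n + 1)) (k : Fin (n + 2)) :
    (SimplexCategory.σ i).toOrderHom k = Fin.predAbove i k := rfl

lemma val_succAbove' {n : ℕ} (i : Fin (n + 1)) (k : Fin n) :
    (Fin.succAbove i k).val = if k.val < i.val then k.val else k.val + 1 := by
  unfold Fin.succAbove
  split_ifs with h1 h2 h2
  · rfl
  · exact absurd (Fin.lt_def.1 h1) h2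
  · exact absurd (Fin.lt_def.2 h2) h1
  · rfl

lemma val_predAbove' {n : ℕ} (i : Fin n) (k : Fin (n + 1)) :
    (Fin.predAbove i k).val = if i.val < k.val then k.val - 1 else k.val := by
  unfold Fin.predAbove
  split_ifs with h1 h2 h2
  · rfl
  · exact absurd (Fin.lt_def.1 h1) h2
  · exact absurd (Fin.lt_def.2 h2) h1
  · rfl

lemma PhiData.Φ_congr (D : PhiData f g) {n m : ℕ} {θ θ' : Fin (m + 1) → Fin (n + 1)}
    {χ χ' : Fin (m + 1) → Bool} (h1 : θ = θ') (h2 : χ = χ') : D.Φ θ χ = D.Φ θ' χ' := by
  subst h1 h2; rfl

/-- The homotopy built from mixing data. -/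
noncomputable def PhiData.homotopy (D : PhiData f g) : SimplicialObject.Homotopy f g where
  h {n} i := D.Φ (Fin.predAbove i) (fun k => decide (k ≤ i.castSucc))
  h_zero_comp_δ_zero n := by
    rw [← D.hg]
    erw [D.right (SimplexCategory.δ 0)]
    refine D.Φ_congr (funext fun k => ?_) (funext fun k => ?_)
    · simp [δ_fun]
    · simp [δ_fun]
  h_last_comp_δ_last n := by
    rw [← D.hf]
    erw [D.right (SimplexCategory.δ (Fin.last (n + 1)))]
    refine D.Φ_congr (funext fun k => ?_) (funext fun k => ?_)
    · simp [δ_fun]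
    · simp [δ_fun, Fin.le_last]
  h_succ_comp_δ_castSucc_of_lt {n} i j hij := by
    have hh := hij
    simp only [Fin.le_def, Fin.lt_def, Fin.val_castSucc, Fin.val_succ] at hh
    erw [D.right (SimplexCategory.δ i.castSucc), D.left (SimplexCategory.δ i)]
    refine D.Φ_congr (funext fun k => ?_) (funext fun k => ?_)
    · simp only [Function.comp, δ_fun]
      apply Fin.ext
      simp only [val_succAbove', val_predAbove', Fin.val_castSucc, Fin.val_succ]
      split_ifs <;> omega
    · simp only [Function.comp, δ_fun]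
      simp only [Fin.le_def, val_succAbove', val_predAbove', Fin.val_castSucc, Fin.val_succ, decide_eq_decide]
      split_ifs <;> omega
  h_succ_comp_δ_castSucc_succ {n} j := by
    erw [D.right (SimplexCategory.δ j.castSucc.succ), D.right (SimplexCategory.δ j.castSucc.succ)]
    refine D.Φ_congr (funext fun k => ?_) (funext fun k => ?_)
    · simp only [Function.comp, δ_fun]
      apply Fin.ext
      simp only [val_succAbove', val_predAbove', Fin.val_castSucc, Fin.val_succ]
      split_ifs <;> omega
    · simp only [Function.comp, δ_fun]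
      simp only [Fin.le_def, val_succAbove', val_predAbove', Fin.val_castSucc, Fin.val_succ, decide_eq_decide]
      split_ifs <;> omega
  h_castSucc_comp_δ_succ_of_lt {n} i j hji := by
    have hh := hji
    simp only [Fin.le_def, Fin.lt_def, Fin.val_castSucc, Fin.val_succ] at hh
    erw [D.right (SimplexCategory.δ i.succ), D.left (SimplexCategory.δ i)]
    refine D.Φ_congr (funext fun k => ?_) (funext fun k => ?_)
    · simp only [Function.comp, δ_fun]
      apply Fin.ext
      simp only [val_succAbove', val_predAbove', Fin.val_castSucc, Fin.val_succ]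
      split_ifs <;> omega
    · simp only [Function.comp, δ_fun]
      simp only [Fin.le_def, val_succAbove', val_predAbove', Fin.val_castSucc, Fin.val_succ, decide_eq_decide]
      split_ifs <;> omega
  h_comp_σ_castSucc_of_le {n} i j hij := by
    have hh := hij
    simp only [Fin.le_def, Fin.lt_def, Fin.val_castSucc, Fin.val_succ] at hh
    erw [D.right (SimplexCategory.σ i.castSucc), D.left (SimplexCategory.σ i)]
    refine D.Φ_congr (funext fun k => ?_) (funext fun k => ?_)
    · simp only [Function.comp, σ_fun]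
      apply Fin.ext
      simp only [val_succAbove', val_predAbove', Fin.val_castSucc, Fin.val_succ]
      split_ifs <;> omega
    · simp only [Function.comp, σ_fun]
      simp only [Fin.le_def, val_succAbove', val_predAbove', Fin.val_castSucc, Fin.val_succ, decide_eq_decide]
      split_ifs <;> omega
  h_comp_σ_succ_of_lt {n} i j hji := by
    have hh := hji
    simp only [Fin.le_def, Fin.lt_def, Fin.val_castSucc, Fin.val_succ] at hh
    erw [D.right (SimplexCategory.σ i.succ), D.left (SimplexCategory.σ i)]
    refine D.Φ_congr (funext fun k => ?_) (funext fun k => ?_)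
    · simp only [Function.comp, σ_fun]
      apply Fin.ext
      simp only [val_succAbove', val_predAbove', Fin.val_castSucc, Fin.val_succ]
      split_ifs <;> omega
    · simp only [Function.comp, σ_fun]
      simp only [Fin.le_def, val_succAbove', val_predAbove', Fin.val_castSucc, Fin.val_succ, decide_eq_decide]
      split_ifs <;> omega

end Groth.Agent.PhiHomotopy
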