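import Groth.Agent.Lib.DimShift
import Groth.Agent.Lib.CohCxAcyclic
import Groth.Agent.Lib.ExtCompare
import Groth.Agent.Lib.ExtPi
set_option autoImplicit false
universe u
open CategoryTheory Limits Opposite Abelian

namespace Groth.Agent.PiTot

variable {C : Type u} [SmallCategory C] {J : GrothendieckTopology C}

open Groth.Agent.CohSiteBasics in
/-- a morphism of abelian sheaves is an epimorphism as soon as maps from the free sheaves on
objects lift along it. -/
lemma epi_of_lifting {G G' : Sheaf J AddCommGrpCat.{u}} (φ : G ⟶ G')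
    (h : ∀ (V : C) (q : freeSheaf J V ⟶ G'), ∃ b : freeSheaf J V ⟶ G, b ≫ φ = q) : Epi φ := by
  have : ∀ V : Cᵒᵖ, Epi (φ.hom.app V) := by
    intro V
    rw [AddCommGrpCat.epi_iff_surjective]
    intro s
    obtain ⟨q, rfl⟩ := (secEquiv V.unop G').surjective s
    obtain ⟨b, rfl⟩ := h V.unop q
    exact ⟨secEquiv V.unop G b, (secEquiv_comp V.unop b φ).symm⟩
  have : Epi φ.hom := NatTrans.epi_of_epi_app _
  exact Sheaf.Hom.epi_of_presheaf_epi _ _ φ

open Groth.Agent.ExtCompare Groth.Agent.CohCxBasics Groth.Agent.ExtPi in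
theorem isTotallyAcyclic_pi {T : Type u} (F : T → Sheaf J AddCommGrpCat.{u})
    (hF : ∀ t, CohCx.IsTotallyAcyclic (F t)) : CohCx.IsTotallyAcyclic (∏ᶜ F) := by
  intro L p
  refine subsingleton_of_forall_eq 0 (fun x => ?_)
  refine DimShift.ext_eq_zero
    (B := fun A => (∃ L : Sheaf J (Type u),
      A = (presheafToSheaf J AddCommGrpCat.{u}).obj (L.obj ⋙ AddCommGrpCat.free.{u})))
    (CA := fun G => ∃ F : T → Sheaf J AddCommGrpCat.{u}, (∀ t, CohCx.IsTotallyAcyclic (F t)) ∧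
      G = ∏ᶜ F) ?_ p _ ⟨F, hF, rfl⟩ _ ⟨L, rfl⟩ x
  rintro G ⟨F, hF, rfl⟩
  have hS : ∀ t, (ExtPi.injSC (F t)).ShortExact := fun t => ExtPi.injSC_shortExact (F t)
  -- lifting property for objects with vanishing `Ext¹`
  have hlift : ∀ (A : Sheaf J AddCommGrpCat.{u}), (∀ t, Subsingleton (Ext A (F t) 1)) →
      ∀ q : A ⟶ ∏ᶜ fun t => (ExtPi.injSC (F t)).X₃,
        ∃ b : A ⟶ ∏ᶜ fun t => (ExtPi.injSC (F t)).X₂,
          b ≫ Limits.Pi.map (fun t => (ExtPi.injSC (F t)).g) = q := by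
    intro A hA q
    have : ∀ t, ∃ b : A ⟶ (ExtPi.injSC (F t)).X₂, b ≫ (ExtPi.injSC (F t)).g = q ≫ Pi.π _ t :=
      fun t => (δ_ker (hS t) A (q ≫ Pi.π _ t)).mp (@Subsingleton.elim _ (hA t) _ _)
    choose b hb using this
    refine ⟨Pi.lift b, ?_⟩
    refine Limits.Pi.hom_ext _ _ (fun t => ?_)
    simp only [Category.assoc, Pi.map_π, Pi.lift_π_assoc]
    exact hb t
  have hmono : Mono (piSC fun t => ExtPi.injSC (F t)).f := by
    have : ∀ t, Mono (ExtPi.injSC (F t)).f := fun t => (hS t).mono_f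
    dsimp only [piSC]; infer_instance
  have hepi : Epi (piSC fun t => ExtPi.injSC (F t)).g :=
    epi_of_lifting _ (fun V q => hlift _
      (fun t => HU_subsingleton_of_isTotallyAcyclic J (F t) (hF t) V 0) q)
  have hS' : (piSC fun t => ExtPi.injSC (F t)).ShortExact :=
    ShortComplex.ShortExact.mk (piSC_exact _ hS)
  refine ⟨_, _, _, _, (piSC fun t => ExtPi.injSC (F t)).zero, hS', ?_, ?_, ?_⟩
  · intro A _ n x
    have : Injective (∏ᶜ fun t => (ExtPi.injSC (F t)).X₂) := inferInstance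
    exact Ext.eq_zero_of_injective x
  · exact ⟨fun t => (ExtPi.injSC (F t)).X₃, fun t => isTotallyAcyclic_X₃ _ (hS t) (hF t)
      (isTotallyAcyclic_of_injective _), rfl⟩
  · rintro A ⟨L, rfl⟩ q
    exact hlift _ (fun t => hF t L 0) q

end Groth.Agent.PiTot
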