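import Mathlib
import Groth.Prelude.Def_CohCx
import Groth.Prelude.Def_CohSite
import Groth.Agent.Lib.CechNerveFlasque
import Groth.Agent.Lib.PushTotAcyclic

set_option autoImplicit false
universe u
open CategoryTheory Limits Opposite Simplicial AlgebraicTopology Abelian

namespace Groth.Agent.PushInjTot

open Groth.Agent.PushTot

variable {C D : Type u} [SmallCategory C] [SmallCategory D]
  (J : GrothendieckTopology C) (K : GrothendieckTopology D) (u : D ⥤ C) [u.IsContinuous K J]

/-- free abelian sheaf functors -/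
noncomputable abbrev FrJ : Sheaf J (Type u) ⥤ Sheaf J AddCommGrpCat.{u} :=
  Sheaf.composeAndSheafify J AddCommGrpCat.free.{u}

/-- free abelian sheaf functors -/
noncomputable abbrev FrK : Sheaf K (Type u) ⥤ Sheaf K AddCommGrpCat.{u} :=
  Sheaf.composeAndSheafify K AddCommGrpCat.free.{u}

/-- pullback of sheaves of sets -/
noncomputable abbrev P : Sheaf K (Type u) ⥤ Sheaf J (Type u) := u.sheafPullback (Type u) K J

lemma θ_natL {L L' : Sheaf K (Type u)} (g : L ⟶ L') (G : Sheaf J AddCommGrpCat.{u})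
    (a : (FrJ J).obj ((P J K u).obj L') ⟶ G) :
    θ J K u L G ((FrJ J).map ((P J K u).map g) ≫ a) = (FrK K).map g ≫ θ J K u L' G a := by
  simp only [θ, Equiv.trans_apply]
  rw [Adjunction.homEquiv_naturality_left, Adjunction.homEquiv_naturality_left]
  exact Adjunction.homEquiv_naturality_left_symm (freeAdj K) _ _

lemma θ_eq (L : Sheaf K (Type u)) (G : Sheaf J AddCommGrpCat.{u})
    (a : (FrJ J).obj ((P J K u).obj L) ⟶ G) :
    θ J K u L G a = θ J K u L _ (𝟙 _) ≫ (CohSite.push J K u).map a := by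
  rw [← θ_comp, Category.id_comp]

/-- `θ` as an additive map. -/
noncomputable def θAdd (L : Sheaf K (Type u)) (G : Sheaf J AddCommGrpCat.{u}) :
    ((FrJ J).obj ((P J K u).obj L) ⟶ G) →+ ((FrK K).obj L ⟶ (CohSite.push J K u).obj G) :=
  AddMonoidHom.mk' (θ J K u L G) (fun a b => by
    rw [θ_eq, θ_eq J K u L G a, θ_eq J K u L G b, Functor.map_add, Preadditive.comp_add])

lemma θAdd_apply (L : Sheaf K (Type u)) (G : Sheaf J AddCommGrpCat.{u})
    (a : (FrJ J).obj ((P J K u).obj L) ⟶ G) : θAdd J K u L G a = θ J K u L G a := rfl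

variable (Z : SimplicialObject (Sheaf K (Type u)))

/-- `Z[Z_•]` on `D`. -/
noncomputable abbrev Y : SimplicialObject (Sheaf K AddCommGrpCat.{u}) :=
  ((SimplicialObject.whiskering _ _).obj (FrK K)).obj Z

/-- `Z[u⁻¹ Z_•]` on `C`. -/
noncomputable abbrev Y' : SimplicialObject (Sheaf J AddCommGrpCat.{u}) :=
  ((SimplicialObject.whiskering _ _).obj (P J K u ⋙ FrJ J)).obj Z

set_option backward.isDefEq.respectTransparency false in
lemma θ_d (G : Sheaf J AddCommGrpCat.{u}) (n : ℕ) (a : (Y' J K u Z) _⦋n⦌ ⟶ G) :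
    θ J K u (Z _⦋n + 1⦌) G ((AlternatingFaceMapComplex.obj (Y' J K u Z)).d (n + 1) n ≫ a) =
      (AlternatingFaceMapComplex.obj (Y K Z)).d (n + 1) n ≫ θ J K u (Z _⦋n⦌) G a := by
  rw [AlternatingFaceMapComplex.obj_d_eq, AlternatingFaceMapComplex.obj_d_eq,
    Preadditive.sum_comp, Preadditive.sum_comp, ← θAdd_apply, map_sum]
  refine Finset.sum_congr rfl fun i _ => ?_
  rw [Preadditive.zsmul_comp, Preadditive.zsmul_comp, map_zsmul, θAdd_apply]
  congr 1
  exact θ_natL J K u (Z.δ i) G a

variable [PreservesFiniteLimits (u.sheafPullback (Type u) K J)]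

lemma exactAt_Y' {L' L : Sheaf K (Type u)} (f : L' ⟶ L) [Epi f] (q : ℕ) :
    (AlternatingFaceMapComplex.obj (Y' J K u (Arrow.mk f).cechNerve)).ExactAt (q + 1) := by
  have : (P J K u).IsLeftAdjoint := (u.sheafAdjunctionContinuous (Type u) K J).isLeftAdjoint
  have : Epi ((P J K u).map f) := inferInstance
  have hRes := ((AugRes.quasiIso_iff _).1 (CechNerveSheaf.quasiIso J ((P J K u).map f))).1
  have e := CechNerveMap.augIso (P J K u) (Arrow.mk f)
  have h2 := AugRes.res_of_iso (((SimplicialObject.Augmented.whiskering _ _).obj (FrJ J)).mapIso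
    e.symm) hRes
  exact h2.1 q

set_option backward.isDefEq.respectTransparency false in
theorem push_injective_isTotallyAcyclic (I : Sheaf J AddCommGrpCat.{u}) [Injective I] :
    CohCx.IsTotallyAcyclic ((CohSite.push J K u).obj I) := by
  apply CechNerveFlasque.isTotallyAcyclic
  intro L' L f hf q
  show IsZero (((HomSimp.T (Y K (Arrow.mk f).cechNerve)).obj _).homology (q + 1))
  rw [HomSimp.isZero_homology_iff]
  intro c hc
  have hex := exactAt_Y' J K u f q
  rw [HomologicalComplex.exactAt_iff' _ (q + 2) (q + 1) q (by simp) (by simp)] at hex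
  have hc' : (AlternatingFaceMapComplex.obj (Y' J K u (Arrow.mk f).cechNerve)).d (q + 2) (q + 1) ≫
      (θ J K u ((Arrow.mk f).cechNerve _⦋q + 1⦌) I).symm c = 0 := by
    apply (θ J K u ((Arrow.mk f).cechNerve _⦋q + 1 + 1⦌) I).injective
    refine (θ_d J K u (Arrow.mk f).cechNerve I (q + 1) _).trans ?_
    rw [Equiv.apply_symm_apply]
    exact hc.trans ((θAdd J K u _ I).map_zero).symm
  refine ⟨θ J K u ((Arrow.mk f).cechNerve _⦋q⦌) I (hex.descToInjective _ hc'), ?_⟩
  refine (θ_d J K u (Arrow.mk f).cechNerve I q _).symm.trans ?_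
  have := hex.comp_descToInjective _ hc'
  refine (congrArg (θ J K u ((Arrow.mk f).cechNerve _⦋q + 1⦌) I) this).trans ?_
  exact Equiv.apply_symm_apply _ _

end Groth.Agent.PushInjTot
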