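import Mathlib
import Groth.Prelude.Def_CohCx
import Groth.Prelude.Def_CohSite
import Groth.Agent.Lib.PushInjTot
import Groth.Agent.Lib.CohCxBasics
import Groth.Agent.Lib.CohSiteBasics

set_option autoImplicit false
universe u
open CategoryTheory Limits Opposite Abelian

namespace Groth.Agent.PushCAcyclic

variable {C D : Type u} [SmallCategory C] [SmallCategory D]
  (J : GrothendieckTopology C) (K : GrothendieckTopology D) (u : D ⥤ C) [u.IsContinuous K J]

/-- acyclic on all objects of the site -/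
def CAcyc (F : Sheaf J AddCommGrpCat.{u}) : Prop :=
  ∀ (U : C) (q : ℕ), Subsingleton (CohSite.HU F (q + 1) U)

variable {J}

lemma surjective_of_HU (S : ShortComplex (Sheaf J AddCommGrpCat.{u}))
    (hS : S.ShortExact) (U : C) (h1 : Subsingleton (CohSite.HU S.X₁ 1 U)) :
    Function.Surjective (S.g.hom.app (op U)) := by
  intro s
  obtain ⟨q, rfl⟩ := (CohSiteBasics.secEquiv U S.X₃).surjective s
  have h0 : (Ext.mk₀ q).comp hS.extClass (zero_add 1) = 0 := Subsingleton.elim (h := h1) _ _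
  obtain ⟨x₂, hx₂⟩ := Ext.covariant_sequence_exact₃ _ hS (Ext.mk₀ q) rfl h0
  obtain ⟨b, rfl⟩ := (Ext.mk₀_bijective _ _).surjective x₂
  rw [Ext.mk₀_comp_mk₀] at hx₂
  have hb : b ≫ S.g = q := (Ext.mk₀_bijective _ _).injective hx₂
  refine ⟨CohSiteBasics.secEquiv U S.X₂ b, ?_⟩
  rw [← CohSiteBasics.secEquiv_comp, hb]

lemma CAcyc_X₃ (S : ShortComplex (Sheaf J AddCommGrpCat.{u})) (hS : S.ShortExact)
    (h1 : CAcyc J S.X₁) (h2 : CAcyc J S.X₂) : CAcyc J S.X₃ := by
  intro U p
  refine subsingleton_of_forall_eq 0 (fun (x₃ : Ext (CohSiteBasics.freeSheaf J U) S.X₃ (p + 1)) => ?_)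
  have h0 : x₃.comp hS.extClass rfl = 0 := Subsingleton.elim (h := h1 U (p + 1)) _ _
  obtain ⟨x₂, hx₂⟩ := Ext.covariant_sequence_exact₃ _ hS x₃ rfl h0
  have : x₂ = 0 := Subsingleton.elim (h := h2 U p) _ _
  rw [← hx₂, this, Ext.zero_comp]
  rfl

variable (J)
variable [PreservesFiniteLimits (u.sheafPullback (Type u) K J)]

open Groth.Agent.ExtCompare Groth.Agent.CohCxBasics in
theorem push_CAcyc (F : Sheaf J AddCommGrpCat.{u}) (hF : CAcyc J F) :
    CAcyc K ((CohSite.push J K u).obj F) := by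
  intro V p
  refine subsingleton_of_forall_eq 0
    (fun (x : Ext (CohSiteBasics.freeSheaf K V) ((CohSite.push J K u).obj F) (p + 1)) => ?_)
  refine DimShift.ext_eq_zero
    (B := fun A => ∃ V : D, A = CohSiteBasics.freeSheaf K V)
    (CA := fun G => ∃ F : Sheaf J AddCommGrpCat.{u}, CAcyc J F ∧
      G = (CohSite.push J K u).obj F) ?_ p _ ⟨F, hF, rfl⟩ _ ⟨V, rfl⟩ x
  rintro G ⟨F, hF, rfl⟩
  have hS := injSC_shortExact F
  have hlim : PreservesFiniteLimits (CohSite.push J K u) := inferInstance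
  rw [Functor.preservesFiniteLimits_iff_forall_exact_map_and_mono] at hlim
  obtain ⟨hex, hmono⟩ := hlim _ hS
  have : Mono ((injSC F).map (CohSite.push J K u)).f := hmono
  have hsurj : ∀ V : D, Function.Surjective (((CohSite.push J K u).map (injSC F).g).hom.app (op V)) :=
    fun V => surjective_of_HU (injSC F) hS (u.obj V) (hF (u.obj V) 0)
  have : Epi ((injSC F).map (CohSite.push J K u)).g := by
    have : ∀ V : Dᵒᵖ, Epi (((CohSite.push J K u).map (injSC F).g).hom.app V) := by
      intro V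
      rw [AddCommGrpCat.epi_iff_surjective]
      exact hsurj V.unop
    have : Epi ((CohSite.push J K u).map (injSC F).g).hom := NatTrans.epi_of_epi_app _
    exact Sheaf.Hom.epi_of_presheaf_epi _ _ ((CohSite.push J K u).map (injSC F).g)
  have hS' : ((injSC F).map (CohSite.push J K u)).ShortExact := ShortComplex.ShortExact.mk hex
  refine ⟨_, _, (CohSite.push J K u).map (injSC F).f, (CohSite.push J K u).map (injSC F).g,
    ((injSC F).map (CohSite.push J K u)).zero, hS', ?_, ?_, ?_⟩
  · rintro A ⟨V, rfl⟩ n x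
    have h1 := PushInjTot.push_injective_isTotallyAcyclic J K u (injSC F).X₂
    exact Subsingleton.elim (h := HU_subsingleton_of_isTotallyAcyclic K _ h1 V n) _ _
  · refine ⟨(injSC F).X₃, CAcyc_X₃ (injSC F) hS hF ?_, rfl⟩
    intro U q
    exact subsingleton_of_forall_eq 0
      (fun (x : Ext (CohSiteBasics.freeSheaf J U) (injSC F).X₂ (q + 1)) => Ext.eq_zero_of_injective x)
  · rintro A ⟨V, rfl⟩ q
    obtain ⟨s, hs⟩ := hsurj V (CohSiteBasics.secEquiv V _ q)
    refine ⟨(CohSiteBasics.secEquiv V _).symm s, ?_⟩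
    apply (CohSiteBasics.secEquiv V _).injective
    rw [CohSiteBasics.secEquiv_comp, Equiv.apply_symm_apply]
    exact hs

end Groth.Agent.PushCAcyclic
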