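import Groth.Agent.Lib.CohTopRestrInj
import Groth.Agent.Lib.InjResMap
import Groth.Agent.Lib.Acyclic

set_option autoImplicit false
universe u
open CategoryTheory TopologicalSpace Opposite Limits Abelian

namespace Groth.Agent.CohTopBasics

section

variable {X : TopCat.{u}} (U : Opens X)

/-- the inclusion of an open subspace. -/
abbrev jmap : TopCat.of U ⟶ X := TopCat.ofHom ⟨_, continuous_subtype_val⟩

lemma jmap_isOpenEmbedding : Topology.IsOpenEmbedding (TopCat.Hom.hom (jmap U)) := U.isOpenEmbedding

/-- the image functor on opens. -/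
abbrev jF : Opens (TopCat.of U) ⥤ Opens X := (jmap_isOpenEmbedding U).isOpenMap.functor

instance : (jF U).IsContinuous (Opens.grothendieckTopology (TopCat.of U)) (Opens.grothendieckTopology X) :=
  (jmap_isOpenEmbedding U).functor_isContinuous

lemma restrFunctor_eq : CohTop.restrFunctor U =
    (jF U).sheafPushforwardContinuous AddCommGrpCat.{u} (Opens.grothendieckTopology (TopCat.of U)) (Opens.grothendieckTopology X) := rfl

end

variable {X Y : TopCat.{u}} (f : X ⟶ Y) (V : Opens Y)

/-- the restriction of `f` over `V`. -/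
abbrev restrMap : TopCat.of ((Opens.map f).obj V) ⟶ TopCat.of V :=
  TopCat.ofHom ⟨(V : Set Y).restrictPreimage f, f.hom.continuous.restrictPreimage⟩

/-- the two functors `Opens V ⥤ Opens X` agree. -/
noncomputable def opensIso :
    jF V ⋙ Opens.map f ≅ Opens.map (restrMap f V) ⋙ jF ((Opens.map f).obj V) :=
  NatIso.ofComponents (fun W => eqToIso (by
    ext x
    constructor
    · rintro ⟨y, hy, hyx⟩
      have hx : x ∈ (Opens.map f).obj V := by
        show f x ∈ V
        rw [← hyx]; exact y.2
      refine ⟨⟨x, hx⟩, ?_, rfl⟩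
      show (restrMap f V) ⟨x, hx⟩ ∈ W
      have : (restrMap f V) ⟨x, hx⟩ = y := Subtype.ext hyx.symm
      rw [this]; exact hy
    · rintro ⟨y, hy, rfl⟩
      exact ⟨(restrMap f V) y, hy, rfl⟩)) (fun _ => Subsingleton.elim _ _)


instance : (Opens.map (restrMap f V)).IsContinuous (Opens.grothendieckTopology (TopCat.of V))
    (Opens.grothendieckTopology (TopCat.of ((Opens.map f).obj V))) :=
  instIsContinuousOpensCarrierMapGrothendieckTopology (restrMap f V)

instance : (CohTop.push (restrMap f V)).Additive := CohTop.instAdditiveAbPush (restrMap f V)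

instance : (jF V ⋙ Opens.map f).IsContinuous
    (Opens.grothendieckTopology (TopCat.of V)) (Opens.grothendieckTopology X) :=
  Functor.isContinuous_comp _ _ _ (Opens.grothendieckTopology Y) _

instance : (Opens.map (restrMap f V) ⋙ jF ((Opens.map f).obj V)).IsContinuous
    (Opens.grothendieckTopology (TopCat.of V)) (Opens.grothendieckTopology X) :=
  Functor.isContinuous_comp _ _ _ (Opens.grothendieckTopology (TopCat.of ((Opens.map f).obj V))) _

/-- `(f_* -)|_V ≅ g_* (-|_{f⁻¹V})`. -/
noncomputable def pushRestrIso :
    CohTop.push f ⋙ CohTop.restrFunctor V ≅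
      CohTop.restrFunctor ((Opens.map f).obj V) ⋙ CohTop.push (restrMap f V) :=
  Functor.sheafPushforwardContinuousIso (opensIso f V) AddCommGrpCat.{u}
    (Opens.grothendieckTopology (TopCat.of V)) (Opens.grothendieckTopology X)

lemma isZero_rightDerived_restr (U : Opens X) (F : CohTop.Ab X) (n : ℕ) :
    IsZero (((CohTop.restrFunctor U).rightDerived (n + 1)).obj F) :=
  Groth.Agent.Acyclic.isZero_rightDerived_succ (G := CohTop.restrFunctor U) (P := fun _ => True)
    (fun _ _ => trivial) (fun _ _ _ _ => trivial)
    (fun S hS _ => by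
      have := hS.epi_g
      infer_instance) F trivial n

/-- the restriction of `R^p f_* F` to `V` is `R^p g_* (F|_{f⁻¹V})`. -/
theorem nonempty_restr_Rpush_iso (F : CohTop.Ab X) (p : ℕ) :
    Nonempty (CohTop.restr ((CohTop.Rpush f p).obj F) V ≅
      (CohTop.Rpush (restrMap f V) p).obj (CohTop.restr F ((Opens.map f).obj V))) := by
  let U := (Opens.map f).obj V
  let R := InjectiveResolution.of F
  let R' : InjectiveResolution ((CohTop.restrFunctor U).obj F) :=
    Groth.Agent.InjResMap.mapOfAcyclic (CohTop.restrFunctor U) R (fun n => inferInstance)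
      (isZero_rightDerived_restr U F)
  let e1 := R.isoRightDerivedObj (CohTop.push f) p
  let e2 := R'.isoRightDerivedObj (CohTop.push (restrMap f V)) p
  let K := ((CohTop.push f).mapHomologicalComplex _).obj R.cocomplex
  let e3 : (((CohTop.restrFunctor V).mapHomologicalComplex _).obj K).homology p ≅
      (CohTop.restrFunctor V).obj (K.homology p) := (K.sc p).mapHomologyIso (CohTop.restrFunctor V)
  let e4 : ((CohTop.restrFunctor V).mapHomologicalComplex _).obj K ≅
      ((CohTop.push (restrMap f V)).mapHomologicalComplex _).obj R'.cocomplex :=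
    (NatIso.mapHomologicalComplex (pushRestrIso f V) (ComplexShape.up ℕ)).app R.cocomplex
  exact ⟨(CohTop.restrFunctor V).mapIso e1 ≪≫ e3.symm ≪≫
    (HomologicalComplex.homologyFunctor _ _ p).mapIso e4 ≪≫ e2.symm⟩

end Groth.Agent.CohTopBasics
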