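import Mathlib

/-! Right resolutions of bounded below complexes by objects of a cogenerating class. -/

set_option autoImplicit false
universe v u
open CategoryTheory CategoryTheory.Limits

namespace Groth.Agent.RightRes

section QI
variable {A : Type u} [Category.{v} A] [Abelian A]

/-- The "pullback modulo boundaries" property of a morphism of complexes. -/
def F2 {K L : CochainComplex A ℤ} (α : K ⟶ L) : Prop :=
  ∀ (i j k : ℤ) (_ : i + 1 = j) (_ : j + 1 = k) ⦃B : A⦄ (y : B ⟶ L.X j) (x' : B ⟶ K.X k),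
    y ≫ L.d j k = x' ≫ α.f k →
    ∃ (B' : A) (π : B' ⟶ B) (_ : Epi π) (x : B' ⟶ K.X j) (y' : B' ⟶ L.X i),
      x ≫ K.d j k = π ≫ x' ∧ π ≫ y = x ≫ α.f j + y' ≫ L.d i j

lemma quasiIso_of_F2 {K L : CochainComplex A ℤ} (α : K ⟶ L) (h : F2 α) : QuasiIso α := by
  rw [quasiIso_iff]
  intro j
  rw [quasiIsoAt_iff_isIso_homologyMap]
  have hm : Mono (HomologicalComplex.homologyMap α j) := by
    rw [HomologicalComplex.mono_homologyMap_iff_up_to_refinements α (j-1) j (j+1) (by simp) (by simp)]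
    intro B x₂ hx₂ y₁ hy
    obtain ⟨B', π, hπ, x, y', h1, -⟩ := h (j-1-1) (j-1) j (by omega) (by omega) y₁ x₂ hy.symm
    exact ⟨B', π, hπ, x, h1.symm⟩
  have he : Epi (HomologicalComplex.homologyMap α j) := by
    rw [HomologicalComplex.epi_homologyMap_iff_up_to_refinements α (j-1) j (j+1) (by simp) (by simp)]
    intro B y₂ hy₂
    obtain ⟨B', π, hπ, x, y', h1, h2⟩ := h (j-1) j (j+1) (by omega) rfl y₂ 0 (by rw [hy₂, zero_comp])
    exact ⟨B', π, hπ, x, by rw [h1, comp_zero], y', h2⟩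
  exact isIso_of_mono_of_epi _

lemma mono_f_of_F2 {K L : CochainComplex A ℤ} (α : K ⟶ L) (h : F2 α) (m : ℤ) : Mono (α.f m) := by
  rw [Preadditive.mono_iff_cancel_zero]
  intro B x' hx'
  obtain ⟨B', π, hπ, x, y', h1, h2⟩ := h (m-1-1) (m-1) m (by omega) (by omega) (0 : B ⟶ L.X (m-1)) x'
    (by rw [zero_comp, hx'])
  rw [comp_zero] at h2
  have h3 : (-y') ≫ L.d (m-1-1) (m-1) = x ≫ α.f (m-1) := by
    rw [Preadditive.neg_comp, neg_eq_iff_add_eq_zero, add_comm]; exact h2.symm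
  obtain ⟨B'', π', hπ', x₂, y'', h4, -⟩ := h (m-1-1-1) (m-1-1) (m-1) (by omega) (by omega) (-y') x h3
  have h5 : (π' ≫ π) ≫ x' = 0 := by
    rw [Category.assoc, ← h1, ← Category.assoc, ← h4, Category.assoc, K.d_comp_d, comp_zero]
  haveI : Epi (π' ≫ π) := epi_comp _ _
  exact (cancel_epi (π' ≫ π)).1 (h5.trans comp_zero.symm)

end QI

noncomputable section Constr
variable {A : Type u} [Category.{v} A] [Abelian A] (I : A → Prop)
  (hI : ∀ X : A, ∃ (Y : A) (ι : X ⟶ Y), I Y ∧ Mono ι) (K : CochainComplex A ℤ)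

def env (X : A) : A := (hI X).choose
def envι (X : A) : X ⟶ env I hI X := (hI X).choose_spec.choose
lemma env_mem (X : A) : I (env I hI X) := (hI X).choose_spec.choose_spec.1
instance envι_mono (X : A) : Mono (envι I hI X) := (hI X).choose_spec.choose_spec.2

structure St (n : ℕ) where
  Lp : A
  Lc : A
  d : Lp ⟶ Lc
  α : K.X (n : ℤ) ⟶ Lc
  hc : I Lc

variable {I K}

def φ {n : ℕ} (s : St I K n) : K.X (n : ℤ) ⊞ s.Lp ⟶ s.Lc ⊞ K.X ((n + 1 : ℕ) : ℤ) :=
  biprod.desc (biprod.lift s.α (-K.d (n : ℤ) ((n + 1 : ℕ) : ℤ))) (biprod.lift s.d 0)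

def step {n : ℕ} (s : St I K n) : St I K (n + 1) where
  Lp := s.Lc
  Lc := env I hI (cokernel (φ s))
  d := biprod.inl ≫ cokernel.π (φ s) ≫ envι I hI _
  α := biprod.inr ≫ cokernel.π (φ s) ≫ envι I hI _
  hc := env_mem I hI _

lemma step_d_comp {n : ℕ} (s : St I K n) : s.d ≫ (step hI s).d = 0 := by
  have h : biprod.inr ≫ φ s = s.d ≫ biprod.inl := by
    simp [φ, biprod.lift_eq]
  show s.d ≫ biprod.inl ≫ cokernel.π (φ s) ≫ envι I hI _ = 0
  rw [← Category.assoc, ← h, Category.assoc, cokernel.condition_assoc]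
  simp

lemma φ_snd {n : ℕ} (s : St I K n) :
    φ s ≫ biprod.snd = biprod.fst ≫ (-K.d (n : ℤ) ((n + 1 : ℕ) : ℤ)) := by
  ext <;> simp [φ]

lemma φ_fst {n : ℕ} (s : St I K n) :
    φ s ≫ biprod.fst = biprod.fst ≫ s.α + biprod.snd ≫ s.d := by
  ext <;> simp [φ]

lemma step_comm {n : ℕ} (s : St I K n) :
    s.α ≫ (step hI s).d = K.d (n : ℤ) ((n + 1 : ℕ) : ℤ) ≫ (step hI s).α := by
  have h : biprod.inl ≫ φ s = s.α ≫ biprod.inl - K.d (n : ℤ) ((n + 1 : ℕ) : ℤ) ≫ biprod.inr := by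
    simp [φ, biprod.lift_eq, sub_eq_add_neg]
  have h2 : (s.α ≫ biprod.inl - K.d (n : ℤ) ((n + 1 : ℕ) : ℤ) ≫ biprod.inr) ≫ cokernel.π (φ s) = 0 := by
    rw [← h, Category.assoc, cokernel.condition, comp_zero]
  rw [Preadditive.sub_comp, sub_eq_zero, Category.assoc, Category.assoc] at h2
  show s.α ≫ biprod.inl ≫ cokernel.π (φ s) ≫ envι I hI _ =
    K.d (n : ℤ) ((n + 1 : ℕ) : ℤ) ≫ biprod.inr ≫ cokernel.π (φ s) ≫ envι I hI _
  rw [← Category.assoc, ← Category.assoc, ← Category.assoc, ← Category.assoc]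
  congr 1
  simpa using h2

lemma step_F2 {n : ℕ} (s : St I K n) ⦃B : A⦄ (y : B ⟶ s.Lc) (x' : B ⟶ K.X ((n + 1 : ℕ) : ℤ))
    (h : y ≫ (step hI s).d = x' ≫ (step hI s).α) :
    ∃ (B' : A) (π : B' ⟶ B) (_ : Epi π) (x : B' ⟶ K.X (n : ℤ)) (y' : B' ⟶ s.Lp),
      x ≫ K.d (n : ℤ) ((n + 1 : ℕ) : ℤ) = π ≫ x' ∧ π ≫ y = x ≫ s.α + y' ≫ s.d := by
  have h0 : biprod.lift y (-x') ≫ cokernel.π (φ s) = 0 := by
    rw [← cancel_mono (envι I hI _), zero_comp, Category.assoc]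
    have : biprod.lift y (-x') = y ≫ biprod.inl - x' ≫ biprod.inr := by
      rw [biprod.lift_eq, Preadditive.neg_comp, sub_eq_add_neg]
    rw [this, Preadditive.sub_comp, sub_eq_zero, Category.assoc, Category.assoc]
    exact h
  have hex : (ShortComplex.mk (φ s) (cokernel.π (φ s)) (cokernel.condition _)).Exact :=
    ShortComplex.exact_cokernel _
  obtain ⟨B', π, hπ, w', hw'⟩ := hex.exact_up_to_refinements (biprod.lift y (-x')) h0
  let w : B' ⟶ K.X (n : ℤ) ⊞ s.Lp := w'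
  have hw : π ≫ biprod.lift y (-x') = w ≫ φ s := hw'
  clear_value w
  clear hw'
  refine ⟨B', π, hπ, w ≫ biprod.fst, w ≫ biprod.snd, ?_, ?_⟩
  · have := congrArg (fun t => t ≫ biprod.snd) hw
    simp only [Category.assoc, biprod.lift_snd] at this
    rw [φ_snd s] at this
    simp only [Preadditive.comp_neg, neg_inj] at this
    rw [Category.assoc]; exact this.symm
  · have := congrArg (fun t => t ≫ biprod.fst) hw
    simp only [Category.assoc, biprod.lift_fst] at this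
    rw [φ_fst s, Preadditive.comp_add] at this
    simpa using this

variable (hI0 : ∃ Z : A, IsZero Z ∧ I Z)

def Z0 : A := hI0.choose
lemma Z0_isZero : IsZero (Z0 hI0) := hI0.choose_spec.1
lemma Z0_mem : I (Z0 hI0) := hI0.choose_spec.2

variable (K) in
def state : ∀ n : ℕ, St I K n
  | 0 => { Lp := Z0 hI0, Lc := Z0 hI0, d := 0, α := 0, hc := Z0_mem hI0 }
  | (n+1) => step hI (state n)

variable (K) in
def X' : ℤ → A
  | Int.ofNat n => (state hI K hI0 n).Lc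
  | Int.negSucc _ => Z0 hI0

lemma X'_mem : ∀ j, I (X' hI K hI0 j)
  | Int.ofNat n => (state hI K hI0 n).hc
  | Int.negSucc _ => Z0_mem hI0

lemma X'_isZero : ∀ j : ℤ, j < 1 → IsZero (X' hI K hI0 j)
  | Int.ofNat 0, _ => Z0_isZero hI0
  | Int.ofNat (n+1), h => by exfalso; simp at h; omega
  | Int.negSucc _, _ => Z0_isZero hI0

variable (K) in
def d' : ∀ j : ℤ, X' hI K hI0 j ⟶ X' hI K hI0 (j+1)
  | Int.ofNat n => (state hI K hI0 (n+1)).d
  | Int.negSucc _ => 0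

lemma d'_sq : ∀ j : ℤ, d' hI K hI0 j ≫ d' hI K hI0 (j+1) = 0
  | Int.ofNat n => step_d_comp hI (state hI K hI0 (n+1))
  | Int.negSucc _ => zero_comp

variable (K) in
def L0 : CochainComplex A ℤ := CochainComplex.of (X' hI K hI0) (d' hI K hI0) (d'_sq hI hI0)

lemma L0_d (j : ℤ) : (L0 hI K hI0).d j (j+1) = d' hI K hI0 j :=
  CochainComplex.of_d (X' hI K hI0) (d' hI K hI0) j

variable (K) in
def αf : ∀ j : ℤ, K.X j ⟶ X' hI K hI0 j
  | Int.ofNat n => (state hI K hI0 n).α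
  | Int.negSucc _ => 0

lemma αf_comm [K.IsStrictlyGE 1] : ∀ i : ℤ,
    αf hI K hI0 i ≫ d' hI K hI0 i = K.d i (i+1) ≫ αf hI K hI0 (i+1)
  | Int.ofNat n => step_comm hI (state hI K hI0 n)
  | Int.negSucc n => by
    have hz : IsZero (K.X (Int.negSucc n)) := K.isZero_of_isStrictlyGE 1 _ (by
      have := Int.negSucc_lt_zero n; omega)
    exact hz.eq_of_src _ _

variable (K) in
def α0 [K.IsStrictlyGE 1] : K ⟶ L0 hI K hI0 where
  f := αf hI K hI0
  comm' i j hij := by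
    obtain rfl : i + 1 = j := hij
    rw [L0_d]
    exact αf_comm hI hI0 i

lemma α0_F2 [K.IsStrictlyGE 1] : F2 (α0 hI K hI0) := by
  intro i j k hij hjk
  subst hjk
  cases j with
  | ofNat n =>
    cases n with
    | zero =>
      obtain rfl : i = -1 := by
        have : i + 1 = 0 := hij
        omega
      intro B y x' h
      rw [L0_d] at h
      obtain ⟨B', π, hπ, x, y', h1, h2⟩ := step_F2 hI (state hI K hI0 0) y x' h
      refine ⟨B', π, hπ, x, 0, h1, ?_⟩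
      apply (Z0_isZero hI0).eq_of_tgt
    | succ m =>
      obtain rfl : i = Int.ofNat m := by
        have : i + 1 = ((m + 1 : ℕ) : ℤ) := hij
        have h2 : Int.ofNat m = (m : ℤ) := rfl
        rw [h2]; push_cast at this; omega
      intro B y x' h
      rw [L0_d] at h
      obtain ⟨B', π, hπ, x, y', h1, h2⟩ := step_F2 hI (state hI K hI0 (m+1)) y x' h
      refine ⟨B', π, hπ, x, y', h1, ?_⟩
      have e : (L0 hI K hI0).d (Int.ofNat m) (Int.ofNat (m+1)) = (state hI K hI0 (m+1)).d :=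
        L0_d hI hI0 (K := K) (Int.ofNat m)
      rw [e]
      exact h2
  | negSucc n =>
    intro B y x' h
    have hzL : IsZero ((L0 hI K hI0).X (Int.negSucc n)) := Z0_isZero hI0
    have hzK : IsZero (K.X (Int.negSucc n + 1)) := K.isZero_of_isStrictlyGE 1 _ (by
      have := Int.negSucc_lt_zero n; omega)
    exact ⟨B, 𝟙 B, inferInstance, 0, 0, hzK.eq_of_tgt _ _, hzL.eq_of_tgt _ _⟩

end Constr

theorem exists_rightRes {A : Type u} [Category.{v} A] [Abelian A] (I : A → Prop)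
    (hI0 : ∃ Z : A, Limits.IsZero Z ∧ I Z) (hI : ∀ X : A, ∃ (Y : A) (ι : X ⟶ Y), I Y ∧ Mono ι)
    (K : CochainComplex A ℤ) (a : ℤ) [K.IsStrictlyGE a] :
    ∃ (L : CochainComplex A ℤ) (α : K ⟶ L), L.IsStrictlyGE a ∧ (∀ n, I (L.X n)) ∧
      (∀ n, Mono (α.f n)) ∧ QuasiIso α := by
  let K₀ : CochainComplex A ℤ := K⟦a - 1⟧
  haveI : K₀.IsStrictlyGE 1 := K.isStrictlyGE_shift a (a-1) 1 (by omega)
  let L₀ := L0 hI K₀ hI0
  let α₀ : K₀ ⟶ L₀ := α0 hI K₀ hI0
  have hF : F2 α₀ := α0_F2 hI hI0 (K := K₀)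
  haveI hq : QuasiIso α₀ := quasiIso_of_F2 _ hF
  haveI : L₀.IsStrictlyGE 1 := by
    rw [CochainComplex.isStrictlyGE_iff]
    intro i hi
    exact X'_isZero hI hI0 i hi
  let e : K₀⟦-(a-1)⟧ ≅ K :=
    (shiftFunctorCompIsoId (CochainComplex A ℤ) (a-1) (-(a-1)) (by omega)).app K
  refine ⟨L₀⟦-(a-1)⟧, e.inv ≫ α₀⟦-(a-1)⟧', ?_, ?_, ?_, ?_⟩
  · exact L₀.isStrictlyGE_shift 1 (-(a-1)) a (by omega)
  · intro n
    exact X'_mem hI hI0 _
  · intro n
    haveI : Mono (α₀.f (n + -(a-1))) := mono_f_of_F2 _ hF _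
    haveI : Mono ((α₀⟦-(a-1)⟧').f n) := by
      show Mono (α₀.f (n + -(a-1)))
      infer_instance
    haveI : IsIso (e.inv.f n) := inferInstance
    show Mono (e.inv.f n ≫ (α₀⟦-(a-1)⟧').f n)
    infer_instance
  · infer_instance

end Groth.Agent.RightRes
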