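import Groth.Agent.Lib.RpushNat

set_option autoImplicit false
universe u
open CategoryTheory Opposite Limits Abelian

namespace Groth.Agent.RpushSheafify

variable {C D : Type u} [SmallCategory C] [SmallCategory D] (J : GrothendieckTopology C)
  (K : GrothendieckTopology D) (u : D ⥤ C) [u.IsContinuous K J]

section LocBij

variable {K}
variable {P Q : Dᵒᵖ ⥤ AddCommGrpCat.{u}} (ψ : P ⟶ Q)
  (h : ∀ V : D, ∃ (κ : Type u) (Y : κ → D) (g : ∀ k, Y k ⟶ V), Sieve.ofArrows Y g ∈ K V ∧
    ∀ k, IsIso (ψ.app (op (Y k))))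

include h in
lemma isLocallyInjective_of_cover : Presheaf.IsLocallyInjective K ψ where
  equalizerSieve_mem {V} x y hxy := by
    obtain ⟨κ, Z, g, hg, hiso⟩ := h V.unop
    refine K.superset_covering ?_ hg
    rw [Sieve.ofArrows, Sieve.generate_le_iff]
    rintro _ _ ⟨k⟩
    show P.map (g k).op x = P.map (g k).op y
    have := hiso k
    have hinj : Function.Injective (ψ.app (op (Z k))) :=
      ((ConcreteCategory.isIso_iff_bijective _).mp (hiso k)).1
    apply hinj
    rw [NatTrans.naturality_apply, NatTrans.naturality_apply, hxy]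

include h in
lemma isLocallySurjective_of_cover : Presheaf.IsLocallySurjective K ψ where
  imageSieve_mem {V} s := by
    obtain ⟨κ, Z, g, hg, hiso⟩ := h V
    refine K.superset_covering ?_ hg
    rw [Sieve.ofArrows, Sieve.generate_le_iff]
    rintro _ _ ⟨k⟩
    have hsurj : Function.Surjective (ψ.app (op (Z k))) :=
      ((ConcreteCategory.isIso_iff_bijective _).mp (hiso k)).2
    exact hsurj _

include h in
lemma isIso_sheafify_of_cover : IsIso ((presheafToSheaf K AddCommGrpCat.{u}).map ψ) := by
  have := isLocallyInjective_of_cover ψ h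
  have := isLocallySurjective_of_cover ψ h
  exact (K.W_iff _).mp (GrothendieckTopology.W_of_isLocallyBijective _ ψ)

end LocBij

theorem preservesColimit_Rpush {ι : Type u} [SmallCategory ι] (F : ι ⥤ Sheaf J AddCommGrpCat.{u})
    (p : ℕ)
    (h : ∀ V : D, ∃ (κ : Type u) (Y : κ → D) (g : ∀ k, Y k ⟶ V), Sieve.ofArrows Y g ∈ K V ∧
      ∀ k, PreservesColimit F ((Sheaf.cohomologyPresheafFunctor J p).flip.obj (op (u.obj (Y k))))) :
    PreservesColimit F (CohSite.Rpush J K u p) := by
  have : PreservesColimit F (Psh J u p ⋙ presheafToSheaf K AddCommGrpCat.{u}) := by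
    let P := Psh J u p
    let c := colimit.cocone F
    let hc : IsColimit c := colimit.isColimit F
    let c' := colimit.cocone (F ⋙ P)
    let hc' : IsColimit c' := colimit.isColimit (F ⋙ P)
    let ψ : c'.pt ⟶ (P.mapCocone c).pt := hc'.desc (P.mapCocone c)
    have hψ : IsIso ((presheafToSheaf K AddCommGrpCat.{u}).map ψ) := by
      apply isIso_sheafify_of_cover
      intro V
      obtain ⟨κ, Y, g, hg, hpres⟩ := h V
      refine ⟨κ, Y, g, hg, fun k => ?_⟩
      let ev := (evaluation Dᵒᵖ AddCommGrpCat.{u}).obj (op (Y k))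
      have hpres' : PreservesColimit F (P ⋙ ev) := hpres k
      let h1 : IsColimit (ev.mapCocone c') := isColimitOfPreserves ev hc'
      have h2 : IsColimit (ev.mapCocone (P.mapCocone c)) := isColimitOfPreserves (P ⋙ ev) hc
      have e : ψ.app (op (Y k)) = h1.desc (ev.mapCocone (P.mapCocone c)) :=
        (preserves_desc_mapCocone ev (F ⋙ P) c' (P.mapCocone c) hc').symm
      rw [e]
      exact (h1.coconePointUniqueUpToIso h2).isIso_hom
    refine preservesColimit_of_preserves_colimit_cocone hc ?_
    let h3 : IsColimit ((presheafToSheaf K AddCommGrpCat.{u}).mapCocone c') :=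
      isColimitOfPreserves _ hc'
    have e : h3.desc ((presheafToSheaf K AddCommGrpCat.{u}).mapCocone (P.mapCocone c)) =
        (presheafToSheaf K AddCommGrpCat.{u}).map ψ :=
      preserves_desc_mapCocone (presheafToSheaf K AddCommGrpCat.{u}) (F ⋙ P) c' (P.mapCocone c) hc'
    have : IsIso (h3.desc ((presheafToSheaf K AddCommGrpCat.{u}).mapCocone (P.mapCocone c))) := by
      rw [e]; exact hψ
    exact @IsColimit.ofPointIso _ _ _ _ _ _ _ h3 this
  exact preservesColimit_of_natIso F (RpushIso J K u p)

end Groth.Agent.RpushSheafify
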