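import Groth.Agent.Lib.RpushSheafify

set_option autoImplicit false
universe w v u
open CategoryTheory Opposite Limits Abelian

namespace Groth.Agent.AcyclicCx

section MapCoker

variable {D : Type u} [Category.{v} D] [Abelian D] {K K' : CochainComplex D ℕ} (ψ : K ⟶ K')

/-- the map on cocycle objects induced by a chain map. -/
noncomputable def mapW (q : ℕ) : W K q ⟶ W K' q :=
  kernel.map _ _ (ψ.f q) (ψ.f (q + 1)) (ψ.comm q (q + 1)).symm

@[reassoc (attr := simp)]
lemma mapW_ι (q : ℕ) : mapW ψ q ≫ kernel.ι (K'.d q (q + 1)) = kernel.ι (K.d q (q + 1)) ≫ ψ.f q := by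
  simp [mapW]

@[reassoc]
lemma toW_mapW (q : ℕ) : toW K q ≫ mapW ψ (q + 1) = ψ.f q ≫ toW K' q := by
  rw [← cancel_mono (kernel.ι (K'.d (q + 1) (q + 1 + 1)))]
  simp

/-- the map on cohomology objects induced by a chain map. -/
noncomputable def mapCoker (q : ℕ) : cokernel (toW K q) ⟶ cokernel (toW K' q) :=
  cokernel.map _ _ (ψ.f q) (mapW ψ (q + 1)) (toW_mapW ψ q)

@[reassoc (attr := simp)]
lemma π_mapCoker (q : ℕ) :
    cokernel.π (toW K q) ≫ mapCoker ψ q = mapW ψ (q + 1) ≫ cokernel.π (toW K' q) := by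
  simp [mapCoker]

variable {B : D}

lemma toH_postcomp (q : ℕ) (g : Zgrp B K (q + 1)) :
    toH B K' q ⟨g.1 ≫ ψ.f (q + 1), by
      rw [mem_Zgrp, Category.assoc, ψ.comm, reassoc_of% ((mem_Zgrp (q + 1) g.1).mp g.2),
        zero_comp]⟩ = toH B K q g ≫ mapCoker ψ q := by
  have hz : (g.1 ≫ ψ.f (q + 1)) ≫ K'.d (q + 1) (q + 1 + 1) = 0 := by
    rw [Category.assoc, ψ.comm, reassoc_of% ((mem_Zgrp (q + 1) g.1).mp g.2), zero_comp]
  show kernel.lift _ (g.1 ≫ ψ.f (q + 1)) hz ≫ cokernel.π _ =
    (kernel.lift _ g.1 g.2 ≫ cokernel.π _) ≫ mapCoker ψ q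
  have : kernel.lift (K'.d (q + 1) (q + 1 + 1)) (g.1 ≫ ψ.f (q + 1)) hz =
      kernel.lift _ g.1 g.2 ≫ mapW ψ (q + 1) := by
    rw [← cancel_mono (kernel.ι _)]; simp
  rw [this, Category.assoc, Category.assoc, π_mapCoker]

end MapCoker


section CokerIso

private lemma iso_comm_aux {D : Type u} [Category.{v} D] {A B A' B' : D} (e₁ : A ≅ B)
    (e₂ : A' ≅ B') (X : A ⟶ A') (Y : B ⟶ B') (h : X ≫ e₂.hom = e₁.hom ≫ Y) :
    e₁.inv ≫ X = Y ≫ e₂.inv := by
  rw [Iso.inv_comp_eq, ← Category.assoc, Iso.eq_comp_inv]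
  exact h

variable {D : Type u} [Category.{v} D] [Abelian D] (K K' : CochainComplex D ℕ) (ψ : K ⟶ K')

/-- the cokernel description of the cohomology of a cochain complex. -/
noncomputable def cokerIsoHomology (q : ℕ) : cokernel (toW K q) ≅ K.homology (q + 1) :=
  (ShortComplex.LeftHomologyData.ofHasKernelOfHasCokernel
    (K.sc' q (q + 1) (q + 1 + 1))).homologyIso.symm ≪≫
  (K.homologyIsoSc' q (q + 1) (q + 1 + 1) (by simp) (by simp)).symm

variable {K K'}

/-- the left homology map data for a chain map. -/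
noncomputable def lhmd (q : ℕ) : ShortComplex.LeftHomologyMapData
    ((HomologicalComplex.shortComplexFunctor' D _ q (q + 1) (q + 1 + 1)).map ψ)
    (ShortComplex.LeftHomologyData.ofHasKernelOfHasCokernel (K.sc' q (q + 1) (q + 1 + 1)))
    (ShortComplex.LeftHomologyData.ofHasKernelOfHasCokernel (K'.sc' q (q + 1) (q + 1 + 1))) where
  φK := mapW ψ (q + 1)
  φH := mapCoker ψ q
  commi := mapW_ι ψ (q + 1)
  commf' := by
    have e1 := (ShortComplex.LeftHomologyData.ofHasKernelOfHasCokernel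
      (K'.sc' q (q + 1) (q + 1 + 1))).f'_i
    have e2 := (ShortComplex.LeftHomologyData.ofHasKernelOfHasCokernel
      (K.sc' q (q + 1) (q + 1 + 1))).f'_i
    have e3 : mapW ψ (q + 1) ≫ (ShortComplex.LeftHomologyData.ofHasKernelOfHasCokernel
        (K'.sc' q (q + 1) (q + 1 + 1))).i = (ShortComplex.LeftHomologyData.ofHasKernelOfHasCokernel
        (K.sc' q (q + 1) (q + 1 + 1))).i ≫ ψ.f (q + 1) := mapW_ι ψ (q + 1)
    rw [← cancel_mono (ShortComplex.LeftHomologyData.ofHasKernelOfHasCokernel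
      (K'.sc' q (q + 1) (q + 1 + 1))).i, Category.assoc, Category.assoc, e1]
    refine (congrArg (fun t => _ ≫ t) e3).trans ?_
    refine (Category.assoc _ _ _).symm.trans ?_
    refine (congrArg (fun t => t ≫ ψ.f (q + 1)) e2).trans ?_
    exact (ψ.comm q (q + 1)).symm
  commπ := π_mapCoker ψ q

lemma cokerIsoHomology_hom_naturality (q : ℕ) :
    (cokerIsoHomology K q).hom ≫ HomologicalComplex.homologyMap ψ (q + 1) =
      mapCoker ψ q ≫ (cokerIsoHomology K' q).hom := by
  have hp : (ComplexShape.up ℕ).prev (q + 1) = q := by simp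
  have hn : (ComplexShape.up ℕ).next (q + 1) = q + 1 + 1 := by simp
  have h1 := (lhmd ψ q).homologyMap_comm
  have h2 : (K.homologyIsoSc' q (q + 1) (q + 1 + 1) hp hn).inv ≫
      HomologicalComplex.homologyMap ψ (q + 1) =
      ShortComplex.homologyMap
        ((HomologicalComplex.shortComplexFunctor' D _ q (q + 1) (q + 1 + 1)).map ψ) ≫
      (K'.homologyIsoSc' q (q + 1) (q + 1 + 1) hp hn).inv := by
    have nat := (HomologicalComplex.natIsoSc' D (ComplexShape.up ℕ) q (q + 1) (q + 1 + 1)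
      hp hn).inv.naturality ψ
    have := congrArg (fun t => (ShortComplex.homologyFunctor D).map t) nat
    simp only [Functor.map_comp] at this
    exact this.symm
  have h3 : (ShortComplex.LeftHomologyData.ofHasKernelOfHasCokernel
      (K.sc' q (q + 1) (q + 1 + 1))).homologyIso.inv ≫ ShortComplex.homologyMap
        ((HomologicalComplex.shortComplexFunctor' D _ q (q + 1) (q + 1 + 1)).map ψ) =
      mapCoker ψ q ≫ (ShortComplex.LeftHomologyData.ofHasKernelOfHasCokernel
      (K'.sc' q (q + 1) (q + 1 + 1))).homologyIso.inv := by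
    exact iso_comm_aux _ _ _ _ h1
  dsimp only [cokerIsoHomology, Iso.trans_hom, Iso.symm_hom]
  refine (Category.assoc _ _ _).trans ?_
  refine (congrArg (fun t => _ ≫ t) h2).trans ?_
  refine (Category.assoc _ _ _).symm.trans ?_
  refine (congrArg (fun t => t ≫ _) h3).trans ?_
  exact Category.assoc _ _ _

end CokerIso

end Groth.Agent.AcyclicCx

namespace Groth.Agent.RpushSheafify

open Groth.Agent.CohSiteBasics Groth.Agent.AcyclicCx

variable {C D : Type u} [SmallCategory C] [SmallCategory D] (J : GrothendieckTopology C)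
  (K : GrothendieckTopology D) (u : D ⥤ C) [u.IsContinuous K J]
  {F F' : Sheaf J AddCommGrpCat.{u}} {R : InjectiveResolution F} {R' : InjectiveResolution F'}
  {φ : F ⟶ F'} (Φ : InjectiveResolution.Hom R R' φ)

/-- the map `f_* R• ⟶ f_* R'•`. -/
noncomputable abbrev KxMap : Kx J K u R ⟶ Kx J K u R' :=
  ((CohSite.push J K u).mapHomologicalComplex _).map Φ.hom

lemma αV_postcomp (q : ℕ) (V : D) (x : Ext (freeSheaf J (u.obj V)) F (q + 1)) :
    αV J K u R' q V (x.comp (Ext.mk₀ φ) (add_zero _)) =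
      (mapCoker (KxMap J K u Φ) q).hom.app (op V) (αV J K u R q V x) := by
  obtain ⟨s, rfl⟩ := Groth.Agent.ExtRes.mk_surjective R (q + 1) x
  have hz : (s.1 ≫ Φ.hom.f (q + 1)) ∈ Groth.Agent.ExtRes.Z R' (freeSheaf J (u.obj V)) (q + 1) := by
    rw [Groth.Agent.ExtRes.mem_Z, Category.assoc, Φ.hom.comm,
      reassoc_of% ((Groth.Agent.ExtRes.mem_Z R (q + 1) s.1).mp s.2), zero_comp]
  have h1 : (Groth.Agent.ExtRes.mk R (q + 1) s).comp (Ext.mk₀ φ) (add_zero _) =
      Groth.Agent.ExtRes.mk R' (q + 1) ⟨s.1 ≫ Φ.hom.f (q + 1), hz⟩ :=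
    InjectiveResolution.extMk_comp_mk₀ s.1 _ rfl s.2 Φ
  rw [h1, αV_mk, αV_mk, αZ_apply, αZ_apply, ← secEquiv_comp, ← toH_postcomp]
  congr 2
  apply Subtype.ext
  exact eV_comp J K u V s.1 _

lemma α_naturality (q : ℕ) :
    α J K u R q ≫ (sheafToPresheaf K AddCommGrpCat.{u}).map (mapCoker (KxMap J K u Φ) q) =
      Functor.whiskerLeft u.op ((Sheaf.cohomologyPresheafFunctor J (q + 1)).map φ) ≫
        α J K u R' q := by
  ext V x
  exact (αV_postcomp J K u Φ q V.unop x).symm

lemma cokerIso_hom_naturality (q : ℕ) :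
    (cokerIso J K u R q).hom ≫ (CohSite.Rpush J K u (q + 1)).map φ =
      mapCoker (KxMap J K u Φ) q ≫ (cokerIso J K u R' q).hom := by
  have h1 := cokerIsoHomology_hom_naturality (KxMap J K u Φ) q
  have h2 := InjectiveResolution.isoRightDerivedObj_inv_naturality φ R R' Φ.hom
    (by simpa using Φ.ι_f_zero_comp_hom_f_zero) (CohSite.push J K u) (q + 1)
  have e : ∀ (F : Sheaf J AddCommGrpCat.{u}) (R : InjectiveResolution F),
      (cokerIso J K u R q).hom = (cokerIsoHomology (Kx J K u R) q).hom ≫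
        (R.isoRightDerivedObj (CohSite.push J K u) (q + 1)).inv := by
    intro F R
    simp [cokerIso, cokerIsoHomology]
  rw [e, e, Category.assoc]
  refine (congrArg (fun t => _ ≫ t) h2).trans ?_
  refine (Category.assoc _ _ _).symm.trans ?_
  refine (congrArg (fun t => t ≫ _) h1).trans ?_
  exact Category.assoc _ _ _

variable (R) in
/-- the sheafification of `V ↦ H^{q+1}(uV, F)` is the `(q+1)`-st cohomology sheaf of `f_* R•`. -/
noncomputable def isoCoker (q : ℕ) :
    (presheafToSheaf K AddCommGrpCat.{u}).obj (u.op ⋙ F.cohomologyPresheaf (q + 1)) ≅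
      coker J K u R q :=
  have h1 : IsIso ((presheafToSheaf K AddCommGrpCat.{u}).map (α J K u R q)) :=
    (K.W_iff _).mp (GrothendieckTopology.W_of_isLocallyBijective _ (α J K u R q))
  have h3 : IsIso ((sheafificationAdjunction K AddCommGrpCat.{u}).counit.app (coker J K u R q)) :=
    inferInstance
  @asIso _ _ _ _ _ h1 ≪≫ @asIso _ _ _ _ _ h3

variable (R) in
lemma isoCoker_hom (q : ℕ) : (isoCoker J K u R q).hom =
    (presheafToSheaf K AddCommGrpCat.{u}).map (α J K u R q) ≫
      (sheafificationAdjunction K AddCommGrpCat.{u}).counit.app (coker J K u R q) := rfl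

lemma isoCoker_hom_naturality (q : ℕ) :
    (isoCoker J K u R q).hom ≫ mapCoker (KxMap J K u Φ) q =
      (presheafToSheaf K AddCommGrpCat.{u}).map
        (Functor.whiskerLeft u.op ((Sheaf.cohomologyPresheafFunctor J (q + 1)).map φ)) ≫
      (isoCoker J K u R' q).hom := by
  rw [isoCoker_hom, isoCoker_hom, Category.assoc]
  have h := (sheafificationAdjunction K AddCommGrpCat.{u}).counit.naturality
    (mapCoker (KxMap J K u Φ) q)
  simp only [Functor.id_map, Functor.comp_map] at h
  rw [← h, ← Category.assoc, ← Functor.map_comp, α_naturality J K u Φ q, Functor.map_comp,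
    Category.assoc]

section NatIso

variable (F)

/-- the functor `F ↦ (V ↦ H^p(uV, F))`. -/
noncomputable abbrev Psh (p : ℕ) : Sheaf J AddCommGrpCat.{u} ⥤ (Dᵒᵖ ⥤ AddCommGrpCat.{u}) :=
  Sheaf.cohomologyPresheafFunctor J p ⋙ (Functor.whiskeringLeft _ _ _).obj u.op

variable {F}

/-- the chosen lift of a morphism to the chosen injective resolutions. -/
noncomputable def homOf (φ : F ⟶ F') :
    InjectiveResolution.Hom (InjectiveResolution.of F) (InjectiveResolution.of F') φ where
  hom := InjectiveResolution.desc φ _ _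
  ι_f_zero_comp_hom_f_zero := by
    rw [CochainComplex.single₀_map_f_zero]
    exact InjectiveResolution.desc_commutes_zero φ _ _

/-- `R^{q+1} f_*` is the sheafification of `V ↦ H^{q+1}(uV, -)`, naturally. -/
noncomputable def RpushSuccIso (q : ℕ) :
    Psh J u (q + 1) ⋙ presheafToSheaf K AddCommGrpCat.{u} ≅ CohSite.Rpush J K u (q + 1) :=
  NatIso.ofComponents (fun F => isoCoker J K u (InjectiveResolution.of F) q ≪≫
    cokerIso J K u (InjectiveResolution.of F) q) (by
      intro F F' φ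
      dsimp only [Iso.trans_hom]
      rw [Category.assoc, cokerIso_hom_naturality J K u (homOf J φ) q,
        reassoc_of% (isoCoker_hom_naturality J K u (homOf J φ) q)]
      rfl)

/-- degree zero, naturally. -/
noncomputable def βNat : Psh J u 0 ≅ CohSite.push J K u ⋙ sheafToPresheaf K AddCommGrpCat.{u} :=
  NatIso.ofComponents (β J K u) (by
    intro F F' φ
    ext V x
    obtain ⟨a, rfl⟩ := (Ext.mk₀_bijective _ _).surjective
      (x : Ext (freeSheaf J (u.obj V.unop)) F 0)
    have h1 : ∀ (G : Sheaf J AddCommGrpCat.{u}) (U : C) (b : freeSheaf J U ⟶ G),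
        Ext.addEquiv₀ (Ext.mk₀ b) = b :=
      fun G U b => Ext.addEquiv₀.apply_symm_apply b
    show secEquiv _ F' (Ext.addEquiv₀ ((Ext.mk₀ a).comp (Ext.mk₀ φ) (add_zero 0))) =
      φ.hom.app (op (u.obj V.unop)) (secEquiv _ F (Ext.addEquiv₀ (Ext.mk₀ a)))
    rw [Ext.mk₀_comp_mk₀, h1, h1, secEquiv_comp]
    rfl)

/-- `R^0 f_*` is the sheafification of `V ↦ H^0(uV, -)`, naturally. -/
noncomputable def RpushZeroIso :
    Psh J u 0 ⋙ presheafToSheaf K AddCommGrpCat.{u} ≅ CohSite.Rpush J K u 0 :=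
  Functor.isoWhiskerRight (βNat J K u) _ ≪≫ Functor.associator _ _ _ ≪≫
    Functor.isoWhiskerLeft (CohSite.push J K u)
      (asIso (sheafificationAdjunction K AddCommGrpCat.{u}).counit) ≪≫
    Functor.rightUnitor _ ≪≫ (CohSite.push J K u).rightDerivedZeroIsoSelf.symm

/-- `R^p f_*` is the sheafification of `V ↦ H^p(uV, -)`, naturally. -/
noncomputable def RpushIso : ∀ p : ℕ,
    Psh J u p ⋙ presheafToSheaf K AddCommGrpCat.{u} ≅ CohSite.Rpush J K u p
  | 0 => RpushZeroIso J K u
  | q + 1 => RpushSuccIso J K u q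

end NatIso

end Groth.Agent.RpushSheafify
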