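import Groth.Agent.Lib.PushTotAcyclic
set_option autoImplicit false
universe u
open CategoryTheory Limits Opposite Abelian

namespace Groth.Agent.TotRestr

variable {C : Type u} [SmallCategory C] {J : GrothendieckTopology C}

/-- the free abelian sheaf functor on sheaves of sets. -/
noncomputable abbrev Fr (J : GrothendieckTopology C) : Sheaf J (Type u) ⥤ Sheaf J AddCommGrpCat.{u} :=
  sheafToPresheaf J (Type u) ⋙ (Functor.whiskeringRight _ _ _).obj AddCommGrpCat.free.{u} ⋙
    presheafToSheaf J AddCommGrpCat.{u}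

instance : (Fr J).IsLeftAdjoint := (PushTot.freeAdj J).isLeftAdjoint

instance : (Fr J).PreservesMonomorphisms := by
  have h1 : (sheafToPresheaf J (Type u)).PreservesMonomorphisms := inferInstance
  have h2 : ((Functor.whiskeringRight Cᵒᵖ _ _).obj AddCommGrpCat.free.{u}).PreservesMonomorphisms := by
    constructor
    intro P Q f hf
    have : ∀ V, Mono (f.app V) := fun V => inferInstance
    have : ∀ V, Mono ((((Functor.whiskeringRight Cᵒᵖ _ _).obj AddCommGrpCat.free.{u}).map f).app V) := by
      intro V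
      show Mono (AddCommGrpCat.free.map (f.app V))
      infer_instance
    exact NatTrans.mono_of_mono_app _
  have h3 : (presheafToSheaf J AddCommGrpCat.{u}).PreservesMonomorphisms := inferInstance
  infer_instance

/-- abstract extension lemma: in a pushout square with `f` mono and `g` factoring through `f`,
maps out of the corner extend along `f` to objects with no `Ext¹` from the pushout. -/
theorem exists_extension_of_isPushout {𝒜 : Type*} [Category 𝒜] [Abelian 𝒜] [HasExt 𝒜]
    {A₁ A₂ A₃ A₄ F : 𝒜} (f : A₁ ⟶ A₂) (g : A₁ ⟶ A₃) (inl : A₂ ⟶ A₄) (inr : A₃ ⟶ A₄)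
    (hA : IsPushout f g inl inr) [Mono f] (t : A₂ ⟶ A₃) (ht : f ≫ t = g)
    (hsub : Subsingleton (Ext A₄ F 1)) (a : A₁ ⟶ F) : ∃ b : A₂ ⟶ F, f ≫ b = a := by
  have hex : hA.shortComplex.Exact :=
    ShortComplex.exact_of_g_is_cokernel _ hA.isColimitCokernelCofork
  have hm : Mono hA.shortComplex.f := by
    have : Mono (hA.shortComplex.f ≫ biprod.fst) := by
      show Mono (biprod.lift f (-g) ≫ biprod.fst)
      rw [biprod.lift_fst]
      infer_instance
    exact mono_of_mono _ biprod.fst
  have he : Epi hA.shortComplex.g := hA.epi_shortComplex_g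
  have hS : hA.shortComplex.ShortExact := ShortComplex.ShortExact.mk hex
  obtain ⟨x₂, hx₂⟩ := Ext.contravariant_sequence_exact₁ hS F (Ext.mk₀ a) (rfl : 1 + 0 = 1)
    (@Subsingleton.elim _ hsub _ _)
  obtain ⟨c, rfl⟩ := (Ext.mk₀_bijective _ _).surjective x₂
  rw [Ext.mk₀_comp_mk₀] at hx₂
  have hc : biprod.lift f (-g) ≫ c = a := (Ext.mk₀_bijective _ _).injective hx₂
  refine ⟨biprod.inl ≫ c - t ≫ biprod.inr ≫ c, ?_⟩
  rw [← hc, Preadditive.comp_sub]
  have h1 : biprod.lift f (-g) = f ≫ biprod.inl - (f ≫ t) ≫ biprod.inr := by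
    apply biprod.hom_ext <;> simp [ht]
  rw [h1, Preadditive.sub_comp]
  simp only [Category.assoc]

theorem restriction_surjective (F : Sheaf J AddCommGrpCat.{u}) (hF : CohCx.IsTotallyAcyclic F)
    {Y X : Sheaf J (Type u)} (ι : Y ⟶ X) [Mono ι] (a : (Fr J).obj Y ⟶ F) :
    ∃ b : (Fr J).obj X ⟶ F, (Fr J).map ι ≫ b = a := by
  have h : IsPushout ι (terminal.from Y) (pushout.inl ι (terminal.from Y))
      (pushout.inr ι (terminal.from Y)) := IsPushout.of_hasPushout ι _
  have hA := h.map (Fr J)
  have hmι : Mono ((Fr J).map ι) := inferInstance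
  refine exists_extension_of_isPushout _ _ _ _ hA ((Fr J).map (terminal.from X)) ?_
    (hF (pushout ι (terminal.from Y)) 0) a
  rw [← Functor.map_comp]
  congr 1
  exact Subsingleton.elim _ _

end Groth.Agent.TotRestr
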