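import Mathlib

set_option autoImplicit false
open CategoryTheory CategoryTheory.Limits Opposite
universe v u

namespace Groth.Agent.TruncFin

noncomputable def finCat (J : Type) [SmallCategory J] [Finite J] [∀ a b : J, Finite (a ⟶ b)] :
    FinCategory J :=
  { fintypeObj := Fintype.ofFinite J, fintypeHom := fun a b => Fintype.ofFinite _ }

instance finiteTrunc (m : ℕ) : Finite (SimplexCategory.Truncated m) :=
  Finite.of_injective
    (fun a : SimplexCategory.Truncated m => (⟨a.obj.len, Nat.lt_succ_of_le a.property⟩ : Fin (m+1)))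
    (by
      intro a b h
      simp only [Fin.mk.injEq] at h
      exact ObjectProperty.FullSubcategory.ext (SimplexCategory.ext h))

instance finiteTruncHom (m : ℕ) (a b : SimplexCategory.Truncated m) : Finite (a ⟶ b) :=
  Finite.of_injective (fun f : a ⟶ b => (SimplexCategory.Truncated.inclusion m).map f)
    (fun f g h => (SimplexCategory.Truncated.inclusion m).map_injective h)

instance finiteOp {A : Type*} [Finite A] : Finite Aᵒᵖ :=
  Finite.of_injective (fun a : Aᵒᵖ => a.unop) (fun a b h => Opposite.unop_injective h)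

instance finiteOpHom {A : Type*} [Category A] [∀ a b : A, Finite (a ⟶ b)] (a b : Aᵒᵖ) :
    Finite (a ⟶ b) :=
  Finite.of_injective (fun f : a ⟶ b => f.unop) (fun f g h => Quiver.Hom.unop_inj h)

instance finiteSA {A B : Type*} [Category A] [Category B] [Finite A]
    [∀ a b : B, Finite (a ⟶ b)] (L : A ⥤ B) (Y : B) : Finite (StructuredArrow Y L) :=
  Finite.of_injective (fun f : StructuredArrow Y L => (⟨f.right, f.hom⟩ : Σ X, (Y ⟶ L.obj X)))
    (by
      rintro ⟨⟨⟨⟩⟩, r, h⟩ ⟨⟨⟨⟩⟩, r', h'⟩ e
      simp only [Sigma.mk.injEq] at e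
      obtain ⟨rfl, e2⟩ := e
      simp only [heq_eq_eq] at e2
      subst e2
      rfl)

instance finiteSAHom {A B : Type*} [Category A] [Category B]
    [∀ a b : A, Finite (a ⟶ b)] (L : A ⥤ B) (Y : B) (f g : StructuredArrow Y L) :
    Finite (f ⟶ g) :=
  Finite.of_injective (fun φ : f ⟶ g => φ.right) (fun φ ψ h => StructuredArrow.ext _ _ h)

instance finiteCSA {A B : Type*} [Category A] [Category B] [Finite A]
    [∀ a b : B, Finite (a ⟶ b)] (L : A ⥤ B) (Y : B) : Finite (CostructuredArrow L Y) :=
  Finite.of_injective (fun f : CostructuredArrow L Y => (⟨f.left, f.hom⟩ : Σ X, (L.obj X ⟶ Y)))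
    (by
      rintro ⟨l, ⟨⟨⟩⟩, h⟩ ⟨l', ⟨⟨⟩⟩, h'⟩ e
      simp only [Sigma.mk.injEq] at e
      obtain ⟨rfl, e2⟩ := e
      simp only [heq_eq_eq] at e2
      subst e2
      rfl)

instance finiteCSAHom {A B : Type*} [Category A] [Category B]
    [∀ a b : A, Finite (a ⟶ b)] (L : A ⥤ B) (Y : B) (f g : CostructuredArrow L Y) :
    Finite (f ⟶ g) :=
  Finite.of_injective (fun φ : f ⟶ g => φ.left) (fun φ ψ h => CostructuredArrow.ext _ _ h)

theorem right {C : Type u} [Category.{v} C] [HasFiniteLimits C] (m : ℕ)
    (U : (SimplexCategory.Truncated m)ᵒᵖ ⥤ C) :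
    (SimplexCategory.Truncated.inclusion m).op.HasPointwiseRightKanExtension U := by
  intro Y
  haveI : FinCategory (StructuredArrow Y (SimplexCategory.Truncated.inclusion m).op) := finCat _
  change HasLimit _
  infer_instance

theorem left {C : Type u} [Category.{v} C] [HasFiniteColimits C] (m : ℕ)
    (U : (SimplexCategory.Truncated m)ᵒᵖ ⥤ C) :
    (SimplexCategory.Truncated.inclusion m).op.HasPointwiseLeftKanExtension U := by
  intro Y
  haveI : FinCategory (CostructuredArrow (SimplexCategory.Truncated.inclusion m).op Y) := finCat _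
  change HasColimit _
  infer_instance

end Groth.Agent.TruncFin
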