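import Mathlib
import Groth.Prelude.Def_Pi1

/-! Descent along universally injective ring maps (`Pi1.UnivInjective`). -/

open scoped TensorProduct

universe u

namespace Groth.Agent.Lib.UnivInj

variable {R S : Type u} [CommRing R] [CommRing S] [Algebra R S]

/-- If `S ⊗ Q = 0` and `R → S` is universally injective then `Q = 0`. -/
theorem subsingleton_of_tensor (h : Pi1.UnivInjective R S) (Q : Type u) [AddCommGroup Q] [Module R Q]
    (hQ : Subsingleton (S ⊗[R] Q)) : Subsingleton Q := by
  have hinj := h Q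
  have h1 : Subsingleton (Q ⊗[R] S) := (TensorProduct.comm R Q S).toEquiv.subsingleton
  have h2 : Subsingleton (Q ⊗[R] R) := hinj.subsingleton
  exact (TensorProduct.rid R Q).symm.toEquiv.subsingleton

/-- A submodule whose base change surjects onto the base change of the whole module is everything. -/
theorem eq_top_of_lTensor_surjective (h : Pi1.UnivInjective R S) {M : Type u} [AddCommGroup M]
    [Module R M] (M' : Submodule R M)
    (hsurj : Function.Surjective (LinearMap.lTensor S M'.subtype)) : M' = ⊤ := by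
  rw [← Submodule.Quotient.subsingleton_iff]
  apply subsingleton_of_tensor h
  refine ⟨fun a b => ?_⟩
  have key : ∀ z : S ⊗[R] (M ⧸ M'), z = 0 := by
    intro z
    obtain ⟨x, rfl⟩ := LinearMap.lTensor_surjective S M'.mkQ_surjective z
    obtain ⟨y, rfl⟩ := hsurj x
    rw [← LinearMap.comp_apply, ← LinearMap.lTensor_comp]
    have : M'.mkQ ∘ₗ M'.subtype = 0 := by
      ext m; simp
    rw [this, LinearMap.lTensor_zero, LinearMap.zero_apply]
  rw [key a, key b]

/-- If `R → S` is universally injective, `K'` a submodule of `N` and `1 ⊗ x` lies in the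
image of `S ⊗ K' → S ⊗ N`, then `x ∈ K'`. -/
theorem mem_of_tmul_mem_range
    (h : Pi1.UnivInjective R S) {N : Type u} [AddCommGroup N] [Module R N]
    (K' : Submodule R N) (x : N)
    (hx : (1 : S) ⊗ₜ[R] x ∈ LinearMap.range (LinearMap.lTensor S K'.subtype)) : x ∈ K' := by
  obtain ⟨y, hy⟩ := hx
  have h0 : (1 : S) ⊗ₜ[R] (K'.mkQ x) = 0 := by
    have : (1 : S) ⊗ₜ[R] (K'.mkQ x) = LinearMap.lTensor S K'.mkQ ((1 : S) ⊗ₜ[R] x) := by simp
    rw [this, ← hy, ← LinearMap.comp_apply, ← LinearMap.lTensor_comp]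
    have : K'.mkQ ∘ₗ K'.subtype = 0 := by
      ext m; simp
    rw [this, LinearMap.lTensor_zero, LinearMap.zero_apply]
  have hinj := h (N ⧸ K')
  have h1 : LinearMap.lTensor (N ⧸ K') (Algebra.linearMap R S) ((K'.mkQ x) ⊗ₜ[R] (1 : R)) = 0 := by
    simp only [LinearMap.lTensor_tmul, Algebra.linearMap_apply, map_one]
    have := congrArg (TensorProduct.comm R S (N ⧸ K')) h0
    simpa using this
  have h2 : (K'.mkQ x) ⊗ₜ[R] (1 : R) = 0 := hinj (by rw [h1, map_zero])
  have h3 := congrArg (TensorProduct.rid R (N ⧸ K')) h2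
  simp only [TensorProduct.rid_tmul, one_smul, map_zero] at h3
  exact (Submodule.Quotient.mk_eq_zero K').mp h3

end Groth.Agent.Lib.UnivInj
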